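import Cfsg.Agent.Lib.Perm.Trans.ThreeRes.NoTv.Frame
import Cfsg.Agent.Lib.Perm.Trans.ThreeDim.Average

/-!
# The four involutions act irreducibly on the trace zero matrices
-/

set_option autoImplicit false
set_option linter.all false

namespace CfsgLib.Perm.Trans.ThreeRes

open scoped Matrix
open Matrix CfsgLib.Perm.Trans.ThreeDim

variable {F : Type*} [Field F]

local notation "M3" => Matrix (Fin 3) (Fin 3) F

theorem conj_T (A : M3) (i j : Fin 3) :
    (mT F * A * mT F) i j = (![-1, -1, 1] : Fin 3 → F) i * A i j * (![-1, -1, 1] : Fin 3 → F) j := by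
  rw [mT_eq, Matrix.mul_diagonal, Matrix.diagonal_mul]

theorem conj_B (A : M3) (i j : Fin 3) :
    (mB F * A * mB F) i j = (![-1, 1, -1] : Fin 3 → F) i * A i j * (![-1, 1, -1] : Fin 3 → F) j := by
  rw [mB_eq, Matrix.mul_diagonal, Matrix.diagonal_mul]

/-- the exchange of the first two coordinates -/
theorem conj_W (A : M3) :
    mW F * A * mW F = !![A 1 1, A 1 0, -A 1 2; A 0 1, A 0 0, -A 0 2; -A 2 1, -A 2 0, A 2 2] := by
  ext i j
  fin_cases i <;> fin_cases j <;> simp [mW, Matrix.mul_apply, Matrix.vecMul, dotProduct, Fin.sum_univ_three]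

/-- the exchange of the last two coordinates -/
theorem conj_K (A : M3) :
    mK F * A * mK F = !![A 0 0, -A 0 2, -A 0 1; -A 2 0, A 2 2, A 2 1; -A 1 0, A 1 2, A 1 1] := by
  ext i j
  fin_cases i <;> fin_cases j <;> simp [mK, Matrix.mul_apply, Matrix.vecMul, dotProduct, Fin.sum_univ_three]

/-- the symmetric and antisymmetric pair and the diagonal -/
def mS (F : Type*) [Field F] : Matrix (Fin 3) (Fin 3) F := !![0, 1, 0; 1, 0, 0; 0, 0, 0]

/-- antisymmetric -/
def mA (F : Type*) [Field F] : Matrix (Fin 3) (Fin 3) F := !![0, 1, 0; -1, 0, 0; 0, 0, 0]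

/-- diagonal -/
def mH (F : Type*) [Field F] : Matrix (Fin 3) (Fin 3) F := !![1, 0, 0; 0, -1, 0; 0, 0, 0]

theorem shape_S (h20 : (2 : F) ≠ 0) {Y : M3} (hT : mT F * Y * mT F = Y) (hB : mB F * Y * mB F = -Y)
    (hW : mW F * Y * mW F = Y) : Y = (Y 0 1) • mS F := by
  have two : ∀ x : F, x = -x → x = 0 := fun x h =>
    (mul_eq_zero.1 (by linear_combination h : 2 * x = 0)).resolve_left h20
  ext i j
  have t1 := congrFun (congrFun hT i) j
  have b1 := congrFun (congrFun hB i) j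
  have w1 := congrFun (congrFun hW i) j
  rw [conj_T] at t1; rw [conj_B, Matrix.neg_apply] at b1; rw [conj_W] at w1
  fin_cases i <;> fin_cases j <;> simp [mS] at t1 b1 w1 ⊢ <;> grind

theorem shape_A (h20 : (2 : F) ≠ 0) {Y : M3} (hT : mT F * Y * mT F = Y) (hB : mB F * Y * mB F = -Y)
    (hW : mW F * Y * mW F = -Y) : Y = (Y 0 1) • mA F := by
  have two : ∀ x : F, x = -x → x = 0 := fun x h =>
    (mul_eq_zero.1 (by linear_combination h : 2 * x = 0)).resolve_left h20
  ext i j
  have t1 := congrFun (congrFun hT i) j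
  have b1 := congrFun (congrFun hB i) j
  have w1 := congrFun (congrFun hW i) j
  rw [conj_T] at t1; rw [conj_B, Matrix.neg_apply] at b1; rw [conj_W, Matrix.neg_apply] at w1
  fin_cases i <;> fin_cases j <;> simp [mA] at t1 b1 w1 ⊢ <;> grind

theorem shape_H (h20 : (2 : F) ≠ 0) {Y : M3} (hT : mT F * Y * mT F = Y) (hB : mB F * Y * mB F = Y)
    (hW : mW F * Y * mW F = -Y) : Y = (Y 0 0) • mH F := by
  have two : ∀ x : F, x = -x → x = 0 := fun x h =>
    (mul_eq_zero.1 (by linear_combination h : 2 * x = 0)).resolve_left h20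
  ext i j
  have t1 := congrFun (congrFun hT i) j
  have b1 := congrFun (congrFun hB i) j
  have w1 := congrFun (congrFun hW i) j
  rw [conj_T] at t1; rw [conj_B] at b1; rw [conj_W, Matrix.neg_apply] at w1
  fin_cases i <;> fin_cases j <;> simp [mH] at t1 b1 w1 ⊢ <;> grind

theorem conj_mV_mH (h20 : (2 : F) ≠ 0) {s : F} (hs : s * s = -2) :
    mV s * mH F * mV s = (-(1 / 2) : F) • mH F + (-(1 / 2) : F) • mS F + (s / 2) • mA F := by
  ext i j
  fin_cases i <;> fin_cases j <;> simp [mV, mH, mS, mA, Matrix.mul_apply, Fin.sum_univ_three] <;>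
    field_simp <;> first | linear_combination hs | linear_combination -hs | ring

theorem decomp (h20 : (2 : F) ≠ 0) {Z : M3} (hZ : Z 0 0 + Z 1 1 + Z 2 2 = 0) :
    Z = ((Z 0 1 + Z 1 0) / 2) • mS F + ((Z 0 1 - Z 1 0) / 2) • mA F + (-(Z 0 2 + Z 2 0) / 2) • (mK F * mS F * mK F) +
      (-(Z 0 2 - Z 2 0) / 2) • (mK F * mA F * mK F) + ((Z 1 2 + Z 2 1) / 2) • (mW F * (mK F * mS F * mK F) * mW F) +
      ((Z 1 2 - Z 2 1) / 2) • (mW F * (mK F * mA F * mK F) * mW F) + (-(Z 1 1)) • mH F +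
      (Z 0 0 + Z 1 1) • (mK F * mH F * mK F) := by
  simp only [conj_K, conj_W]
  ext i j
  fin_cases i <;> fin_cases j <;> simp [mS, mA, mH] <;> field_simp <;>
    first | linear_combination hZ | linear_combination 2 * hZ | ring

theorem adSimple_gens (h20 : (2 : F) ≠ 0) {s : F} (hs : s * s = -2) {K0 : Subgroup (GL (Fin 3) F)}
    {t w k v : GL (Fin 3) F} (R : Gens t w k v) (hm : t ∈ K0 ∧ w ∈ K0 ∧ k ∈ K0 ∧ v ∈ K0)
    (mt : (t : M3) = mT F) (mw : (w : M3) = mW F) (mk : (k : M3) = mK F) (mv : (v : M3) = mV s) :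
    AdSimple K0 := by
  intro f hf hf1
  have hinv : ∀ x : GL (Fin 3) F, x * x = 1 → x ∈ K0 → ∀ A, f ((x : M3) * A * (x : M3)) = (x : M3) * f A * (x : M3) := by
    intro x hx hxK A
    have := hf x hxK A
    rwa [inv_eq_of_mul_eq_one_right hx] at this
  have cT := hinv t R.tt hm.1
  have cW := hinv w R.ww hm.2.1
  have cK := hinv k R.kk hm.2.2.1
  have cV := hinv v R.vv hm.2.2.2
  rw [mt] at cT; rw [mw] at cW; rw [mk] at cK; rw [mv] at cV
  have hB : mB F = mK F * mT F * mK F := by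
    ext i j; fin_cases i <;> fin_cases j <;> simp [mB, mT, mK, Matrix.mul_apply, Fin.sum_univ_three]
  have cB : ∀ A, f (mB F * A * mB F) = mB F * f A * mB F := fun A => by
    have e : ∀ X : M3, mB F * X * mB F = mK F * (mT F * (mK F * X * mK F) * mT F) * mK F := fun X => by
      simp only [hB, mul_assoc]
    rw [e, e, cK, cT, cK]
  have two : ∀ x : F, x = -x → x = 0 := fun x h =>
    (mul_eq_zero.1 (by linear_combination h : 2 * x = 0)).resolve_left h20
  have hfS : f (mS F) = (f (mS F)) 0 1 • mS F := shape_S h20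
    (by rw [← cT]; congr 1; ext i j; rw [conj_T]; fin_cases i <;> fin_cases j <;> simp [mS])
    (by rw [← cB, ← map_neg]; congr 1; ext i j; rw [conj_B]; fin_cases i <;> fin_cases j <;> simp [mS])
    (by rw [← cW]; congr 1; rw [conj_W]; ext i j; fin_cases i <;> fin_cases j <;> simp [mS])
  have hfA : f (mA F) = (f (mA F)) 0 1 • mA F := shape_A h20
    (by rw [← cT]; congr 1; ext i j; rw [conj_T]; fin_cases i <;> fin_cases j <;> simp [mA])
    (by rw [← cB, ← map_neg]; congr 1; ext i j; rw [conj_B]; fin_cases i <;> fin_cases j <;> simp [mA])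
    (by rw [← cW, ← map_neg]; congr 1; rw [conj_W]; ext i j; fin_cases i <;> fin_cases j <;> simp [mA])
  have hfH : f (mH F) = (f (mH F)) 0 0 • mH F := shape_H h20
    (by rw [← cT]; congr 1; ext i j; rw [conj_T]; fin_cases i <;> fin_cases j <;> simp [mH])
    (by rw [← cB]; congr 1; ext i j; rw [conj_B]; fin_cases i <;> fin_cases j <;> simp [mH])
    (by rw [← cW, ← map_neg]; congr 1; rw [conj_W]; ext i j; fin_cases i <;> fin_cases j <;> simp [mH])
  obtain ⟨a, ha⟩ : ∃ a, a = (f (mS F)) 0 1 := ⟨_, rfl⟩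
  obtain ⟨b, hb⟩ : ∃ b, b = (f (mA F)) 0 1 := ⟨_, rfl⟩
  obtain ⟨c, hc⟩ : ∃ c, c = (f (mH F)) 0 0 := ⟨_, rfl⟩
  rw [← ha] at hfS; rw [← hb] at hfA; rw [← hc] at hfH
  have hs0 : s ≠ 0 := fun e => h20 (by rw [e, mul_zero] at hs; linear_combination hs)
  have hVH := conj_mV_mH h20 hs
  have hmix := cV (mH F)
  rw [hVH, hfH, map_add, map_add, map_smul, map_smul, map_smul, hfS, hfA, hfH, Matrix.mul_smul, Matrix.smul_mul,
    hVH] at hmix
  have m01 := congrFun (congrFun hmix 0) 1
  have m10 := congrFun (congrFun hmix 1) 0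
  simp [mH, mS, mA] at m01 m10
  have hca : a = c := by
    field_simp at m01 m10
    refine mul_left_cancel₀ h20 ?_
    linear_combination -m01 - m10
  have hcb : b = c := by
    field_simp at m01 m10
    refine mul_left_cancel₀ (mul_ne_zero h20 hs0) ?_
    linear_combination m01 - m10
  rw [hca] at hfS
  rw [hcb] at hfA
  -- conjugates
  obtain ⟨X, hX⟩ : ∃ X : M3, X = mK F * mH F * mK F := ⟨_, rfl⟩
  have hfX : f X = c • X := by rw [hX, cK, hfH, Matrix.mul_smul, Matrix.smul_mul]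
  have hfK : ∀ Z : M3, f Z = c • Z → f (mK F * Z * mK F) = c • (mK F * Z * mK F) := fun Z h => by
    rw [cK, h, Matrix.mul_smul, Matrix.smul_mul]
  have hfW : ∀ Z : M3, f Z = c • Z → f (mW F * Z * mW F) = c • (mW F * Z * mW F) := fun Z h => by
    rw [cW, h, Matrix.mul_smul, Matrix.smul_mul]
  have g1 := hfK _ hfS
  have g2 := hfK _ hfA
  have g3 := hfW _ g1
  have g4 := hfW _ g2
  refine ⟨c, fun Z hZ => ?_⟩
  rw [Matrix.trace_fin_three] at hZ
  have hdec := decomp h20 hZ
  rw [← hX] at hdec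
  rw [hdec]
  simp only [map_add, map_smul, hfS, hfA, hfH, hfX, g1, g2, g3, g4, smul_add, smul_smul, mul_comm c]

end CfsgLib.Perm.Trans.ThreeRes
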