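import Cfsg.Agent.Lib.Perm.Trans.ThreeRes.NoTv.Setup
import Cfsg.Agent.S0201

/-!
# Cyclic, abelian and quaternion Sylow two-subgroups do not occur
-/

set_option autoImplicit false
set_option linter.all false

namespace CfsgLib.Perm.Trans.ThreeRes

open scoped Matrix
open Matrix Cfsg.Geo

variable {F : Type*} [Field F] [Finite F] {P : Subgroup (GL (Fin 3) F)}

theorem two_dvd_sylow (hP : Quasi P) [Fact (Nat.Prime 2)] (S : Sylow 2 P) : 2 ∣ Nat.card (S : Subgroup P) :=
  S.dvd_card_of_dvd_card hP.two_dvd_card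

/-- no normal two-complement -/
theorem not_burnside (hP : Quasi P) [Fact (Nat.Prime 2)] (S : Sylow 2 P)
    (h : Subgroup.normalizer (S : Set P) ≤ Subgroup.centralizer (S : Set P)) : False := by
  have hc := MonoidHom.ker_transferSylow_isComplement' S h
  have h2 := two_dvd_sylow hP S
  have hmul := hc.card_mul_card
  rcases hP.normal_cases (MonoidHom.transferSylow S h).ker with hN | hN
  · haveI := hP.simple
    have hZ : IsPGroup 2 (P ⧸ Socle.scal P) := by
      have hall : ∀ g : P, ∃ s ∈ (S : Subgroup P), (g : P ⧸ Socle.scal P) = s := by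
        intro g
        obtain ⟨⟨⟨n, hn⟩, ⟨s, hs⟩⟩, e, -⟩ := Subgroup.isComplement_iff_existsUnique.1 hc g
        refine ⟨s, hs, ?_⟩
        rw [← e, QuotientGroup.mk_mul, (QuotientGroup.eq_one_iff (N := Socle.scal P) n).2 (hN hn), one_mul]
      intro q
      obtain ⟨g, rfl⟩ := QuotientGroup.mk_surjective q
      obtain ⟨s, hs, e⟩ := hall g
      obtain ⟨k, hk⟩ := S.2 ⟨s, hs⟩
      exact ⟨k, by rw [e, ← QuotientGroup.mk_pow, show s ^ 2 ^ k = 1 from congrArg Subtype.val hk, QuotientGroup.mk_one]⟩
    haveI : Nontrivial (P ⧸ Socle.scal P) := hP.simple.toNontrivial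
    haveI := hZ.center_nontrivial
    rcases IsSimpleGroup.eq_bot_or_eq_top_of_normal (Subgroup.center (P ⧸ Socle.scal P)) inferInstance with e | e
    · exact (Subgroup.nontrivial_iff_ne_bot _).1 inferInstance e
    · exact hP.nonabelian ⟨⟨fun a b => (Subgroup.mem_center_iff.1 (e ▸ Subgroup.mem_top b : b ∈ Subgroup.center _) a)⟩⟩
  · rw [hN, Subgroup.card_top] at hmul
    have h1 : Nat.card (S : Subgroup P) = 1 := by
      have := Nat.eq_of_mul_eq_mul_left Nat.card_pos (hmul.trans (mul_one _).symm)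
      exact this
    rw [h1] at h2
    norm_num at h2

theorem not_cyclic (hP : Quasi P) [Fact (Nat.Prime 2)] (S : Sylow 2 P) (h : IsCyclic (S : Subgroup P)) : False :=
  not_burnside hP S (IsCyclic.normalizer_le_centralizer ((Nat.minFac_eq_two_iff _).2 hP.two_dvd_card) h)

/-- an automorphism of odd order of a small abelian two-group is trivial -/
theorem odd_auto_trivial {A : Type*} [CommGroup A] [Finite A] (h2 : IsPGroup 2 A) (h4 : Nat.card {z : A // z * z = 1} ≤ 4)
    (hex : ∃ z : A, (z * z) * (z * z) = 1 ∧ z * z ≠ 1)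
    (huniq : ∀ z z' : A, (z * z) * (z * z) = 1 → z * z ≠ 1 → (z' * z') * (z' * z') = 1 → z' * z' ≠ 1 → z * z = z' * z')
    (α : A ≃* A) {m : ℕ} (hm : Odd m) (hαm : ∀ x, α^[m] x = x) (x : A) : α x = x := by
  classical
  obtain ⟨z0, hz0, hz1⟩ := hex
  obtain ⟨w, hw⟩ : ∃ w, w = z0 * z0 := ⟨_, rfl⟩
  have hαw : α w = w := by
    rw [hw, map_mul]
    exact huniq _ _ (by rw [← map_mul, ← map_mul, hz0, map_one])
      (by rw [← map_mul]; exact fun e => hz1 (α.injective (e.trans (map_one α).symm))) hz0 hz1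
  have hw1 : w ≠ 1 := hw ▸ hz1
  have hww : w * w = 1 := hw ▸ hz0
  have hinv : ∀ e : A, e * e = 1 → α e = e := by
    intro e he
    by_contra hne
    have hαe : α e * α e = 1 := by rw [← map_mul, he, map_one]
    have hmem : α e = 1 ∨ α e = w ∨ α e = e * w := by
      by_contra hcon
      push Not at hcon
      have he1 : e ≠ 1 := fun e' => hne (by rw [e', map_one])
      have hew : e ≠ w := fun e' => hne (by rw [e', hαw])
      have hsub : ({1, w, e, e * w, α e} : Finset A) ⊆ (Set.toFinite {z : A | z * z = 1}).toFinset := by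
        intro z hz
        rw [Set.Finite.mem_toFinset]
        simp only [Finset.mem_insert, Finset.mem_singleton] at hz
        rcases hz with rfl | rfl | rfl | rfl | rfl
        · exact mul_one 1
        · exact hww
        · exact he
        · show e * w * (e * w) = 1
          rw [mul_mul_mul_comm, he, hww, mul_one]
        · exact hαe
      have h5 : ({1, w, e, e * w, α e} : Finset A).card = 5 := by
        have e1 : e * w ≠ 1 := fun h => hew (by rw [← mul_one w, ← he, mul_left_comm, mul_comm w e, h, mul_one])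
        rw [Finset.card_insert_of_notMem (by simp [hw1.symm, he1.symm, e1.symm, hcon.1.symm]),
          Finset.card_insert_of_notMem (by simp [hew.symm, he1, hcon.2.1.symm]),
          Finset.card_insert_of_notMem (by simp [hw1, Ne.symm hne]),
          Finset.card_insert_of_notMem (by simp [hcon.2.2.symm]), Finset.card_singleton]
      have := Finset.card_le_card hsub
      rw [h5, ← Set.ncard_eq_toFinset_card, ← Nat.card_coe_set_eq] at this
      exact absurd (this.trans h4) (by norm_num)
    rcases hmem with h | h | h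
    · exact hne (by rw [h, ← α.injective (h.trans (map_one α).symm)])
    · exact hne (by rw [h, ← α.injective (h.trans hαw.symm)])
    · obtain ⟨l, hl⟩ := hm
      have key : ∀ l, α^[2 * l + 1] e = e * w := fun l => by
        induction l with
        | zero => exact h
        | succ l ih =>
          rw [show 2 * (l + 1) + 1 = (2 * l + 1) + 1 + 1 by ring, Function.iterate_succ_apply',
            Function.iterate_succ_apply', ih, map_mul, h, hαw, mul_assoc, hww, mul_one, h]
      have h1 := hαm e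
      rw [hl, key] at h1
      exact hne (by rw [h, h1])
  obtain ⟨k, hk⟩ := h2 x
  induction k generalizing x with
  | zero => rw [pow_zero, pow_one] at hk; rw [hk, map_one]
  | succ k ih =>
    have hxx := ih (x * x) (by rw [← pow_two, ← pow_mul, ← pow_succ']; exact hk)
    obtain ⟨d, hd⟩ : ∃ d, d = x⁻¹ * α x := ⟨_, rfl⟩
    have hdd : d * d = 1 := by
      rw [hd, mul_mul_mul_comm, ← map_mul, hxx, ← _root_.mul_inv_rev, inv_mul_cancel]
    have hαd := hinv d hdd
    have hit : ∀ i, α^[i] x = x * d ^ i := fun i => by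
      induction i with
      | zero => simp
      | succ i ihi =>
        rw [Function.iterate_succ_apply', ihi, map_mul, map_pow, hαd, pow_succ', ← mul_assoc, hd, mul_inv_cancel_left]
    have h1 := hit m
    rw [hαm, left_eq_mul] at h1
    obtain ⟨l, rfl⟩ := hm
    rw [pow_succ, pow_mul, pow_two, hdd, one_pow, one_mul] at h1
    rw [h1] at hd
    exact (inv_mul_eq_one.1 hd.symm).symm

theorem not_abelian (hP : Quasi P) [Fact (Nat.Prime 2)] (S : Sylow 2 P)
    (hab : ∀ a b : (S : Subgroup P), a * b = b * a) (h4 : Nat.card {z : (S : Subgroup P) // z * z = 1} ≤ 4)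
    (hex : ∃ z : (S : Subgroup P), (z * z) * (z * z) = 1 ∧ z * z ≠ 1)
    (huniq : ∀ z z' : (S : Subgroup P), (z * z) * (z * z) = 1 → z * z ≠ 1 → (z' * z') * (z' * z') = 1 → z' * z' ≠ 1 →
      z * z = z' * z') : False := by
  refine not_burnside hP S fun g hg => ?_
  letI : CommGroup (S : Subgroup P) := { (inferInstance : Group (S : Subgroup P)) with mul_comm := hab }
  have hgS : ∀ x ∈ (S : Subgroup P), g * x * g⁻¹ ∈ (S : Subgroup P) := fun x hx =>
    (Subgroup.mem_normalizer_iff.1 hg x).1 hx
  have hgS' : ∀ x ∈ (S : Subgroup P), g⁻¹ * x * g ∈ (S : Subgroup P) := fun x hx =>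
    (Subgroup.mem_normalizer_iff.1 hg _).2 (by
      rw [show g * (g⁻¹ * x * g) * g⁻¹ = x by group]
      exact hx)
  obtain ⟨α, hα⟩ : ∃ α : (S : Subgroup P) ≃* (S : Subgroup P), ∀ x, (α x : P) = g * x * g⁻¹ :=
    ⟨{ toFun := fun x => ⟨g * x * g⁻¹, hgS x x.2⟩
       invFun := fun x => ⟨g⁻¹ * x * g, hgS' x x.2⟩
       left_inv := fun x => Subtype.ext (by show g⁻¹ * (g * (x : P) * g⁻¹) * g = x; group)
       right_inv := fun x => Subtype.ext (by show g * (g⁻¹ * (x : P) * g) * g⁻¹ = x; group)
       map_mul' := fun x y => Subtype.ext (by simp) }, fun x => rfl⟩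
  obtain ⟨e, m, hm, hgo⟩ := Nat.exists_eq_two_pow_mul_odd (orderOf_pos g).ne'
  have hit : ∀ (i : ℕ) (x : (S : Subgroup P)), ((α^[i] x : (S : Subgroup P)) : P) = g ^ i * x * (g ^ i)⁻¹ := by
    intro i x
    induction i with
    | zero => simp
    | succ i ih => rw [Function.iterate_succ_apply', hα, ih, pow_succ']; group
  have hgm : g ^ m ∈ (S : Subgroup P) := by
    have hp2 : IsPGroup 2 (Subgroup.zpowers (g ^ m)) := by
      rintro ⟨_, j, rfl⟩
      refine ⟨e, Subtype.ext ?_⟩
      show ((g ^ m) ^ j) ^ 2 ^ e = 1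
      rw [← zpow_natCast ((g ^ m) ^ j), ← _root_.zpow_mul, mul_comm, _root_.zpow_mul, zpow_natCast, ← pow_mul, mul_comm m,
        ← hgo, pow_orderOf_eq_one, _root_.one_zpow]
    have h := hp2.inf_normalizer_sylow S
    have hmem : g ^ m ∈ Subgroup.zpowers (g ^ m) ⊓ Subgroup.normalizer (S : Set P) :=
      ⟨Subgroup.mem_zpowers _, Subgroup.pow_mem _ hg m⟩
    rw [h] at hmem
    exact hmem.2
  have hαm : ∀ x, α^[m] x = x := fun x => Subtype.ext (by
    rw [hit]
    have := congrArg Subtype.val (hab ⟨g ^ m, hgm⟩ x)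
    simp only [Subgroup.coe_mul] at this
    rw [this, mul_inv_cancel_right])
  intro x hx
  have := congrArg Subtype.val (odd_auto_trivial S.2 h4 hex huniq α hm hαm ⟨x, hx⟩)
  rw [hα] at this
  exact (mul_inv_eq_iff_eq_mul.1 this).symm

theorem not_quaternion (hP : Quasi P) [Fact (Nat.Prime 2)] (S : Sylow 2 P) (n : ℕ)
    (e : (S : Subgroup P) ≃* QuaternionGroup (2 ^ (n + 1))) : False := by
  obtain ⟨T, ⟨f⟩⟩ := sylow_quot hP S
  haveI := hP.simple
  have h2 : 2 ∣ Nat.card (P ⧸ Socle.scal P) := by
    refine dvd_trans ?_ (Subgroup.card_subgroup_dvd_card (T : Subgroup (P ⧸ Socle.scal P)))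
    rw [← Nat.card_congr f.toEquiv]
    exact two_dvd_sylow hP S
  have h := Cfsg.Agent.S0201.result T n (f.symm.trans e) (fun N hN hodd => by
    rcases IsSimpleGroup.eq_bot_or_eq_top_of_normal N hN with h | h
    · exact h
    · rw [h, Subgroup.card_top] at hodd
      exact absurd (even_iff_two_dvd.2 h2) (Nat.not_even_iff_odd.2 hodd))
  rcases IsSimpleGroup.eq_bot_or_eq_top_of_normal (Subgroup.center (P ⧸ Socle.scal P)) inferInstance with e | e
  · rw [e, Subgroup.card_bot] at h; norm_num at h
  · exact hP.nonabelian ⟨⟨fun a b => (Subgroup.mem_center_iff.1 (e ▸ Subgroup.mem_top b : b ∈ Subgroup.center _) a)⟩⟩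

end CfsgLib.Perm.Trans.ThreeRes
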