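import Cfsg.Agent.Lib.Perm.Trans.ThreeRes.NoTv.Pair

/-!
# No homologies of large order

In a simple group without transvections there is no homology of projective order four or at least six.
-/

set_option autoImplicit false
set_option linter.all false

namespace CfsgLib.Perm.Trans.ThreeRes

open scoped Matrix
open Matrix Cfsg.Geo CfsgLib.Perm.Trans CfsgLib.Perm.Trans.ThreeDim CfsgLib.Perm.Asch

variable {F : Type*} [Field F] {P : Subgroup (GL (Fin 3) F)}

local notation "M3" => Matrix (Fin 3) (Fin 3) F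

theorem IsHom.conj_hom {a α b β : Fin 3 → F} {η ζ : F} (ha : IsHom P a α η) (hb : IsHom P b β ζ) :
    IsHom P (hm a α η *ᵥ b) (β ᵥ* hm a α η⁻¹) ζ := by
  obtain ⟨g, hg, s, hs⟩ := ha.2
  have hη : η ≠ 0 := fun e => by
    have h0 : (g : M3) *ᵥ a = 0 := by
      rw [hs, smul_mulVec, hm_mulVec, ha.1, e]; module
    have := gl_mulVec_eq_zero.1 h0
    have h1 := ha.1
    rw [this, dotProduct_zero] at h1
    exact zero_ne_one h1
  have hs0 : s ≠ 0 := fun e => g.ne_zero (by rw [hs, e, zero_smul])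
  have hinv : ((g⁻¹ : GL (Fin 3) F) : M3) = s⁻¹ • hm a α η⁻¹ := by
    refine Units.inv_eq_of_mul_eq_one_right ?_
    rw [hs, Matrix.smul_mul, Matrix.mul_smul, smul_smul, mul_inv_cancel₀ hs0, one_smul, hm_mul_hm ha.1,
      mul_inv_cancel₀ hη, hm_one]
  obtain ⟨h1, k, hk, t, ht⟩ := hb.conj hg
  rw [hs, hinv, smul_mulVec, vecMul_smul] at h1 ht
  rw [smul_dotProduct, dotProduct_smul, smul_smul, inv_mul_cancel₀ hs0, one_smul] at h1
  refine ⟨h1, k, hk, t, ?_⟩
  rw [ht]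
  congr 1
  rw [hm, hm]
  congr 2
  rw [vecMulVec_smul, smul_vecMulVec, smul_smul, inv_mul_cancel₀ hs0, one_smul]

theorem IsHom.sq {a α : Fin 3 → F} {ζ : F} (ha : IsHom P a α ζ) : IsHom P a α (ζ * ζ) := by
  obtain ⟨g, hg, s, hs⟩ := ha.2
  refine ⟨ha.1, g * g, P.mul_mem hg hg, s * s, ?_⟩
  rw [Units.val_mul, hs, Matrix.smul_mul, Matrix.mul_smul, smul_smul, hm_mul_hm ha.1]

theorem comm_zero {a α b β : Fin 3 → F} {ζ : F} (hαa : α ⬝ᵥ a = 1) (hβb : β ⬝ᵥ b = 1) (hζ : ζ ≠ 1)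
    (hc : hm a α ζ * hm b β ζ = hm b β ζ * hm a α ζ) (hli : LinearIndependent F ![a, b]) :
    α ⬝ᵥ b = 0 ∧ β ⬝ᵥ a = 0 := by
  have hv : ∀ v, ((α ⬝ᵥ b) * (β ⬝ᵥ v)) • a - ((β ⬝ᵥ a) * (α ⬝ᵥ v)) • b = 0 := by
    intro v
    have := congrArg (fun M : M3 => M *ᵥ v) hc
    simp only [← mulVec_mulVec, hm_mulVec, dotProduct_add, dotProduct_smul, smul_eq_mul] at this
    refine (smul_eq_zero.1 (?_ : ((ζ - 1) * (ζ - 1)) • _ = (0 : Fin 3 → F))).resolve_left
      (mul_ne_zero (sub_ne_zero.2 hζ) (sub_ne_zero.2 hζ))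
    linear_combination (norm := module) this
  have ha := LinearIndependent.pair_iff.1 hli
  constructor
  · have := hv b
    rw [hβb, mul_one, sub_eq_add_neg, ← neg_smul] at this
    exact (ha _ _ this).1
  · have := hv a
    rw [hαa, mul_one, sub_eq_add_neg, ← neg_smul] at this
    exact neg_eq_zero.1 (ha _ _ this).2

variable [Finite F] {p : ℕ} [hp : Fact p.Prime] [CharP F p]

/-- the product of a pair -/
theorem pair_value (hp2 : p ≠ 2) (hP : P ≤ specialLinear (Fin 3) F) (hno : NoTv P) {a α b β : Fin 3 → F} {ζ : F}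
    (hi : ζ * ζ = -1) (ha : IsHom P a α ζ) (hb : IsHom P b β ζ) (hli : LinearIndependent F ![a, b]) :
    2 * ((α ⬝ᵥ b) * (β ⬝ᵥ a)) = 0 ∨ 2 * ((α ⬝ᵥ b) * (β ⬝ᵥ a)) = 1 := by
  have h20 : (2 : F) ≠ 0 := Ring.two_ne_zero (fun e0 => hp2 ((CharP.eq F (ringChar.charP F) ‹CharP F p›).symm.trans e0))
  have hζ2 : ζ ^ 2 ≠ 1 := fun e => h20 (by linear_combination hi - e)
  rcases hom_pair hp2 hP hno ha hb hζ2 with h | ⟨-, -, -, -, h⟩
  · have := (comm_zero ha.1 hb.1 (fun e => hζ2 (by rw [e, one_pow])) h hli).1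
    left; rw [this, zero_mul, mul_zero]
  · exact Or.inr (h hi)

/-- three homologies of order four in general position with three nonzero products do not exist -/
theorem triangle (hp2 : p ≠ 2) (hP : P ≤ specialLinear (Fin 3) F) (hno : NoTv P) {a α b β c γ : Fin 3 → F} {ζ : F}
    (hi : ζ * ζ = -1) (ha : IsHom P a α ζ) (hb : IsHom P b β ζ) (hc : IsHom P c γ ζ)
    (hli : LinearIndependent F ![a, b, c])
    (hab : 2 * ((α ⬝ᵥ b) * (β ⬝ᵥ a)) = 1) (hbc : 2 * ((β ⬝ᵥ c) * (γ ⬝ᵥ b)) = 1)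
    (hac : 2 * ((α ⬝ᵥ c) * (γ ⬝ᵥ a)) = 1) : False := by
  have h20 : (2 : F) ≠ 0 := Ring.two_ne_zero (fun e0 => hp2 ((CharP.eq F (ringChar.charP F) ‹CharP F p›).symm.trans e0))
  obtain ⟨d, hd⟩ : ∃ d, d = (β ⬝ᵥ c) * (α ⬝ᵥ b) * (γ ⬝ᵥ a) := ⟨_, rfl⟩
  obtain ⟨d', hd'⟩ : ∃ d', d' = (γ ⬝ᵥ b) * (β ⬝ᵥ a) * (α ⬝ᵥ c) := ⟨_, rfl⟩
  have hdd : 8 * (d * d') = 1 := by
    rw [hd, hd']
    linear_combination (4 * ((β ⬝ᵥ c) * (γ ⬝ᵥ b)) * ((α ⬝ᵥ c) * (γ ⬝ᵥ a))) * hab +
      (2 * ((α ⬝ᵥ c) * (γ ⬝ᵥ a))) * hbc + hac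
  have hval : ∀ η : F, IsHom P a α η →
      1 + 2 * (η - 1) * d + 2 * (η⁻¹ - 1) * d' + (η - 1) * (η⁻¹ - 1) / 2 = 0 ∨
      1 + 2 * (η - 1) * d + 2 * (η⁻¹ - 1) * d' + (η - 1) * (η⁻¹ - 1) / 2 = 1 := by
    intro η hη
    obtain ⟨b', hb'⟩ : ∃ b', b' = hm a α η *ᵥ b := ⟨_, rfl⟩
    have hH := IsHom.conj_hom hη hb
    rw [← hb'] at hH
    have hli' : LinearIndependent F ![b', c] := by
      rw [LinearIndependent.pair_iff]
      intro u v huv
      rw [hb', hm_mulVec] at huv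
      have h3 := Fintype.linearIndependent_iff.1 hli ![u * ((η - 1) * (α ⬝ᵥ b)), u, v] (by
        simp only [Fin.sum_univ_three, Matrix.cons_val_zero, Matrix.cons_val_one, Matrix.cons_val]
        linear_combination (norm := module) huv)
      exact ⟨h3 1, h3 2⟩
    have h := pair_value hp2 hP hno hi hH hc hli'
    have e1 : (β ᵥ* hm a α η⁻¹) ⬝ᵥ c = (β ⬝ᵥ c) + (η⁻¹ - 1) * (α ⬝ᵥ c) * (β ⬝ᵥ a) := by
      rw [← dotProduct_mulVec, hm_mulVec, dotProduct_add, dotProduct_smul, smul_eq_mul]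
    have e2 : γ ⬝ᵥ b' = (γ ⬝ᵥ b) + (η - 1) * (α ⬝ᵥ b) * (γ ⬝ᵥ a) := by
      rw [hb', hm_mulVec, dotProduct_add, dotProduct_smul, smul_eq_mul]
    have e3 : 2 * ((β ᵥ* hm a α η⁻¹) ⬝ᵥ c * (γ ⬝ᵥ b')) =
        1 + 2 * (η - 1) * d + 2 * (η⁻¹ - 1) * d' + (η - 1) * (η⁻¹ - 1) / 2 := by
      rw [e1, e2, hd, hd']
      field_simp
      linear_combination (norm := ring_nf) 2 * hbc + ((η - 1) * (η⁻¹ - 1) * 2 * ((α ⬝ᵥ c) * (γ ⬝ᵥ a))) * hab +
        ((η - 1) * (η⁻¹ - 1)) * hac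
    rwa [e3] at h
  have hζ0 : ζ ≠ 0 := fun e => by rw [e, mul_zero] at hi; simp at hi
  have hinv : ζ⁻¹ = -ζ := inv_eq_of_mul_eq_one_right (by linear_combination -hi)
  have hA := hval ζ ha
  have hC := hval (-1) (hi ▸ ha.sq)
  have hneg : IsHom P a α (-ζ) := by
    obtain ⟨g, hg, s, hs⟩ := ha.sq.2
    obtain ⟨g', hg', s', hs'⟩ := ha.2
    refine ⟨ha.1, g * g', P.mul_mem hg hg', s * s', ?_⟩
    rw [Units.val_mul, hs, hs', Matrix.smul_mul, Matrix.mul_smul, smul_smul, hm_mul_hm ha.1, hi, neg_one_mul]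
  have hB := hval (-ζ) hneg
  obtain ⟨S, hS⟩ : ∃ S, S = d + d' := ⟨_, rfl⟩
  obtain ⟨D, hD⟩ : ∃ D, D = ζ * (d - d') := ⟨_, rfl⟩
  have hSD : 2 * (S * S + D * D) = 1 := by
    rw [hS, hD]; linear_combination hdd + (2 * (d - d') * (d - d')) * hi
  rw [show (-1 : F)⁻¹ = -1 by rw [inv_neg, inv_one]] at hC
  rw [inv_neg, hinv] at hB
  rw [hinv] at hA
  have eA : 1 + 2 * (ζ - 1) * d + 2 * (-ζ - 1) * d' + (ζ - 1) * (-ζ - 1) / 2 = 2 - 2 * S + 2 * D := by
    rw [hS, hD]; field_simp; linear_combination (-1 : F) * hi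
  have eB : 1 + 2 * (-ζ - 1) * d + 2 * (- -ζ - 1) * d' + (-ζ - 1) * (- -ζ - 1) / 2 = 2 - 2 * S - 2 * D := by
    rw [hS, hD]; field_simp; linear_combination (-1 : F) * hi
  have eC : 1 + 2 * (-1 - 1) * d + 2 * (-1 - 1) * d' + (-1 - 1) * (-1 - 1) / 2 = 3 - 4 * S := by
    rw [hS]; field_simp; ring
  rw [eA] at hA
  rw [eB] at hB
  rw [eC] at hC
  rcases hA with hA | hA <;> rcases hB with hB | hB <;> rcases hC with hC | hC
  · exact one_ne_zero (by linear_combination hA + hB - hC : (1 : F) = 0)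
  · exact h20 (by linear_combination hA + hB - hC)
  · -- (0, 1, 0): S = 3/4, D = 1/4
    exact h20 (by linear_combination (8 : F) * hSD - (4 * D - 1 : F) * (hA - hB) + (4 * S + 3 : F) * hC)
  · exact one_ne_zero (by linear_combination hA + hB - hC : (1 : F) = 0)
  · exact h20 (by linear_combination (8 : F) * hSD - (4 * D + 1 : F) * (hA - hB) + (4 * S + 3 : F) * hC)
  · exact one_ne_zero (by linear_combination hA + hB - hC : (1 : F) = 0)
  · exact one_ne_zero (by linear_combination -(hA + hB - hC) : (1 : F) = 0)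
  · -- (1, 1, 1): S = 1/2, D = 0
    exact h20 (by linear_combination (-4 : F) * hSD + 2 * D * (hA - hB) - (2 * S + 1 : F) * hC)

/-- there is no homology of projective order four or at least six -/
theorem no_homology (hp2 : p ≠ 2) (hQ : Quasi P) (hno : NoTv P) {a α : Fin 3 → F} {ζ : F} (ha : IsHom P a α ζ)
    (hord : 6 ≤ orderOf ζ ∨ ζ * ζ = -1) : False := by
  classical
  have h20 : (2 : F) ≠ 0 := Ring.two_ne_zero (fun e0 => hp2 ((CharP.eq F (ringChar.charP F) ‹CharP F p›).symm.trans e0))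
  have hζ2 : ζ ^ 2 ≠ 1 := fun e => by
    rcases hord with h | h
    · have := Nat.le_of_dvd (by norm_num) (orderOf_dvd_of_pow_eq_one e); omega
    · exact h20 (by linear_combination h - e)
  have hζ1 : ζ ≠ 1 := fun e => hζ2 (by rw [e, one_pow])
  set Z := (scalars (Fin 3) F).subgroupOf P with hZ
  haveI : Z.Normal := Subgroup.normal_subgroupOf
  haveI := hQ.simple
  -- every homology of the class fails to commute with another one
  have hnc : ∀ c γ : Fin 3 → F, IsHom P c γ ζ →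
      ∃ c' γ', IsHom P c' γ' ζ ∧ hm c γ ζ * hm c' γ' ζ ≠ hm c' γ' ζ * hm c γ ζ := by
    intro c γ hc
    by_contra hcon
    push Not at hcon
    obtain ⟨g, hg, s, hs⟩ := hc.2
    have hgz : ((⟨g, hg⟩ : P) : P ⧸ Z) ≠ 1 := by
      rw [Ne, QuotientGroup.eq_one_iff, Subgroup.mem_subgroupOf, mem_scalars_iff]
      rintro ⟨l, hl⟩
      replace hl : (g : M3) = (l : F) • (1 : M3) := hl
      have hs0 : s ≠ 0 := fun e => g.ne_zero (by rw [hs, e, zero_smul])
      have key : ∀ v, (l : F) • v = s • (v + ((ζ - 1) * (γ ⬝ᵥ v)) • c) := fun v => by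
        rw [← hm_mulVec, ← smul_mulVec, ← hs, hl, smul_mulVec, one_mulVec]
      have hc0 : c ≠ 0 := fun e => zero_ne_one (α := F) (by rw [← hc.1, e, dotProduct_zero])
      obtain ⟨v, hv0, hv⟩ : ∃ v : Fin 3 → F, v ≠ 0 ∧ γ ⬝ᵥ v = 0 := by
        let L : (Fin 3 → F) →ₗ[F] F := { toFun := fun v => γ ⬝ᵥ v
                                         map_add' := fun x y => dotProduct_add γ x y
                                         map_smul' := fun k x => dotProduct_smul k γ x }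
        have h2 := LinearMap.finrank_range_add_finrank_ker L
        have h1 : Module.finrank F (LinearMap.range L) ≤ 1 := (Submodule.finrank_le _).trans_eq (Module.finrank_self F)
        rw [Module.finrank_fin_fun] at h2
        obtain ⟨v, hv, hv0⟩ := Submodule.exists_mem_ne_zero_of_ne_bot (p := LinearMap.ker L) (fun e => by
          rw [e, finrank_bot] at h2; omega)
        exact ⟨v, hv0, hv⟩
      have e1 := key v
      rw [hv, mul_zero, zero_smul, add_zero] at e1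
      have e2 := key c
      rw [hc.1, mul_one] at e2
      have hls : (l : F) = s := by
        refine sub_eq_zero.1 ((smul_eq_zero.1 (?_ : ((l : F) - s) • v = 0)).resolve_right hv0)
        rw [sub_smul, e1, sub_self]
      refine hζ1 (sub_eq_zero.1 ((smul_eq_zero.1 (?_ : (ζ - 1) • c = 0)).resolve_right hc0))
      refine smul_right_injective (Fin 3 → F) hs0 ?_
      show s • ((ζ - 1) • c) = s • 0
      rw [hls, smul_add] at e2
      rw [smul_zero]
      linear_combination (norm := module) -e2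
    have hclass : ∀ x ∈ Group.conjugatesOfSet {((⟨g, hg⟩ : P) : P ⧸ Z)}, ∀ y ∈ Group.conjugatesOfSet {((⟨g, hg⟩ : P) : P ⧸ Z)},
        x * y = y * x := by
      intro x hx y hy
      rw [Group.mem_conjugatesOfSet_iff] at hx hy
      obtain ⟨_, rfl, hx⟩ := hx
      obtain ⟨_, rfl, hy⟩ := hy
      obtain ⟨kx, rfl⟩ := isConj_iff.1 hx
      obtain ⟨ky, rfl⟩ := isConj_iff.1 hy
      obtain ⟨kx, rfl⟩ := QuotientGroup.mk_surjective kx
      obtain ⟨ky, rfl⟩ := QuotientGroup.mk_surjective ky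
      simp only [← QuotientGroup.mk_mul, ← QuotientGroup.mk_inv]
      obtain ⟨k, hk⟩ : ∃ k, k = kx⁻¹ * ky := ⟨_, rfl⟩
      have hcomm : (⟨g, hg⟩ : P) * (k * ⟨g, hg⟩ * k⁻¹) = k * ⟨g, hg⟩ * k⁻¹ * ⟨g, hg⟩ := by
        refine Subtype.ext (Units.ext ?_)
        have h2 := hcon _ _ (hc.conj k.2)
        obtain ⟨t, ht⟩ : ∃ t, t = ((k : GL (Fin 3) F) * g * ((k : GL (Fin 3) F))⁻¹ : GL (Fin 3) F) := ⟨_, rfl⟩
        have et : (t : M3) = s • hm ((k : GL (Fin 3) F).1 *ᵥ c) (γ ᵥ* (((k : GL (Fin 3) F)⁻¹ : GL (Fin 3) F) : M3)) ζ := by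
          rw [ht, Units.val_mul, Units.val_mul, hs]
          refine Matrix.ext_iff_mulVec.2 fun v => ?_
          simp only [Matrix.mul_smul, Matrix.smul_mul, smul_mulVec, ← mulVec_mulVec, hm_mulVec, mulVec_add, mulVec_smul,
            gl_mulVec_inv, ← dotProduct_mulVec]
        show (g : M3) * _ = _ * (g : M3)
        simp only [Subgroup.coe_mul, InvMemClass.coe_inv, ← ht, et, hs, Matrix.smul_mul, Matrix.mul_smul]
        rw [h2]
      refine congrArg _ ?_
      have := congrArg (fun z => kx * z * kx⁻¹) hcomm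
      rw [hk] at this
      calc kx * ⟨g, hg⟩ * kx⁻¹ * (ky * ⟨g, hg⟩ * ky⁻¹)
          = kx * (⟨g, hg⟩ * (kx⁻¹ * ky * ⟨g, hg⟩ * (kx⁻¹ * ky)⁻¹)) * kx⁻¹ := by group
        _ = kx * (kx⁻¹ * ky * ⟨g, hg⟩ * (kx⁻¹ * ky)⁻¹ * ⟨g, hg⟩) * kx⁻¹ := this
        _ = _ := by group
    refine hQ.nonabelian ⟨⟨fun x y => ?_⟩⟩
    have htop : Subgroup.normalClosure {((⟨g, hg⟩ : P) : P ⧸ Z)} = ⊤ :=
      (IsSimpleGroup.eq_bot_or_eq_top_of_normal _ Subgroup.normalClosure_normal).resolve_left fun e =>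
        hgz ((Subgroup.eq_bot_iff_forall _).1 e _ (Subgroup.subset_normalClosure rfl))
    haveI := Subgroup.isMulCommutative_closure hclass
    have hx : x ∈ Subgroup.closure (Group.conjugatesOfSet {((⟨g, hg⟩ : P) : P ⧸ Z)}) := by
      show x ∈ Subgroup.normalClosure _; rw [htop]; trivial
    have hy : y ∈ Subgroup.closure (Group.conjugatesOfSet {((⟨g, hg⟩ : P) : P ⧸ Z)}) := by
      show y ∈ Subgroup.normalClosure _; rw [htop]; trivial
    exact congrArg Subtype.val (mul_comm' (⟨x, hx⟩ : Subgroup.closure _) ⟨y, hy⟩)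
  obtain ⟨b, β, hb, hne⟩ := hnc a α ha
  obtain ⟨hli, hx, hy, hlt, hval⟩ := (hom_pair hp2 hQ.le_sl hno ha hb hζ2).resolve_left hne
  have hi : ζ * ζ = -1 := hord.resolve_left (by omega)
  have hab := hval hi
  obtain ⟨W, hW⟩ : ∃ W, W = Submodule.span F (Set.range ![a, b]) := ⟨_, rfl⟩
  -- a centre outside the line is killed by both axes
  have hout : ∀ c γ, IsHom P c γ ζ → c ∉ W →
      α ⬝ᵥ c = 0 ∧ β ⬝ᵥ c = 0 ∧ γ ⬝ᵥ a = 0 ∧ γ ⬝ᵥ b = 0 := by
    intro c γ hc hcW
    have hli3 : LinearIndependent F ![a, b, c] := by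
      rw [Fintype.linearIndependent_iff]
      intro f hf
      simp only [Fin.sum_univ_three, Matrix.cons_val_zero, Matrix.cons_val_one, Matrix.cons_val] at hf
      have hf2 : f 2 = 0 := by
        by_contra hne2
        refine hcW (hW ▸ (Submodule.mem_span_range_iff_exists_fun F).2 ⟨![-(f 0 / f 2), -(f 1 / f 2)], ?_⟩)
        simp only [Fin.sum_univ_two, Matrix.cons_val_zero, Matrix.cons_val_one]
        refine smul_right_injective (Fin 3 → F) hne2 ?_
        simp only [smul_add, smul_smul, mul_neg, mul_div_cancel₀ _ hne2]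
        linear_combination (norm := module) -hf
      rw [hf2, zero_smul, add_zero] at hf
      obtain ⟨h1, h2⟩ := LinearIndependent.pair_iff.1 hli _ _ hf
      intro i; fin_cases i <;> assumption
    have hlac : LinearIndependent F ![a, c] := by
      rw [LinearIndependent.pair_iff]
      intro u v huv
      have h3 := Fintype.linearIndependent_iff.1 hli3 ![u, 0, v] (by simpa [Fin.sum_univ_three] using huv)
      exact ⟨h3 0, h3 2⟩
    have hlbc : LinearIndependent F ![b, c] := by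
      rw [LinearIndependent.pair_iff]
      intro u v huv
      have h3 := Fintype.linearIndependent_iff.1 hli3 ![0, u, v] (by simpa [Fin.sum_univ_three] using huv)
      exact ⟨h3 1, h3 2⟩
    -- a chain is closed to a triangle
    have chain : ∀ a α b β : Fin 3 → F, IsHom P a α ζ → IsHom P b β ζ → LinearIndependent F ![a, b, c] →
        2 * ((α ⬝ᵥ b) * (β ⬝ᵥ a)) = 1 → 2 * ((β ⬝ᵥ c) * (γ ⬝ᵥ b)) = 1 → α ⬝ᵥ c = 0 → γ ⬝ᵥ a = 0 → False := by
      intro a α b β ha hb hli3 hab hbc hac hca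
      have hH := IsHom.conj_hom ha hb
      have hinv : ζ⁻¹ = -ζ := inv_eq_of_mul_eq_one_right (by linear_combination -hi)
      have hx0 : α ⬝ᵥ b ≠ 0 := fun e => by rw [e, zero_mul, mul_zero] at hab; exact zero_ne_one hab
      have v1 : β ⬝ᵥ (hm a α ζ *ᵥ b) = 1 + (ζ - 1) * ((α ⬝ᵥ b) * (β ⬝ᵥ a)) := by
        rw [hm_mulVec, dotProduct_add, dotProduct_smul, hb.1, smul_eq_mul, mul_assoc]
      have v2 : (β ᵥ* hm a α ζ⁻¹) ⬝ᵥ b = 1 + (-ζ - 1) * ((α ⬝ᵥ b) * (β ⬝ᵥ a)) := by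
        rw [hinv, ← dotProduct_mulVec, hm_mulVec, dotProduct_add, dotProduct_smul, hb.1, smul_eq_mul, mul_assoc]
      refine triangle hp2 hQ.le_sl hno hi hb hH hc ?_ ?_ ?_ hbc
      · rw [Fintype.linearIndependent_iff]
        intro f hf
        simp only [Fin.sum_univ_three, Matrix.cons_val_zero, Matrix.cons_val_one, Matrix.cons_val, hm_mulVec] at hf
        have h3 := Fintype.linearIndependent_iff.1 hli3 ![f 1 * ((ζ - 1) * (α ⬝ᵥ b)), f 0 + f 1, f 2] (by
          simp only [Fin.sum_univ_three, Matrix.cons_val_zero, Matrix.cons_val_one, Matrix.cons_val]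
          linear_combination (norm := module) hf)
        have f1 : f 1 = 0 := (mul_eq_zero.1 (h3 0)).resolve_right (mul_ne_zero (sub_ne_zero.2 hζ1) hx0)
        have f0 : f 0 = 0 := by have := h3 1; simp [f1] at this; exact this
        intro i; fin_cases i
        · exact f0
        · exact f1
        · exact h3 2
      · rw [v1, v2]
        have hq : (α ⬝ᵥ b) * (β ⬝ᵥ a) = 1 / 2 := by field_simp; linear_combination hab
        rw [hq]; field_simp
        linear_combination (-1 : F) * hi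
      · have w1 : (β ᵥ* hm a α ζ⁻¹) ⬝ᵥ c = β ⬝ᵥ c := by
          rw [← dotProduct_mulVec, hm_mulVec, hac, mul_zero, zero_smul, add_zero]
        have w2 : γ ⬝ᵥ (hm a α ζ *ᵥ b) = γ ⬝ᵥ b := by
          rw [hm_mulVec, dotProduct_add, dotProduct_smul, hca, smul_zero, add_zero]
        rw [w1, w2]; exact hbc
    rcases hom_pair hp2 hQ.le_sl hno ha hc hζ2 with h1 | ⟨-, -, -, -, h1⟩ <;>
      rcases hom_pair hp2 hQ.le_sl hno hb hc hζ2 with h2 | ⟨-, -, -, -, h2⟩
    · obtain ⟨e1, e2⟩ := comm_zero ha.1 hc.1 hζ1 h1 hlac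
      obtain ⟨e3, e4⟩ := comm_zero hb.1 hc.1 hζ1 h2 hlbc
      exact ⟨e1, e3, e2, e4⟩
    · exfalso
      obtain ⟨e1, e2⟩ := comm_zero ha.1 hc.1 hζ1 h1 hlac
      exact chain a α b β ha hb hli3 hab (h2 hi) e1 e2
    · exfalso
      obtain ⟨e1, e2⟩ := comm_zero hb.1 hc.1 hζ1 h2 hlbc
      refine chain b β a α hb ha ?_ (by rw [mul_comm (β ⬝ᵥ a)]; exact hab) (h1 hi) e1 e2
      rw [Fintype.linearIndependent_iff]
      intro f hf
      have h3 := Fintype.linearIndependent_iff.1 hli3 ![f 1, f 0, f 2] (by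
        simp only [Fin.sum_univ_three, Matrix.cons_val_zero, Matrix.cons_val_one, Matrix.cons_val] at hf ⊢
        linear_combination (norm := module) hf)
      intro i; fin_cases i
      · exact h3 1
      · exact h3 0
      · exact h3 2
    · exact (triangle hp2 hQ.le_sl hno hi ha hb hc hli3 hab (h2 hi) (h1 hi)).elim
  -- no centre lies outside the line
  have hall : ∀ c γ, IsHom P c γ ζ → c ∈ W := by
    intro c γ hc
    by_contra hcW
    obtain ⟨e1, e2, e3, e4⟩ := hout c γ hc hcW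
    obtain ⟨d, δ, hd, hne'⟩ := hnc c γ hc
    obtain ⟨hlcd, hx', -, -, -⟩ := (hom_pair hp2 hQ.le_sl hno hc hd hζ2).resolve_left hne'
    by_cases hdW : d ∈ W
    · rw [hW] at hdW
      obtain ⟨f, hf⟩ := (Submodule.mem_span_range_iff_exists_fun F).1 hdW
      refine hx' ?_
      rw [← hf, Fin.sum_univ_two]
      simp [dotProduct_add, dotProduct_smul, e3, e4]
    · obtain ⟨d1, d2, -, -⟩ := hout d δ hd hdW
      have hli3 : LinearIndependent F ![α, β] := by
        rw [LinearIndependent.pair_iff]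
        intro u v huv
        have h1 := congrArg (fun z => z ⬝ᵥ a) huv
        have h2 := congrArg (fun z => z ⬝ᵥ b) huv
        simp only [add_dotProduct, smul_dotProduct, ha.1, hb.1, smul_eq_mul, zero_dotProduct, mul_one] at h1 h2
        have hv : v = 0 := by linear_combination 2 * h2 - (2 * (α ⬝ᵥ b)) * h1 + v * hab
        exact ⟨by rw [hv, zero_mul, add_zero] at h1; exact h1, hv⟩
      let L : (Fin 3 → F) →ₗ[F] (Fin 2 → F) := Matrix.mulVecLin (Matrix.of ![α, β])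
      have hr : Module.finrank F (LinearMap.range L) = 2 := by
        have h := hli3.rank_matrix (M := Matrix.of ![α, β])
        rw [Matrix.rank, Fintype.card_fin] at h
        exact h
      have h2 := LinearMap.finrank_range_add_finrank_ker L
      rw [Module.finrank_fin_fun, hr] at h2
      have hker : ∀ z : Fin 3 → F, α ⬝ᵥ z = 0 → β ⬝ᵥ z = 0 → z ∈ LinearMap.ker L := fun z z1 z2 => by
        rw [LinearMap.mem_ker]; funext i; fin_cases i <;> simpa [L, Matrix.mulVec] using ‹_›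
      obtain ⟨w, hw⟩ := finrank_le_one_iff.1 (show Module.finrank F (LinearMap.ker L) ≤ 1 by omega)
      obtain ⟨u, hu⟩ := hw ⟨c, hker c e1 e2⟩
      obtain ⟨v, hv⟩ := hw ⟨d, hker d d1 d2⟩
      have hu' : c = u • (w : Fin 3 → F) := (congrArg Subtype.val hu).symm
      have hv' : d = v • (w : Fin 3 → F) := (congrArg Subtype.val hv).symm
      have hz := LinearIndependent.pair_iff.1 hlcd v (-u) (by rw [hu', hv']; module)
      exact zero_ne_one (α := F) (by rw [← hc.1, hu', neg_eq_zero.1 hz.2, zero_smul, dotProduct_zero])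
  refine (hQ.absIrred.1 W ?_).elim (fun e => ?_) (fun e => ?_)
  · rintro _ ⟨k, hk, rfl⟩
    rw [hW, Submodule.map_span, Submodule.span_le]
    rintro _ ⟨_, ⟨i, rfl⟩, rfl⟩
    rw [SetLike.mem_coe, Matrix.toLin'_apply, ← hW]
    fin_cases i
    · exact hall _ _ (ha.conj hk)
    · exact hall _ _ (hb.conj hk)
  · have h3 := finrank_span_eq_card hli
    rw [← hW, e, finrank_bot] at h3; simp at h3
  · have h3 := finrank_span_eq_card hli
    rw [← hW, e, finrank_top, Module.finrank_fin_fun] at h3; simp at h3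

end CfsgLib.Perm.Trans.ThreeRes
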