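import Mathlib

/-!
# Involutions in dimension three and a group generated by four of them

Four involutions `t, w, k, v` of determinant one subject to a few relations are, after a change of
basis, explicit matrices over the prime field with a square root of `-2`; `v k` has trace `-1/2`.
-/

set_option autoImplicit false
set_option linter.all false

namespace CfsgLib.Perm.Trans.ThreeRes

open scoped Matrix
open Matrix

variable {F : Type*} [Field F]

local notation "M3" => Matrix (Fin 3) (Fin 3) F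

/-- the central involution -/
def mT (F : Type*) [Field F] : Matrix (Fin 3) (Fin 3) F := !![-1, 0, 0; 0, -1, 0; 0, 0, 1]

/-- its companion in the four group -/
def mB (F : Type*) [Field F] : Matrix (Fin 3) (Fin 3) F := !![-1, 0, 0; 0, 1, 0; 0, 0, -1]

/-- the first transposition -/
def mW (F : Type*) [Field F] : Matrix (Fin 3) (Fin 3) F := !![0, 1, 0; 1, 0, 0; 0, 0, -1]

/-- the second transposition -/
def mK (F : Type*) [Field F] : Matrix (Fin 3) (Fin 3) F := !![-1, 0, 0; 0, 0, 1; 0, 1, 0]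

/-- the fourth involution -/
def mV (s : F) : M3 := !![1 / 2, (-1 + s) / 2, 0; (-1 - s) / 2, -(1 / 2), 0; 0, 0, -1]

theorem adjugate_three (A : M3) : A.adjugate = A * A - A.trace • A + A.adjugate.trace • (1 : M3) := by
  rw [Matrix.adjugate_fin_three, Matrix.trace_fin_three, Matrix.trace_fin_three]
  ext i j
  fin_cases i <;> fin_cases j <;> simp [Matrix.mul_apply, Fin.sum_univ_three] <;> ring

/-- an involution of determinant one has trace minus one -/
theorem trace_invol {t : M3} (ht : t * t = 1) (hd : t.det = 1) (h1 : t ≠ 1) : t.trace = -1 := by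
  have hadj : t.adjugate = t := by
    have h := Matrix.mul_adjugate t
    rw [hd, one_smul] at h
    rw [← one_mul t.adjugate, ← ht, mul_assoc, h, mul_one]
  have h := adjugate_three t
  rw [hadj, ht] at h
  have h2 : (1 + t.trace) • (t - 1) = 0 := by linear_combination (norm := module) h
  rcases smul_eq_zero.1 h2 with h3 | h3
  · linear_combination h3
  · exact absurd (sub_eq_zero.1 h3) h1

theorem exists_vec_of_ne {A : M3} (h : A ≠ 0) : ∃ x, A *ᵥ x ≠ 0 := by
  by_contra hcon
  push Not at hcon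
  exact h (Matrix.ext_iff_mulVec.2 fun v => by rw [hcon, zero_mulVec])

theorem gl_of_cols {e : Fin 3 → Fin 3 → F} (h : LinearIndependent F e) :
    ∃ Q : GL (Fin 3) F, ∀ j, (Q : M3) *ᵥ Pi.single j 1 = e j := by
  obtain ⟨Q, hQ⟩ := (Matrix.linearIndependent_cols_iff_isUnit (A := Matrix.of fun i j => e j i)).1 h
  refine ⟨Q, fun j => ?_⟩
  rw [mulVec_single_one, hQ]
  rfl

theorem conj_diag {Q : GL (Fin 3) F} {e : Fin 3 → Fin 3 → F} (hQ : ∀ j, (Q : M3) *ᵥ Pi.single j 1 = e j) {A : M3}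
    (d : Fin 3 → F) (hA : ∀ j, A *ᵥ e j = d j • e j) :
    ((Q⁻¹ : GL (Fin 3) F) : M3) * A * (Q : M3) = Matrix.diagonal d := by
  refine Matrix.ext_iff_mulVec.2 fun v => ?_
  have : A * (Q : M3) = (Q : M3) * Matrix.diagonal d := by
    ext i j
    have h1 := congrFun (hA j) i
    rw [← hQ, mulVec_mulVec, mulVec_single_one] at h1
    rw [show (A * (Q : M3)) i j = (A * (Q : M3)).col j i from rfl, h1, Matrix.mul_diagonal, mulVec_single_one]
    simp [mul_comm]
  rw [mul_assoc, this, ← mul_assoc, Units.inv_mul, one_mul]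

theorem mT_eq : mT F = Matrix.diagonal ![-1, -1, 1] := by
  ext i j; fin_cases i <;> fin_cases j <;> simp [mT]

theorem mB_eq : mB F = Matrix.diagonal ![-1, 1, -1] := by
  ext i j; fin_cases i <;> fin_cases j <;> simp [mB]

/-- an involution of determinant one becomes `mT` -/
theorem exists_frame_one (h20 : (2 : F) ≠ 0) {t : M3} (ht : t * t = 1) (hd : t.det = 1) (h1 : t ≠ 1) :
    ∃ Q : GL (Fin 3) F, ((Q⁻¹ : GL (Fin 3) F) : M3) * t * (Q : M3) = mT F := by
  have htr := trace_invol ht hd h1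
  obtain ⟨π, hπ⟩ : ∃ π, π = (2 : F)⁻¹ • (1 - t) := ⟨_, rfl⟩
  obtain ⟨σ, hσ⟩ : ∃ σ, σ = (2 : F)⁻¹ • (1 + t) := ⟨_, rfl⟩
  have hππ : π * π = π := by
    rw [hπ]
    simp only [Matrix.smul_mul, Matrix.mul_smul, sub_mul, mul_sub, one_mul, mul_one, ht, smul_smul]
    match_scalars <;> field_simp <;> norm_num
  have tπ : t * π = -π := by
    rw [hπ, Matrix.mul_smul, mul_sub, ht, mul_one, ← smul_neg, neg_sub]
  have tσ : t * σ = σ := by
    rw [hσ, Matrix.mul_smul, mul_add, ht, mul_one, add_comm]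
  have hπtr : π.trace = 2 := by
    rw [hπ, Matrix.trace_smul, Matrix.trace_sub, Matrix.trace_one, htr, Fintype.card_fin, smul_eq_mul]
    field_simp; norm_num
  have hσtr : σ.trace = 1 := by
    rw [hσ, Matrix.trace_smul, Matrix.trace_add, Matrix.trace_one, htr, Fintype.card_fin, smul_eq_mul]
    field_simp; norm_num
  obtain ⟨x, hx⟩ := exists_vec_of_ne (A := π) (fun e => h20 (by rw [← hπtr, e, Matrix.trace_zero]))
  obtain ⟨z, hz⟩ := exists_vec_of_ne (A := σ) (fun e => one_ne_zero (α := F) (by rw [← hσtr, e, Matrix.trace_zero]))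
  obtain ⟨y, hy⟩ : ∃ y, ∀ c : F, π *ᵥ y ≠ c • (π *ᵥ x) := by
    by_contra hcon
    push Not at hcon
    choose c hc using hcon
    have hcol : π = vecMulVec (π *ᵥ x) (fun j => c (Pi.single j 1)) := by
      ext i j
      have := congrFun (hc (Pi.single j 1)) i
      rw [mulVec_single_one] at this
      rw [vecMulVec_apply, show π i j = π.col j i from rfl, this, Pi.smul_apply, smul_eq_mul, mul_comm]
    have h2 : π *ᵥ (π *ᵥ x) = π *ᵥ x := by rw [mulVec_mulVec, hππ]
    nth_rewrite 1 [hcol] at h2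
    rw [vecMulVec_mulVec, op_smul_eq_smul] at h2
    have h3 : (fun j => c (Pi.single j 1)) ⬝ᵥ (π *ᵥ x) = 1 := by
      have h4 : ((fun j => c (Pi.single j 1)) ⬝ᵥ (π *ᵥ x) - 1) • (π *ᵥ x) = 0 := by rw [sub_smul, h2, one_smul, sub_self]
      exact sub_eq_zero.1 ((smul_eq_zero.1 h4).resolve_right hx)
    rw [hcol, Matrix.trace_vecMulVec, dotProduct_comm, h3] at hπtr
    exact one_ne_zero (α := F) (by linear_combination -hπtr)
  let e : Fin 3 → Fin 3 → F := ![π *ᵥ x, π *ᵥ y, σ *ᵥ z]
  have hli : LinearIndependent F e := by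
    rw [Fintype.linearIndependent_iff]
    intro g hg
    rw [Fin.sum_univ_three] at hg
    simp only [e, Matrix.cons_val_zero, Matrix.cons_val_one, Matrix.cons_val] at hg
    have e1 := congrArg (fun v => t *ᵥ v) hg
    simp only [mulVec_add, mulVec_smul, mulVec_mulVec, tπ, tσ, neg_mulVec, mulVec_zero] at e1
    have g2 : g 2 = 0 := (smul_eq_zero.1 (smul_right_injective (Fin 3 → F) h20
      (show (2 : F) • g 2 • σ *ᵥ z = (2 : F) • (0 : Fin 3 → F) by
        rw [smul_zero]; linear_combination (norm := module) hg + e1))).resolve_right hz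
    rw [g2, zero_smul, add_zero] at hg
    have g1 : g 1 = 0 := by
      by_contra hne
      refine hy (-(g 0 / g 1)) (smul_right_injective (Fin 3 → F) hne ?_)
      show g 1 • π *ᵥ y = g 1 • _
      rw [smul_smul, mul_neg, mul_div_cancel₀ _ hne]
      linear_combination (norm := module) hg
    rw [g1, zero_smul, add_zero] at hg
    intro i; fin_cases i
    · exact (smul_eq_zero.1 hg).resolve_right hx
    · exact g1
    · exact g2
  obtain ⟨Q, hQ⟩ := gl_of_cols hli
  refine ⟨Q, ?_⟩
  rw [mT_eq]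
  refine conj_diag hQ _ fun j => ?_
  fin_cases j <;> simp [e, mulVec_mulVec, tπ, tσ, neg_mulVec]

/-- two commuting involutions of determinant one become `mT` and `mB` -/
theorem exists_frame_two (h20 : (2 : F) ≠ 0) {t b : M3} (ht : t * t = 1) (hb : b * b = 1) (htb : t * b = b * t)
    (dt : t.det = 1) (db : b.det = 1) (t1 : t ≠ 1) (b1 : b ≠ 1) (hne : b ≠ t) :
    ∃ Q : GL (Fin 3) F, ((Q⁻¹ : GL (Fin 3) F) : M3) * t * (Q : M3) = mT F ∧
      ((Q⁻¹ : GL (Fin 3) F) : M3) * b * (Q : M3) = mB F := by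
  have tb1 : t * b ≠ 1 := fun e => hne (by rw [← mul_one t, ← e, ← mul_assoc, ht, one_mul])
  have tt := trace_invol ht dt t1
  have tb := trace_invol hb db b1
  have ttb := trace_invol (t := t * b) (by rw [mul_assoc, ← mul_assoc b, ← htb, mul_assoc, hb, mul_one, ht])
    (by rw [Matrix.det_mul, dt, db, one_mul]) tb1
  have four : (4 : F) ≠ 0 := by
    rw [show (4 : F) = 2 * 2 by norm_num]; exact mul_ne_zero h20 h20
  have btb : b * (t * b) = t := by rw [htb, ← mul_assoc, hb, one_mul]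
  have ttb' : t * (t * b) = b := by rw [← mul_assoc, ht, one_mul]
  let π : F → F → M3 := fun ε δ => (1 : M3) + ε • t + δ • b + (ε * δ) • (t * b)
  have htπ : ∀ ε δ, ε * ε = 1 → t * π ε δ = ε • π ε δ := fun ε δ hε => by
    simp only [π, mul_add, Matrix.mul_smul, mul_one, ht, ttb', smul_add, smul_smul]
    rw [hε, show ε * (ε * δ) = δ by rw [← mul_assoc, hε, one_mul], one_smul]
    abel
  have hbπ : ∀ ε δ, δ * δ = 1 → b * π ε δ = δ • π ε δ := fun ε δ hδ => by
    simp only [π, mul_add, Matrix.mul_smul, mul_one, hb, btb, ← htb, smul_add, smul_smul]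
    rw [hδ, show δ * (ε * δ) = ε by rw [mul_left_comm, hδ, mul_one], mul_comm δ ε, one_smul]
    abel
  have hπtr : ∀ ε δ, (π ε δ).trace = 3 - ε - δ - ε * δ := fun ε δ => by
    simp only [π, Matrix.trace_add, Matrix.trace_smul, Matrix.trace_one, tt, tb, ttb, Fintype.card_fin, smul_eq_mul]
    push_cast; ring
  have hex : ∀ ε δ, 3 - ε - δ - ε * δ = (4 : F) → ε * ε = 1 → δ * δ = 1 →
      ∃ u, u ≠ 0 ∧ t *ᵥ u = ε • u ∧ b *ᵥ u = δ • u := fun ε δ h hε hδ => by
    obtain ⟨x, hx⟩ := exists_vec_of_ne (A := π ε δ) (fun e => four (by rw [← h, ← hπtr, e, Matrix.trace_zero]))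
    exact ⟨_, hx, by rw [mulVec_mulVec, htπ ε δ hε, smul_mulVec], by rw [mulVec_mulVec, hbπ ε δ hδ, smul_mulVec]⟩
  obtain ⟨u0, h0, a0, b0⟩ := hex (-1) (-1) (by ring) (by ring) (by ring)
  obtain ⟨u1, h1, a1, b1'⟩ := hex (-1) 1 (by ring) (by ring) (by ring)
  obtain ⟨u2, h2, a2, b2⟩ := hex 1 (-1) (by ring) (by ring) (by ring)
  have hli : LinearIndependent F ![u0, u1, u2] := by
    rw [Fintype.linearIndependent_iff]
    intro g hg
    rw [Fin.sum_univ_three] at hg
    simp only [Matrix.cons_val_zero, Matrix.cons_val_one, Matrix.cons_val] at hg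
    have e1 := congrArg (fun v => t *ᵥ v) hg
    have e2 := congrArg (fun v => b *ᵥ v) hg
    simp only [mulVec_add, mulVec_smul, a0, a1, a2, b0, b1', b2, mulVec_zero] at e1 e2
    have key : ∀ (c : F) (u : Fin 3 → F), u ≠ 0 → (2 : F) • c • u = 0 → c = 0 := fun c u hu h =>
      (smul_eq_zero.1 ((smul_eq_zero.1 h).resolve_left h20)).resolve_right hu
    have g2 : g 2 = 0 := key _ u2 h2 (by linear_combination (norm := module) hg + e1)
    have g1 : g 1 = 0 := key _ u1 h1 (by linear_combination (norm := module) hg + e2)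
    rw [g1, g2, zero_smul, zero_smul, add_zero, add_zero] at hg
    intro i; fin_cases i
    · exact (smul_eq_zero.1 hg).resolve_right h0
    · exact g1
    · exact g2
  obtain ⟨Q, hQ⟩ := gl_of_cols hli
  rw [mT_eq, mB_eq]
  exact ⟨Q, conj_diag hQ _ fun j => by fin_cases j <;> simp [a0, a1, a2],
    conj_diag hQ _ fun j => by fin_cases j <;> simp [b0, b1', b2]⟩

/-- the relations -/
structure Gens {M : Type*} [Monoid M] (t w k v : M) : Prop where
  tt : t * t = 1
  ww : w * w = 1
  kk : k * k = 1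
  vv : v * v = 1
  tw : t * w = w * t
  tv : t * v = v * t
  tb : t * (k * t * k) = k * t * k * t
  wb : w * (k * t * k) * w = k * t * k * t
  bv : (k * t * k * v) ^ 3 = 1
  wv : (w * v) ^ 3 = 1

theorem Gens.map {M N G : Type*} [Monoid M] [Monoid N] [FunLike G M N] [MonoidHomClass G M N] {t w k v : M}
    (R : Gens t w k v) (f : G) : Gens (f t) (f w) (f k) (f v) := by
  constructor <;> simp only [← map_mul, ← map_pow] <;>
    simp only [R.tt, R.ww, R.kk, R.vv, R.tw, R.tv, R.tb, R.wb, R.bv, R.wv, map_one]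

/-- the nondegeneracy conditions -/
structure Nondeg {M : Type*} [Monoid M] (t k v : M) : Prop where
  t1 : t ≠ 1
  bt : k * t * k ≠ t
  v1 : v ≠ 1
  vt : v ≠ t
  vb : v ≠ k * t * k

theorem two_cube {a b c d : F} : (!![a, b, 0; c, d, 0; 0, 0, 1] : M3) ^ 3 =
    !![((a + d) ^ 2 - (a * d - b * c)) * a - (a + d) * (a * d - b * c), ((a + d) ^ 2 - (a * d - b * c)) * b, 0;
      ((a + d) ^ 2 - (a * d - b * c)) * c, ((a + d) ^ 2 - (a * d - b * c)) * d - (a + d) * (a * d - b * c), 0;
      0, 0, 1] := by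
  rw [pow_succ, pow_two]
  ext i j
  fin_cases i <;> fin_cases j <;> simp [Matrix.mul_apply, Fin.sum_univ_three] <;> ring

/-- the matrices are forced -/
theorem Gens.frame (h20 : (2 : F) ≠ 0) {t w k v : M3} (R : Gens t w k v) (N : Nondeg t k v)
    (dt : t.det = 1) (dw : w.det = 1) (dk : k.det = 1) (dv : v.det = 1) :
    ∃ (Q : GL (Fin 3) F) (s : F), s * s = -2 ∧ ((Q⁻¹ : GL (Fin 3) F) : M3) * t * (Q : M3) = mT F ∧
      ((Q⁻¹ : GL (Fin 3) F) : M3) * w * (Q : M3) = mW F ∧ ((Q⁻¹ : GL (Fin 3) F) : M3) * k * (Q : M3) = mK F ∧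
      ((Q⁻¹ : GL (Fin 3) F) : M3) * v * (Q : M3) = mV s := by
  have hbb : k * t * k * (k * t * k) = 1 := by
    rw [show k * t * k * (k * t * k) = k * t * (k * k) * t * k by simp only [mul_assoc],
      R.kk, mul_one, mul_assoc k t t, R.tt, mul_one, R.kk]
  have hb1 : k * t * k ≠ 1 := fun e => N.t1 (by
    calc t = k * k * t * (k * k) := by rw [R.kk, one_mul, mul_one]
      _ = k * (k * t * k) * k := by simp only [mul_assoc]
      _ = 1 := by rw [e, mul_one, R.kk])
  obtain ⟨Q₀, hQt, hQb⟩ := exists_frame_two h20 R.tt hbb R.tb dt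
    (by rw [Matrix.det_mul, Matrix.det_mul, dk, dt, one_mul, one_mul]) N.t1 hb1 N.bt
  let cj : GL (Fin 3) F → M3 → M3 := fun Q A => ((Q⁻¹ : GL (Fin 3) F) : M3) * A * (Q : M3)
  have hcj : ∀ Q A B, cj Q (A * B) = cj Q A * cj Q B := fun Q A B => by
    simp only [cj, mul_assoc, Units.mul_inv_cancel_left]
  have hcd : ∀ Q A, (cj Q A).det = A.det := fun Q A => Matrix.det_units_conj' Q A
  have hc1 : ∀ Q, cj Q 1 = 1 := fun Q => by simp only [cj, mul_one, Units.inv_mul]
  change cj Q₀ t = mT F at hQt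
  change cj Q₀ (k * t * k) = mB F at hQb
  -- monomial shapes
  obtain ⟨K, hK⟩ : ∃ K, K = cj Q₀ k := ⟨_, rfl⟩
  obtain ⟨W, hW⟩ : ∃ W, W = cj Q₀ w := ⟨_, rfl⟩
  have hKK : K * K = 1 := by rw [hK, ← hcj, R.kk, hc1]
  have hWW : W * W = 1 := by rw [hW, ← hcj, R.ww, hc1]
  have kT : K * mT F = mB F * K := by
    rw [hK, ← hQt, ← hQb, ← hcj, ← hcj, show k * t * k * k = k * t by rw [mul_assoc, R.kk, mul_one]]
  have kB : K * mB F = mT F * K := by
    rw [hK, ← hQt, ← hQb, ← hcj, ← hcj, show k * (k * t * k) = t * k by rw [← mul_assoc, ← mul_assoc, R.kk, one_mul]]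
  have wT : W * mT F = mT F * W := by rw [hW, ← hQt, ← hcj, ← hcj, R.tw]
  have wB : W * mB F = mB F * mT F * W := by
    rw [hW, ← hQt, ← hQb, ← hcj, ← hcj, ← hcj, ← R.wb, mul_assoc (w * (k * t * k)) w, R.ww, mul_one]
  have two : ∀ x : F, x = -x → x = 0 := fun x h => (mul_eq_zero.1 (by linear_combination h : 2 * x = 0)).resolve_left h20
  have two' : ∀ x : F, -x = x → x = 0 := fun x h => two x h.symm
  have hKs : K = !![K 0 0, 0, 0; 0, 0, K 1 2; 0, K 2 1, 0] := by
    have e : ∀ i j, (K * mT F) i j = (mB F * K) i j := fun i j => by rw [kT]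
    have e' : ∀ i j, (K * mB F) i j = (mT F * K) i j := fun i j => by rw [kB]
    have a01 := e' 0 1; have a02 := e 0 2; have a10 := e 1 0; have a11 := e 1 1; have a20 := e' 2 0; have a22 := e 2 2
    simp [mT, mB, Matrix.mul_apply, Fin.sum_univ_three] at a01 a02 a10 a11 a20 a22
    ext i j
    fin_cases i <;> fin_cases j <;> simp <;> grind
  have hWs : W = !![0, W 0 1, 0; W 1 0, 0, 0; 0, 0, W 2 2] := by
    have e : ∀ i j, (W * mT F) i j = (mT F * W) i j := fun i j => by rw [wT]
    have e' : ∀ i j, (W * mB F) i j = (mB F * mT F * W) i j := fun i j => by rw [wB]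
    have a02 := e 0 2; have a12 := e 1 2; have a20 := e 2 0; have a21 := e 2 1; have a00 := e' 0 0; have a11 := e' 1 1
    simp [mT, mB, Matrix.mul_apply, Fin.sum_univ_three] at a02 a12 a20 a21 a00 a11
    ext i j
    fin_cases i <;> fin_cases j <;> simp <;> grind
  have hkd : K.det = 1 := by rw [hK, hcd, dk]
  have hwd : W.det = 1 := by rw [hW, hcd, dw]
  rw [hKs, Matrix.det_fin_three] at hkd
  simp at hkd
  rw [hWs, Matrix.det_fin_three] at hwd
  simp at hwd
  have k12 : K 1 2 * K 2 1 = 1 := by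
    have := congrFun (congrFun hKK 1) 1
    rw [hKs] at this
    simpa [Matrix.mul_apply, Fin.sum_univ_three] using this
  have k00 : K 0 0 = -1 := by linear_combination -hkd - K 0 0 * k12
  have w01 : W 0 1 * W 1 0 = 1 := by
    have := congrFun (congrFun hWW 0) 0
    rw [hWs] at this
    simpa [Matrix.mul_apply, Fin.sum_univ_three] using this
  have w22 : W 2 2 = -1 := by linear_combination -hwd - W 2 2 * w01
  -- scaling
  obtain ⟨D, hD, hD'⟩ : ∃ D : GL (Fin 3) F, (D : M3) = Matrix.diagonal ![W 0 1, 1, K 2 1] ∧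
      ((D⁻¹ : GL (Fin 3) F) : M3) = Matrix.diagonal ![W 1 0, 1, K 1 2] :=
    ⟨⟨Matrix.diagonal ![W 0 1, 1, K 2 1], Matrix.diagonal ![W 1 0, 1, K 1 2], by
      rw [Matrix.diagonal_mul_diagonal, ← Matrix.diagonal_one]; congr 1; funext i
      fin_cases i <;> simp [w01, mul_comm (K 2 1), k12], by
      rw [Matrix.diagonal_mul_diagonal, ← Matrix.diagonal_one]; congr 1; funext i
      fin_cases i <;> simp [mul_comm (W 1 0), w01, k12]⟩, rfl, rfl⟩
  have hQD : ∀ A, cj (Q₀ * D) A = cj D (cj Q₀ A) := fun A => by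
    simp only [cj, _root_.mul_inv_rev, Units.val_mul, mul_assoc]
  have ft : cj (Q₀ * D) t = mT F := by
    rw [hQD, hQt]
    simp only [cj, hD, hD', mT_eq, Matrix.diagonal_mul_diagonal]
    congr 1; funext i
    fin_cases i <;> simp [mul_comm (W 1 0), w01, k12]
  have fb : cj (Q₀ * D) (k * t * k) = mB F := by
    rw [hQD, hQb]
    simp only [cj, hD, hD', mB_eq, Matrix.diagonal_mul_diagonal]
    congr 1; funext i
    fin_cases i <;> simp [mul_comm (W 1 0), w01, k12]
  have fk : cj (Q₀ * D) k = mK F := by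
    rw [hQD, ← hK]
    simp only [cj, hD, hD']
    ext i j
    rw [Matrix.mul_diagonal, Matrix.diagonal_mul, hKs]
    fin_cases i <;> fin_cases j <;> simp [mK, k00, k12, mul_comm (W 1 0), w01, mul_comm (K 1 2)]
  have fw : cj (Q₀ * D) w = mW F := by
    rw [hQD, ← hW]
    simp only [cj, hD, hD']
    ext i j
    rw [Matrix.mul_diagonal, Matrix.diagonal_mul, hWs]
    fin_cases i <;> fin_cases j <;> simp [mW, w22, w01, mul_comm (W 1 0), k12, mul_comm (K 1 2)]
  -- the fourth involution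
  obtain ⟨V, hV⟩ : ∃ V, V = cj (Q₀ * D) v := ⟨_, rfl⟩
  have hVV : V * V = 1 := by rw [hV, ← hcj, R.vv, hc1]
  have vT : V * mT F = mT F * V := by rw [hV, ← ft, ← hcj, ← hcj, R.tv]
  have hVd : V.det = 1 := by rw [hV, hcd, dv]
  have hpw : ∀ A B, (cj (Q₀ * D) A * cj (Q₀ * D) B) ^ 3 = cj (Q₀ * D) ((A * B) ^ 3) := fun A B => by
    simp only [pow_succ, pow_zero, one_mul, hcj]
  have hBV : (mB F * V) ^ 3 = 1 := by rw [hV, ← fb, hpw, R.bv, hc1]
  have hWV : (mW F * V) ^ 3 = 1 := by rw [hV, ← fw, hpw, R.wv, hc1]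
  have hVb : V ≠ mB F := fun e => N.vb (by
    rw [hV, ← fb] at e
    have := congrArg (fun A => ((Q₀ * D : GL (Fin 3) F) : M3) * A * (((Q₀ * D)⁻¹ : GL (Fin 3) F) : M3)) e
    simpa only [cj, mul_assoc, Units.mul_inv_cancel_left, Units.mul_inv, mul_one] using this)
  have hVs : V = !![V 0 0, V 0 1, 0; V 1 0, V 1 1, 0; 0, 0, V 2 2] := by
    have e : ∀ i j, (V * mT F) i j = (mT F * V) i j := fun i j => by rw [vT]
    have a02 := e 0 2; have a12 := e 1 2; have a20 := e 2 0; have a21 := e 2 1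
    simp [mT, Matrix.mul_apply, Fin.sum_univ_three] at a02 a12 a20 a21
    ext i j
    fin_cases i <;> fin_cases j <;> simp <;> grind
  obtain ⟨a, ha⟩ : ∃ a, a = V 0 0 := ⟨_, rfl⟩
  obtain ⟨q, hq⟩ : ∃ q, q = V 0 1 := ⟨_, rfl⟩
  obtain ⟨r, hr⟩ : ∃ r, r = V 1 0 := ⟨_, rfl⟩
  obtain ⟨d, hd⟩ : ∃ d, d = V 1 1 := ⟨_, rfl⟩
  obtain ⟨e, he⟩ : ∃ e, e = V 2 2 := ⟨_, rfl⟩
  rw [← ha, ← hq, ← hr, ← hd, ← he] at hVs
  rw [hVs] at hVV hVd hBV hWV hVb
  have v00 := congrFun (congrFun hVV 0) 0
  have v11 := congrFun (congrFun hVV 1) 1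
  have v22 := congrFun (congrFun hVV 2) 2
  simp [Matrix.mul_apply, Fin.sum_univ_three] at v00 v11 v22
  simp [Matrix.det_fin_three] at hVd
  have he1 : e = -1 := by
    rcases mul_self_eq_one_iff.1 v22 with h | h
    · exfalso
      have := congrFun (congrFun hBV 2) 2
      simp [mB, h, pow_succ, Matrix.mul_apply, Fin.sum_univ_three] at this
      exact h20 (by linear_combination -this)
    · exact h
  subst he1
  have hdq : a * d - q * r = -1 := by linear_combination -hVd
  have hda : d = -a := by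
    have h0 : (a + d) * (a + d) = 0 := by linear_combination v00 + v11 + 2 * hdq
    linear_combination mul_self_eq_zero.1 h0
  subst hda
  have hBV' : mB F * !![a, q, 0; r, -a, 0; 0, 0, -1] = !![-a, -q, 0; r, -a, 0; 0, 0, 1] := by
    ext i j; fin_cases i <;> fin_cases j <;> simp [mB, Matrix.mul_apply, Fin.sum_univ_three]
  rw [hBV', two_cube] at hBV
  have c00 := congrFun (congrFun hBV 0) 0
  have c01 := congrFun (congrFun hBV 0) 1
  have c10 := congrFun (congrFun hBV 1) 0
  simp at c00 c01 c10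
  have hdet : a * a + q * r = 1 := by linear_combination v00
  have h4a : 4 * a * a - 1 = 0 := by
    by_contra hne
    have hq0 : q = 0 := by
      refine (mul_eq_zero.1 (?_ : (4 * a * a - 1) * q = 0)).resolve_left hne
      rcases c01 with h | h
      · linear_combination q * h + q * hdet
      · rw [h, mul_zero]
    have hr0 : r = 0 := by
      refine (mul_eq_zero.1 (?_ : (4 * a * a - 1) * r = 0)).resolve_left hne
      rcases c10 with h | h
      · linear_combination r * h + r * hdet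
      · rw [h, mul_zero]
    subst hq0 hr0
    have ha1 : a = -1 := by linear_combination -c00 - a * hdet
    subst ha1
    exact hVb (by ext i j; fin_cases i <;> fin_cases j <;> simp [mB])
  have ha2 : a = 1 / 2 := by
    rw [eq_div_iff h20]
    linear_combination c00 + a * h4a - 3 * a * hdet
  have hWV' : mW F * !![a, q, 0; r, -a, 0; 0, 0, -1] = !![r, -a, 0; a, q, 0; 0, 0, 1] := by
    ext i j; fin_cases i <;> fin_cases j <;> simp [mW, Matrix.mul_apply, Fin.sum_univ_three]
  rw [hWV', two_cube] at hWV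
  have d01 := congrFun (congrFun hWV 0) 1
  have d00 := congrFun (congrFun hWV 0) 0
  simp at d00 d01
  have ha0 : a ≠ 0 := fun h => h20 (by rw [h] at h4a; linear_combination (-2 : F) * h4a)
  have hsum : q + r = -1 := by
    have h0 := d01.resolve_right ha0
    linear_combination -d00 + r * h0 - (r + q) * hdet
  refine ⟨Q₀ * D, 2 * q + 1, ?_, ft, fw, fk, ?_⟩
  · linear_combination (4 * q) * hsum - 4 * hdet + h4a
  · show cj (Q₀ * D) v = _
    rw [← hV, hVs, ha2]
    ext i j
    fin_cases i <;> fin_cases j <;> simp [mV]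
    · field_simp
    · field_simp; linear_combination 2 * hsum

theorem trace_mV_mK (h20 : (2 : F) ≠ 0) (s : F) : (mV s * mK F).trace = -(1 / 2) := by
  simp [mV, mK, Matrix.trace_fin_three, Matrix.mul_apply, Fin.sum_univ_three]

end CfsgLib.Perm.Trans.ThreeRes
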