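import Cfsg.Agent.Lib.Perm.Trans.ThreeRes.NoTv.Pair
import Cfsg.Agent.Lib.Perm.Trans.ThreeRes.NoTv.Frame
import Cfsg.Agent.Lib.Perm.Trans.ThreeRes.NoTv.Adjoint
import Cfsg.Agent.Lib.Perm.Trans.ThreeDim.Average
import Cfsg.Agent.Lib.Perm.Trans.ThreeDim.HeisSU
import Cfsg.Agent.Lib.Perm.Trans.ThreeDim.HeisComplex
import Cfsg.Agent.Lib.Char.LiftCoprime
import Mathlib.NumberTheory.Zsqrtd.Basic

/-!
# The four involutions do not live in a group without transvections

In characteristic three a product is unipotent, in characteristic five a word is a transvection, and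
from seven on the group generated has order prime to the characteristic, so it lifts to the complex
numbers, where `v k` would have a trace that is not integral.
-/

set_option autoImplicit false
set_option linter.all false

namespace CfsgLib.Perm.Trans.ThreeRes

open scoped Matrix
open Matrix Cfsg.Geo CfsgLib.Perm.Trans CfsgLib.Perm.Trans.ThreeDim

/-- no faithful complex representation of degree three -/
theorem no_complex {X : Type*} [Group X] [Finite X] {t w k v : X} (R : Gens t w k v) (N : Nondeg t k v)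
    (hgen : Subgroup.closure ({t, w, k, v} : Set X) = ⊤) (ρ : X →* Matrix (Fin 3) (Fin 3) ℂ)
    (hρ : Function.Injective ρ) : False := by
  obtain ⟨χ, hχ⟩ : ∃ χ : X →* ℂ, ∀ g, χ g = (ρ g).det :=
    ⟨{ toFun := fun g => (ρ g).det
       map_one' := by rw [map_one, Matrix.det_one]
       map_mul' := fun a b => by rw [map_mul, Matrix.det_mul] }, fun g => rfl⟩
  have hχ2 : ∀ g, χ g * χ g = 1 := by
    intro g
    have hg : g ∈ Subgroup.closure ({t, w, k, v} : Set X) := by rw [hgen]; exact Subgroup.mem_top g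
    induction hg using Subgroup.closure_induction with
    | mem x hx =>
      have hxx : x * x = 1 := by
        rcases hx with rfl | rfl | rfl | rfl
        exacts [R.tt, R.ww, R.kk, R.vv]
      rw [← map_mul, hxx, map_one]
    | one => rw [map_one, mul_one]
    | mul x y _ _ hx hy => rw [map_mul, mul_mul_mul_comm, hx, hy, mul_one]
    | inv x _ hx =>
      have h1 : χ x * χ x⁻¹ = 1 := by rw [← map_mul, mul_inv_cancel, map_one]
      linear_combination (χ x * χ x⁻¹ + 1) * h1 - χ x⁻¹ * χ x⁻¹ * hx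
  obtain ⟨σ, hσ⟩ : ∃ σ : X →* Matrix (Fin 3) (Fin 3) ℂ, ∀ g, σ g = χ g • ρ g :=
    ⟨{ toFun := fun g => χ g • ρ g
       map_one' := by rw [map_one, map_one, one_smul]
       map_mul' := fun a b => by rw [map_mul, map_mul, smul_mul_smul_comm] }, fun g => rfl⟩
  have hdet : ∀ g, (σ g).det = 1 := fun g => by
    rw [hσ, Matrix.det_smul, ← hχ, Fintype.card_fin]
    linear_combination (χ g * χ g + 1) * hχ2 g
  have hker : ∀ g, σ g = 1 → ∀ y, g * y = y * g := fun g hg y => by
    refine hρ ?_
    have e : ρ g = χ g • 1 := by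
      rw [← hg, hσ, smul_smul, hχ2, one_smul]
    rw [map_mul, map_mul, e, Matrix.smul_mul, Matrix.mul_smul, one_mul, mul_one]
  have hbb : k * t * k * (k * t * k) = 1 := by
    rw [show k * t * k * (k * t * k) = k * t * (k * k) * t * k by group, R.kk, mul_one, mul_assoc k t t, R.tt, mul_one, R.kk]
  have hcomm : (k * t * k) * v = v * (k * t * k) → False := fun h => by
    have h3 := R.bv
    rw [(show Commute (k * t * k) v from h).mul_pow, pow_succ, pow_two, hbb, one_mul, pow_succ, pow_two, R.vv, one_mul] at h3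
    refine N.vb ?_
    rw [← one_mul v, ← hbb, mul_assoc, h3, mul_one]
  have N' : Nondeg (σ t) (σ k) (σ v) := by
    refine ⟨fun e => ?_, fun e => ?_, fun e => ?_, fun e => ?_, fun e => ?_⟩
    · exact N.bt (by rw [← hker t e k, mul_assoc, R.kk, mul_one])
    · rw [← map_mul, ← map_mul] at e
      have hz : ∀ y, (k * t * k * t) * y = y * (k * t * k * t) := hker _ (by rw [map_mul, e, ← map_mul, R.tt, map_one])
      have h1 := R.wb
      have h2 : w * (k * t * k) * w = k * t * k := by
        calc w * (k * t * k) * w = w * ((k * t * k * t) * t) * w := by rw [mul_assoc (k * t * k) t t, R.tt, mul_one]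
          _ = (k * t * k * t) * (w * t * w) := by rw [← mul_assoc w, ← hz w]; group
          _ = k * t * k := by rw [← R.tw, mul_assoc t w w, R.ww, mul_one, mul_assoc _ t t, R.tt, mul_one]
      exact N.t1 (mul_left_cancel ((h1.symm.trans h2).trans (mul_one (k * t * k)).symm))
    · exact hcomm ((hker v e _).symm)
    · have hz : ∀ y, (v * t) * y = y * (v * t) := hker _ (by rw [map_mul, e, ← map_mul, R.tt, map_one])
      refine hcomm ?_
      rw [show v = v * t * t by rw [mul_assoc, R.tt, mul_one], ← mul_assoc (k * t * k), ← hz, mul_assoc (v * t),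
        ← R.tb, ← mul_assoc]
    · rw [← map_mul, ← map_mul] at e
      have hz : ∀ y, (v * (k * t * k)) * y = y * (v * (k * t * k)) :=
        hker _ (by rw [map_mul, e, ← map_mul, hbb, map_one])
      refine hcomm ?_
      rw [show (k * t * k) * v = k * t * k * (v * (k * t * k)) * (k * t * k) by
        rw [mul_assoc (k * t * k) (v * (k * t * k)), mul_assoc v, hbb, mul_one], ← hz, mul_assoc, hbb, mul_one]
  obtain ⟨Q, s, -, -, -, hk, hv⟩ := (R.map σ).frame two_ne_zero N' (hdet t) (hdet w) (hdet k) (hdet v)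
  have htr : (σ (v * k)).trace = -(1 / 2) := by
    rw [← trace_mV_mK two_ne_zero s, ← hv, ← hk, map_mul]
    simp only [mul_assoc, Units.mul_inv_cancel_left]
    rw [Matrix.trace_mul_comm ((Q⁻¹ : GL (Fin 3) ℂ) : Matrix (Fin 3) (Fin 3) ℂ)]
    simp only [mul_assoc, Units.mul_inv, mul_one]
  have hint := Heis.isIntegral_trace (σ.isOfFinOrder (isOfFinOrder_of_finite (v * k)))
  rw [htr, show (-(1 / 2) : ℂ) = ((-1 : ℤ) : ℂ) / 2 by push_cast; ring] at hint
  exact Heis.not_isIntegral_half (n := -1) ⟨-1, by norm_num⟩ hint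

variable {F : Type*} [Field F]

local notation "M3" => Matrix (Fin 3) (Fin 3) F

theorem map_mV {p : ℕ} [Fact p.Prime] [CharP F p] (s : F) :
    (mT F).map (frobenius F p) = mT F ∧ (mW F).map (frobenius F p) = mW F ∧ (mK F).map (frobenius F p) = mK F ∧
      (mV s).map (frobenius F p) = mV (frobenius F p s) := by
  refine ⟨?_, ?_, ?_, ?_⟩ <;> ext i j <;> fin_cases i <;> fin_cases j <;>
    simp [mT, mW, mK, mV, Matrix.map_apply, map_div₀, map_ofNat]

/-- the characteristic five word -/
def word5 : List (Matrix (Fin 3) (Fin 3) (Zsqrtd 3)) :=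
  let T : Matrix (Fin 3) (Fin 3) (Zsqrtd 3) := !![-1, 0, 0; 0, -1, 0; 0, 0, 1]
  let W : Matrix (Fin 3) (Fin 3) (Zsqrtd 3) := !![0, 1, 0; 1, 0, 0; 0, 0, -1]
  let K : Matrix (Fin 3) (Fin 3) (Zsqrtd 3) := !![-1, 0, 0; 0, 0, 1; 0, 1, 0]
  let V : Matrix (Fin 3) (Fin 3) (Zsqrtd 3) := !![⟨3, 0⟩, ⟨-3, 3⟩, 0; ⟨-3, -3⟩, ⟨-3, 0⟩, 0; 0, 0, -1]
  [T, W, K, T, V, K, V, W, K, V, K, T, W, V, K, V, W, K, V]

/-- centre and axis of the word -/
def word5u : Fin 3 → Zsqrtd 3 := ![⟨2, 0⟩, ⟨0, 2⟩, ⟨4, 1⟩]

/-- centre and axis of the word -/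
def word5c : Fin 3 → Zsqrtd 3 := ![⟨0, 3⟩, ⟨1, 0⟩, ⟨3, 1⟩]

theorem word5_eq : ∀ i j, (5 : ℤ) ∣ ((word5.prod - 1 - vecMulVec word5u word5c) i j).re ∧
    (5 : ℤ) ∣ ((word5.prod - 1 - vecMulVec word5u word5c) i j).im := by
  decide +kernel

variable [Finite F] {p : ℕ} [hp : Fact p.Prime] [CharP F p] {P : Subgroup (GL (Fin 3) F)}

/-- the four involutions do not occur -/
theorem not_gens (hp2 : p ≠ 2) (hle : P ≤ specialLinear (Fin 3) F) (hno : NoTv P) {t w k v : GL (Fin 3) F}
    (ht : t ∈ P) (hw : w ∈ P) (hk : k ∈ P) (hv : v ∈ P) (R : Gens t w k v) (N : Nondeg t k v) : False := by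
  classical
  haveI := Fintype.ofFinite F
  have h20 : (2 : F) ≠ 0 := Ring.two_ne_zero (fun e0 => hp2 ((CharP.eq F (ringChar.charP F) ‹CharP F p›).symm.trans e0))
  obtain ⟨cv, hcv⟩ : ∃ cv : GL (Fin 3) F →* M3, cv = Units.coeHom M3 := ⟨_, rfl⟩
  have hci : Function.Injective cv := hcv ▸ Units.val_injective
  have hca : ∀ g, cv g = (g : M3) := fun g => by rw [hcv]; rfl
  have R' : Gens (t : M3) (w : M3) (k : M3) (v : M3) := by rw [← hca, ← hca, ← hca, ← hca]; exact R.map cv
  have N' : Nondeg (t : M3) (k : M3) (v : M3) := by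
    refine ⟨fun e => N.t1 (hci (by rw [hca, e, map_one])), fun e => N.bt (hci (by rw [map_mul, map_mul, hca, hca, e])),
      fun e => N.v1 (hci (by rw [hca, e, map_one])), fun e => N.vt (hci (by rw [hca, e, hca])),
      fun e => N.vb (hci (by rw [map_mul, map_mul, hca, hca, hca, e]))⟩
  obtain ⟨Q, s, hs, et, ew, ek, ev⟩ := R'.frame h20 N' (det_one_of_mem hle ht) (det_one_of_mem hle hw)
    (det_one_of_mem hle hk) (det_one_of_mem hle hv)
  set P' := pconj Q P with hP'
  have hno' : NoTv P' := noTv_pconj hno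
  have hle' : P' ≤ specialLinear (Fin 3) F := by
    rintro _ ⟨g, hg, rfl⟩
    have hd := det_one_of_mem hle hg
    show Matrix.GeneralLinearGroup.det _ = 1
    refine Units.ext ?_
    rw [Matrix.GeneralLinearGroup.val_det_apply, Units.val_one,
      show (((MulAut.conj Q⁻¹).toMonoidHom g : GL (Fin 3) F) : M3) = ((Q⁻¹ : GL (Fin 3) F) : M3) * (g : M3) * (Q : M3) by
        simp [MulAut.conj_apply], Matrix.det_units_conj', hd]
  obtain ⟨c, hc⟩ : ∃ c : GL (Fin 3) F →* GL (Fin 3) F, c = (MulAut.conj Q⁻¹).toMonoidHom := ⟨_, rfl⟩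
  have hcg : ∀ g, (c g : M3) = ((Q⁻¹ : GL (Fin 3) F) : M3) * (g : M3) * (Q : M3) := fun g => by
    simp [hc, MulAut.conj_apply]
  have hcin : Function.Injective c := hc ▸ (MulAut.conj Q⁻¹).injective
  have R2 : Gens (c t) (c w) (c k) (c v) := R.map c
  have N2 : Nondeg (c t) (c k) (c v) := by
    refine ⟨fun e => N.t1 (hcin (by rw [e, map_one])), fun e => N.bt (hcin (by rw [map_mul, map_mul, e])),
      fun e => N.v1 (hcin (by rw [e, map_one])), fun e => N.vt (hcin e),
      fun e => N.vb (hcin (by rw [map_mul, map_mul, e]))⟩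
  obtain ⟨t', ht'⟩ : ∃ t', t' = c t := ⟨_, rfl⟩
  obtain ⟨w', hw'⟩ : ∃ w', w' = c w := ⟨_, rfl⟩
  obtain ⟨k', hk'⟩ : ∃ k', k' = c k := ⟨_, rfl⟩
  obtain ⟨v', hv'⟩ : ∃ v', v' = c v := ⟨_, rfl⟩
  rw [← ht', ← hw', ← hk', ← hv'] at R2
  rw [← ht', ← hk', ← hv'] at N2
  have mt : (t' : M3) = mT F := by rw [ht', hcg, et]
  have mw : (w' : M3) = mW F := by rw [hw', hcg, ew]
  have mk : (k' : M3) = mK F := by rw [hk', hcg, ek]
  have mv : (v' : M3) = mV s := by rw [hv', hcg, ev]
  have qt : t' ∈ P' := ⟨t, ht, by rw [ht', hc]⟩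
  have qw : w' ∈ P' := ⟨w, hw, by rw [hw', hc]⟩
  have qk : k' ∈ P' := ⟨k, hk, by rw [hk', hc]⟩
  have qv : v' ∈ P' := ⟨v, hv, by rw [hv', hc]⟩
  by_cases hp3 : p = 3
  · -- characteristic three
    subst hp3
    refine N2.vb ?_
    have hg : k' * t' * k' * v' = 1 := blk_p_trivial hp2 hle' hno'
      (P'.mul_mem (P'.mul_mem (P'.mul_mem qk qt) qk) qv)
      (by simp [IsBlk, mt, mk, mv, mT, mK, mV, Matrix.mul_apply, Fin.sum_univ_three]) R2.bv
    have hbb : k' * t' * k' * (k' * t' * k') = 1 := by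
      rw [show k' * t' * k' * (k' * t' * k') = k' * t' * (k' * k') * t' * k' by group, R2.kk, mul_one,
        mul_assoc k' t' t', R2.tt, mul_one, R2.kk]
    exact mul_left_cancel (hg.trans hbb.symm)
  by_cases hp5 : p = 5
  · -- characteristic five
    subst hp5
    have h5 : (5 : F) = 0 := by simpa using CharP.cast_eq_zero F 5
    let red : Zsqrtd 3 →+* F := Zsqrtd.lift ⟨s, by rw [hs]; push_cast; linear_combination -h5⟩
    have red0 : ∀ z : Zsqrtd 3, (5 : ℤ) ∣ z.re → (5 : ℤ) ∣ z.im → red z = 0 := fun z h1 h2 => by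
      obtain ⟨a, ha⟩ := h1
      obtain ⟨b, hb⟩ := h2
      show (z.re : F) + (z.im : F) * s = 0
      rw [ha, hb]
      push_cast
      linear_combination ((a : F) + (b : F) * s) * h5
    obtain ⟨g, hg, hgm⟩ : ∃ g ∈ P', (g : M3) = (word5.prod).map red := by
      refine ⟨([t', w', k', t', v', k', v', w', k', v', k', t', w', v', k', v', w', k', v'] : List _).prod,
        by simp only [List.prod_cons, List.prod_nil, mul_one]; repeat' (first | assumption | apply P'.mul_mem), ?_⟩
      have half : (1 / 2 : F) = 3 := by rw [div_eq_iff h20]; linear_combination -h5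
      have eT : (t' : M3) = (!![-1, 0, 0; 0, -1, 0; 0, 0, 1] : Matrix (Fin 3) (Fin 3) (Zsqrtd 3)).map red := by
        rw [mt]; ext i j; fin_cases i <;> fin_cases j <;> simp [mT]
      have eW : (w' : M3) = (!![0, 1, 0; 1, 0, 0; 0, 0, -1] : Matrix (Fin 3) (Fin 3) (Zsqrtd 3)).map red := by
        rw [mw]; ext i j; fin_cases i <;> fin_cases j <;> simp [mW]
      have eK : (k' : M3) = (!![-1, 0, 0; 0, 0, 1; 0, 1, 0] : Matrix (Fin 3) (Fin 3) (Zsqrtd 3)).map red := by
        rw [mk]; ext i j; fin_cases i <;> fin_cases j <;> simp [mK]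
      have eV : (v' : M3) = (!![⟨3, 0⟩, ⟨-3, 3⟩, 0; ⟨-3, -3⟩, ⟨-3, 0⟩, 0; 0, 0, -1] :
          Matrix (Fin 3) (Fin 3) (Zsqrtd 3)).map red := by
        rw [mv, mV, half]
        ext i j
        fin_cases i <;> fin_cases j <;> simp [red, div_eq_mul_inv, show (2 : F)⁻¹ = 3 by rw [← half, one_div]] <;> ring
      simp only [List.prod_cons, List.prod_nil, mul_one, Units.val_mul, word5, eT, eW, eK, eV, Matrix.map_mul]
    have hpi : ∀ i j, red (((word5.prod) - 1 - vecMulVec word5u word5c) i j) = 0 := fun i j =>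
      red0 _ (word5_eq i j).1 (word5_eq i j).2
    have e : (g : M3) = 1 + vecMulVec (fun i => red (word5u i)) (fun j => red (word5c j)) := by
      ext i j
      have := hpi i j
      rw [Matrix.sub_apply, Matrix.sub_apply, map_sub, map_sub, vecMulVec_apply, map_mul] at this
      rw [hgm, Matrix.map_apply, Matrix.add_apply, vecMulVec_apply, Matrix.one_apply]
      rw [Matrix.one_apply, apply_ite red, map_one, map_zero] at this
      linear_combination this
    have h1 := eq_one_of_rank_one hle' hno' hg e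
    rw [h1] at e
    have h01 := congrFun (congrFun e 0) 1
    simp [vecMulVec_apply, word5u, word5c, red] at h01
    exact h20 h01.symm
  -- characteristic at least seven
  have hp7 : 7 ≤ p := by
    have h2 := hp.out.two_le
    by_contra hcon
    interval_cases p
    · exact hp2 rfl
    · exact hp3 rfl
    · exact absurd hp.out (by norm_num)
    · exact hp5 rfl
    · exact absurd hp.out (by norm_num)
  set K0 := Subgroup.closure ({t', w', k', v'} : Set (GL (Fin 3) F)) with hK0
  have hK0le : K0 ≤ P' := (Subgroup.closure_le _).2 (by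
    rintro x (rfl | rfl | rfl | rfl) <;> assumption)
  have hnoK : NoTv K0 := fun x ψ h => hno' x ψ ⟨h.1, by obtain ⟨-, h2⟩ := h; exact hK0le h2⟩
  have mem_gen : t' ∈ K0 ∧ w' ∈ K0 ∧ k' ∈ K0 ∧ v' ∈ K0 :=
    ⟨Subgroup.subset_closure (by simp), Subgroup.subset_closure (by simp), Subgroup.subset_closure (by simp),
      Subgroup.subset_closure (by simp)⟩
  -- rationality
  have hss : frobenius F p s = s ∨ frobenius F p s = -s := by
    refine mul_self_eq_mul_self_iff.1 ?_
    rw [← map_mul, hs, map_neg, map_ofNat]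
  obtain ⟨fT, fW, fK, fV⟩ := map_mV (F := F) (p := p) s
  have hrat : Rational K0 := by
    rcases hss with hfs | hfs
    · intro u hu v hv β γ h3 hn2 hv'
      have hfix : ∀ g ∈ K0, (g : M3).map (frobenius F p) = (g : M3) := by
        intro g hg
        have hfix' : Units.map (frobenius F p).mapMatrix.toMonoidHom g = g := by
          induction hg using Subgroup.closure_induction with
          | mem x hx =>
            refine Units.ext ?_
            show (x : M3).map (frobenius F p) = (x : M3)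
            rcases hx with rfl | rfl | rfl | rfl
            · rw [mt, fT]
            · rw [mw, fW]
            · rw [mk, fK]
            · rw [mv, fV, hfs]
          | one => rw [map_one]
          | mul a b _ _ h1 h2 => rw [map_mul, h1, h2]
          | inv a _ h1 => rw [map_inv, h1]
        exact congrArg Units.val hfix'
      obtain ⟨M, hM⟩ : ∃ M, M = (u : M3) - 1 := ⟨_, rfl⟩
      rw [← hM] at h3 hn2 hv'
      have hMf : (frobenius F p).mapMatrix M = M := by
        rw [hM, map_sub, map_one, RingHom.mapMatrix_apply, hfix u hu]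
      have hvf : (frobenius F p).mapMatrix (v : M3) = (v : M3) := hfix v hv
      have hsm : ∀ (c : F) (A : M3), (frobenius F p).mapMatrix (c • A) = c ^ p • (frobenius F p).mapMatrix A := fun c A => by
        ext i j; simp [frobenius_def, mul_pow]
      rw [hv', map_add, map_add, map_one, hsm, hsm, map_pow, hMf] at hvf
      have h5 := congrArg (fun A => M * A) hvf
      simp only [mul_add, mul_one, Matrix.mul_smul, ← pow_succ', h3, smul_zero, add_zero] at h5
      have h6 : (β ^ p - β) • M ^ 2 = 0 := by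
        rw [pow_two]; linear_combination (norm := module) h5
      exact Heis.exists_natCast_of_pow_eq (sub_eq_zero.1 ((smul_eq_zero.1 h6).resolve_right hn2))
    · refine Heis.rational_of_unitary ((Subgroup.closure_le _).2 fun g hg => ?_)
      have key : ∀ x : GL (Fin 3) F, x * x = 1 → (x : M3).map (frobenius F p) = (x : M3)ᵀ → x ∈ Cfsg.GU 3 F p := by
        intro x hx hxm
        rw [CfsgLib.Perm.Elusive.mem_GU_three, hxm, ← Matrix.transpose_mul, ← Units.val_mul, hx, Units.val_one,
          Matrix.transpose_one]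
      rcases hg with rfl | rfl | rfl | rfl
      · exact key _ R2.tt (by rw [mt, fT]; ext i j; fin_cases i <;> fin_cases j <;> simp [mT])
      · exact key _ R2.ww (by rw [mw, fW]; ext i j; fin_cases i <;> fin_cases j <;> simp [mW])
      · exact key _ R2.kk (by rw [mk, fK]; ext i j; fin_cases i <;> fin_cases j <;> simp [mK])
      · exact key _ R2.vv (by rw [mv, fV, hfs]; ext i j; fin_cases i <;> fin_cases j <;> simp [mV, sub_eq_add_neg])
  have hsimple : AdSimple K0 := adSimple_gens h20 hs R2 mem_gen mt mw mk mv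
  haveI : Fintype K0 := Fintype.ofFinite _
  have hcop := not_dvd_card hp7 hnoK hsimple hrat
  obtain ⟨ρ, hρ⟩ := CfsgLib.Char.LiftCoprime.exists_complex (F := F) hp.out hcop
    ((Units.coeHom M3).comp K0.subtype) (Units.val_injective.comp K0.subtype_injective)
  have hsub : ∀ {x y : GL (Fin 3) F} {hx : x ∈ K0} {hy : y ∈ K0}, x = y → (⟨x, hx⟩ : K0) = ⟨y, hy⟩ :=
    fun h => Subtype.ext h
  refine no_complex (X := K0) (t := ⟨t', mem_gen.1⟩) (w := ⟨w', mem_gen.2.1⟩) (k := ⟨k', mem_gen.2.2.1⟩)
    (v := ⟨v', mem_gen.2.2.2⟩) ?_ ?_ ?_ ρ hρ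
  · constructor <;> refine Subtype.ext ?_ <;> simp only [Subgroup.coe_mul, SubgroupClass.coe_pow, OneMemClass.coe_one]
    exacts [R2.tt, R2.ww, R2.kk, R2.vv, R2.tw, R2.tv, R2.tb, R2.wb, R2.bv, R2.wv]
  · exact ⟨fun e => N2.t1 (congrArg Subtype.val e), fun e => N2.bt (congrArg Subtype.val e),
      fun e => N2.v1 (congrArg Subtype.val e), fun e => N2.vt (congrArg Subtype.val e),
      fun e => N2.vb (congrArg Subtype.val e)⟩
  · rw [eq_top_iff]
    rintro ⟨x, hx⟩ -
    induction hx using Subgroup.closure_induction with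
    | mem y hy =>
      refine Subgroup.subset_closure ?_
      rcases hy with rfl | rfl | rfl | rfl <;> simp
    | one => exact Subgroup.one_mem _
    | mul a b _ _ h1 h2 => exact Subgroup.mul_mem _ h1 h2
    | inv a _ h1 => exact Subgroup.inv_mem _ h1

end CfsgLib.Perm.Trans.ThreeRes
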