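import Cfsg.Agent.Lib.Perm.Trans.ThreeRes.NoTv.Setup
import Cfsg.Agent.Lib.Perm.Trans.ThreeRes.NoTv.NoGens
import Cfsg.Agent.Lib.Invol.QDTransfer

/-!
# Semidihedral Sylow two-subgroups do not occur

The fusion of involutions and of elements of order four gives four involutions with the relations
`Gens`.
-/

set_option autoImplicit false
set_option linter.all false

namespace CfsgLib.Perm.Trans.ThreeRes

open scoped Matrix
open Matrix Cfsg.Geo CfsgLib.Perm.Trans.ThreeDim CfsgLib.Invol CfsgLib.Perm.Dickson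

set_option synthInstance.maxSize 4000 in
set_option synthInstance.maxHeartbeats 200000 in
/-- what is used about the symmetric group of degree four -/
theorem perm_four_facts : ∀ A : Equiv.Perm (Fin 4), A * A * (A * A) = 1 → A * A ≠ 1 → ∀ B, B * B = 1 →
    B * A * B = A⁻¹ → ∀ G, G * (A * B) * G⁻¹ = A * A →
    G * B * G⁻¹ ≠ B ∧ (B * (G * B * G⁻¹)) * (B * (G * B * G⁻¹)) * (B * (G * B * G⁻¹)) = 1 ∧
      (B * (A * A) * (G * B * G⁻¹)) * (B * (A * A) * (G * B * G⁻¹)) * (B * (A * A) * (G * B * G⁻¹)) = 1 ∧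
      ∀ X, X * B = B * X → X = 1 ∨ X = B ∨ X = A * A ∨ X = B * (A * A) := by
  decide +kernel

variable {F : Type*} [Field F] [Finite F] {p : ℕ} [hp : Fact p.Prime] [CharP F p] {P : Subgroup (GL (Fin 3) F)}

local notation "M3" => Matrix (Fin 3) (Fin 3) F

theorem not_index_two (hP : Quasi P) {H : Subgroup P} (hH : H.index = 2) : False := by
  haveI := Subgroup.normal_of_index_eq_two hH
  rcases hP.normal_cases H with h | h
  · refine hP.nonabelian ⟨⟨fun x y => ?_⟩⟩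
    have hsq : ∀ q : P ⧸ Socle.scal P, q * q = 1 := by
      intro q
      obtain ⟨g, rfl⟩ := QuotientGroup.mk_surjective q
      rw [← QuotientGroup.mk_mul]
      exact (QuotientGroup.eq_one_iff (N := Socle.scal P) _).2 (h (Subgroup.mul_self_mem_of_index_two hH g))
    have hinv : ∀ q : P ⧸ Socle.scal P, q⁻¹ = q := fun q => inv_eq_of_mul_eq_one_right (hsq q)
    calc x * y = (x * y)⁻¹ := (hinv _).symm
      _ = y * x := by rw [_root_.mul_inv_rev, hinv, hinv]
  · rw [h, Subgroup.index_top] at hH; norm_num at hH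

set_option maxHeartbeats 1000000 in
/-- semidihedral Sylow two-subgroups do not occur -/
theorem not_semidihedral (hP : Quasi P) (hno : NoTv P) (hp2 : p ≠ 2) [Fact (Nat.Prime 2)] (S : Sylow 2 P) {t : P}
    (htS : t ∈ S) (ht : ((t : GL (Fin 3) F) : M3) = mT F) (htc : ∀ x ∈ S, t * x = x * t)
    (hsd : Cfsg.IsQuasiDihedral (S : Subgroup P)) : False := by
  classical
  have h20 : (2 : F) ≠ 0 := Ring.two_ne_zero (fun e0 => hp2 ((CharP.eq F (ringChar.charP F) ‹CharP F p›).symm.trans e0))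
  obtain ⟨h, a, b, Q⟩ : ∃ (h : ℤ) (a b : (S : Subgroup P)), QDFrame h a b := by
    obtain ⟨k, a, b, -, -, Q⟩ := exists_qdFrame hsd
    exact ⟨_, a, b, Q⟩
  have htt : t * t = 1 := by
    refine Subtype.ext (Units.ext ?_)
    rw [Subgroup.coe_mul, Units.val_mul, ht, mT_eq, Matrix.diagonal_mul_diagonal]
    show _ = (1 : M3)
    rw [← Matrix.diagonal_one]; congr 1; funext i; fin_cases i <;> simp
  have ht1 : t ≠ 1 := fun e => h20 (by
    rw [e] at ht
    have := congrFun (congrFun ht 0) 0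
    simp [mT] at this
    linear_combination this)
  -- the central involution
  have htz : t = rotG a (2 * h) := by
    rcases Q.invol_casesG htS (orderOf_eq_prime (by rw [pow_two, htt]) ht1) with e | ⟨i, -, e⟩
    · exact e
    · exfalso
      have h1 := htc _ (rotG_mem a 1)
      rw [e] at h1
      have h2 := Q.rot_ref_commute_iff.1 (Subtype.ext h1.symm : a ^ (1 : ℤ) * (a ^ i * b) = a ^ i * b * a ^ (1 : ℤ))
      have := Q.two_le
      have := Int.le_of_dvd one_pos h2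
      omega
  have hfusedTwo : FusedTwo a b h := by
    by_contra hcon
    obtain ⟨H, hH, -⟩ := Q.exists_index_two_two hcon
    exact not_index_two hP hH
  have hfusedFour : FusedFour a b h := by
    by_contra hcon
    obtain ⟨H, hH, -⟩ := Q.exists_index_two_four hcon
    exact not_index_two hP hH
  -- the centraliser
  obtain ⟨C, hCm⟩ : ∃ C : Subgroup P, ∀ g, g ∈ C ↔ t * g = g * t :=
    ⟨Subgroup.centralizer {t}, fun g => by simp [Subgroup.mem_centralizer_iff]⟩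
  obtain ⟨hb, bl, hbl⟩ := exists_bl h20 ht (C := C) fun g hg => (hCm g).1 hg
  obtain ⟨φ, hφ⟩ : ∃ φ : C →* G2 F, φ = ProjGenLinGroup.mk.comp bl.toHomUnits := ⟨_, rfl⟩
  have htC : t ∈ C := (hCm t).2 rfl
  have hSC : ∀ x ∈ S, x ∈ C := fun x hx => (hCm x).2 (htc x hx)
  have hzcomm : ∀ z ∈ Socle.scal P, ∀ y : P, z * y = y * z := fun z hz y => (Socle.scal_comm hP hz y).symm
  have hker : ∀ x : C, φ x = 1 → ∃ z ∈ Socle.scal P, (x : P) = z ∨ (x : P) = z * t := by
    intro x hx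
    rw [← map_one φ, hφ] at hx
    obtain ⟨c, hc⟩ := ProjGenLinGroup.mk_eq_mk_iff.1 hx.symm
    refine scal_blk hP hno hp2 ht (hb x x.2) (κ := c) ?_
    have := congrArg (fun g : GL (Fin 2) F => (g : Matrix (Fin 2) (Fin 2) F)) hc
    simp only [MonoidHom.coe_toHomUnits, map_one, Units.val_mul, mul_one, Units.val_one] at this
    rw [← hbl, ← this]
    ext i j; simp [Matrix.scalar, Matrix.one_apply]
  have hφt : φ ⟨t, htC⟩ = 1 := by
    rw [← map_one φ, hφ]
    refine (ProjGenLinGroup.mk_eq_mk_iff.2 ⟨-1, Units.ext ?_⟩).symm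
    show _ = bl ⟨t, htC⟩
    rw [hbl]
    ext i j; fin_cases i <;> fin_cases j <;> simp [Matrix.scalar, blk, ht, mT]
  have hkerS : ∀ x : C, φ x = 1 → (x : P) ∈ S → (x : P) = 1 ∨ (x : P) = t := by
    intro x hx hxS
    obtain ⟨z, hz, e⟩ := hker x hx
    have hzS : z ∈ (S : Subgroup P) := by
      rcases e with e | e
      · exact e ▸ hxS
      · exact (Subgroup.mul_mem_cancel_right _ htS).1 (e ▸ hxS)
    obtain ⟨k, hk⟩ := S.2 ⟨z, hzS⟩
    rw [scal_odd hP hz (congrArg Subtype.val hk), one_mul] at e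
    exact e
  haveI := finite_G2 (F := F)
  have hcop : ¬ p ∣ Nat.card φ.range := by
    intro hd
    obtain ⟨x, hx⟩ := exists_prime_orderOf_dvd_card' (G := C) p (hd.trans (Subgroup.card_range_dvd φ))
    have hxp : ((x : P) : GL (Fin 3) F) ^ p = 1 := by
      have h1 := pow_orderOf_eq_one x
      rw [hx] at h1
      rw [← SubgroupClass.coe_pow, ← SubgroupClass.coe_pow, h1]; rfl
    have := blk_p_trivial hp2 hP.le_sl hno (x : P).2 (hb x x.2) hxp
    rw [show x = 1 from Subtype.ext (Subtype.ext this), orderOf_one] at hx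
    exact hp.out.ne_one hx.symm
  -- the generators in the centraliser
  have h2le := Q.two_le
  obtain ⟨a1, ha1⟩ : ∃ x : C, (x : P) = rotG a 1 := ⟨⟨_, hSC _ (rotG_mem a 1)⟩, rfl⟩
  obtain ⟨b0, hb0⟩ : ∃ x : C, (x : P) = refG a b 0 := ⟨⟨_, hSC _ (refG_mem a b 0)⟩, rfl⟩
  obtain ⟨j1, hj1⟩ : ∃ x : C, (x : P) = refG a b 1 := ⟨⟨_, hSC _ (refG_mem a b 1)⟩, rfl⟩
  obtain ⟨ih, hih⟩ : ∃ x : C, (x : P) = rotG a h := ⟨⟨_, hSC _ (rotG_mem a h)⟩, rfl⟩
  obtain ⟨g0, hg0⟩ := isConj_iff.1 (Q.fusedFour_iff.1 hfusedFour)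
  obtain ⟨g, hg⟩ : ∃ x : C, (x : P) = g0 := by
    refine ⟨⟨g0, (hCm g0).2 ?_⟩, rfl⟩
    have e : g0 * t * g0⁻¹ = t := by
      calc g0 * t * g0⁻¹ = (g0 * refG a b 1 * g0⁻¹) * (g0 * refG a b 1 * g0⁻¹) := by
            rw [htz, ← Q.sq_refG_odd (i := 1) (by norm_num)]; group
        _ = t := by rw [hg0, QDFrame.sq_quarter, htz]
    exact (mul_inv_eq_iff_eq_mul.1 e).symm
  have hjab : a1 * b0 = j1 := Subtype.ext (by rw [Subgroup.coe_mul, ha1, hb0, hj1, ← refG_eq, add_zero])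
  have hgj : g * j1 * g⁻¹ = ih := Subtype.ext (by simp only [Subgroup.coe_mul, Subgroup.coe_inv, hg, hj1, hih, hg0])
  have hb00 : b0 * b0 = 1 := Subtype.ext (by
    rw [Subgroup.coe_mul, hb0, ← pow_two, ← Q.orderOf_refG_even (dvd_zero 2), pow_orderOf_eq_one]; rfl)
  have hjj : j1 * j1 = ⟨t, htC⟩ := Subtype.ext (by
    rw [Subgroup.coe_mul, hj1, Q.sq_refG_odd (by norm_num)]; exact htz.symm)
  have haja : a1 * j1 * a1 = ⟨t, htC⟩ * j1 := Subtype.ext (by
    simp only [Subgroup.coe_mul, ha1, hj1]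
    rw [htz, rotG, refG, rotG, ← Subgroup.coe_mul, ← Subgroup.coe_mul, ← Subgroup.coe_mul, mul_assoc (a ^ (1 : ℤ)),
      Q.ref_rot, ← mul_assoc, ← mul_assoc, ← _root_.zpow_add, ← _root_.zpow_add,
      show (1 : ℤ) + (1 + (2 * h - 1) * 1) = 2 * h + 1 by ring])
  have hai : ih * a1 = a1 * ih := Subtype.ext (by
    rw [Subgroup.coe_mul, Subgroup.coe_mul, ha1, hih, ← rotG_add, ← rotG_add, add_comm])
  obtain ⟨A, hA⟩ : ∃ A, A = φ a1 := ⟨_, rfl⟩
  obtain ⟨B, hB⟩ : ∃ B, B = φ b0 := ⟨_, rfl⟩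
  obtain ⟨G, hG⟩ : ∃ G, G = φ g := ⟨_, rfl⟩
  have hJ : φ j1 = A * B := by rw [hA, hB, ← map_mul, hjab]
  have hJJ : A * B * (A * B) = 1 := by rw [← hJ, ← map_mul, hjj, hφt]
  have hBB : B * B = 1 := by rw [hB, ← map_mul, hb00, map_one]
  have hAJA : A * (A * B) * A = A * B := by rw [← hJ, hA, ← map_mul, ← map_mul, haja, map_mul, hφt, one_mul]
  have hGJ : G * (A * B) * G⁻¹ = φ ih := by rw [← hJ, hG, ← hgj, map_mul, map_mul, map_inv]
  have hA2 : A * A ≠ 1 := fun e => by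
    rw [hA, ← map_mul] at e
    rcases hkerS _ e (by rw [Subgroup.coe_mul, ha1]; exact mul_mem (rotG_mem a 1) (rotG_mem a 1)) with e1 | e1
    · rw [Subgroup.coe_mul, ha1, ← rotG_add, ← rotG_zero a, Q.rotG_eq_iff] at e1
      have := Int.le_of_dvd (by norm_num) (dvd_neg.1 (by simpa using e1) : 4 * h ∣ 2)
      omega
    · rw [Subgroup.coe_mul, ha1, ← rotG_add, htz, Q.rotG_eq_iff] at e1
      norm_num at e1
      have := Int.le_of_dvd (by omega) e1
      omega
  obtain ⟨j, hj⟩ : ∃ j : ℕ, A ^ 2 ^ j = 1 := by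
    obtain ⟨j, hj⟩ := S.2 ⟨rotG a 1, rotG_mem a 1⟩
    refine ⟨j, ?_⟩
    rw [hA, ← map_pow, show a1 ^ 2 ^ j = 1 from Subtype.ext (by
      rw [SubgroupClass.coe_pow, ha1]; exact congrArg Subtype.val hj), map_one]
  have hA3 : A ^ 3 ≠ 1 := fun e => hA2 (by
    have h1 : orderOf A = 1 := Nat.eq_one_of_dvd_coprimes (Nat.Coprime.pow_right j (by norm_num : Nat.Coprime 3 2))
      (orderOf_dvd_of_pow_eq_one e) (orderOf_dvd_of_pow_eq_one hj)
    rw [orderOf_eq_one_iff.1 h1, mul_one])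
  have hA5 : A ^ 5 ≠ 1 := fun e => hA2 (by
    have h1 : orderOf A = 1 := Nat.eq_one_of_dvd_coprimes (Nat.Coprime.pow_right j (by norm_num : Nat.Coprime 5 2))
      (orderOf_dvd_of_pow_eq_one e) (orderOf_dvd_of_pow_eq_one hj)
    rw [orderOf_eq_one_iff.1 h1, mul_one])
  have mem : ∀ x : C, φ x ∈ φ.range := fun x => ⟨x, rfl⟩
  have hAm : A ∈ φ.range := hA ▸ mem a1
  rcases coprime_cases p hcop with hcomm | ⟨⟨e⟩⟩ | ⟨⟨e⟩⟩ | ⟨⟨e⟩⟩
  · -- abelian apart from involutions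
    obtain ⟨A', hA'⟩ : ∃ A', A' = G⁻¹ * A * G := ⟨_, rfl⟩
    have hA'm : A' ∈ φ.range := hA' ▸ mul_mem (mul_mem (inv_mem (hG ▸ mem g)) hAm) (hG ▸ mem g)
    have hA'2 : A' ^ 2 ≠ 1 := fun e => hA2 (by
      calc A * A = G * A' ^ 2 * G⁻¹ := by rw [hA', pow_two]; group
        _ = 1 := by rw [e, mul_one, mul_inv_cancel])
    have hAA' := hcomm A hAm A' hA'm (by rwa [pow_two]) hA'2
    have hJA' : A * B * A' = A' * (A * B) := by
      have h1 : φ ih * A = A * φ ih := by rw [hA, ← map_mul, ← map_mul, hai]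
      rw [← hGJ] at h1
      rw [hA']
      calc A * B * (G⁻¹ * A * G) = G⁻¹ * (G * (A * B) * G⁻¹ * A) * G := by group
        _ = G⁻¹ * (A * (G * (A * B) * G⁻¹)) * G := by rw [h1]
        _ = G⁻¹ * A * G * (A * B) := by group
    have hne : (A' * (A * B)) ^ 2 ≠ 1 := fun e => hA'2 (by
      rw [(show Commute A' (A * B) from hJA'.symm).mul_pow, pow_two (A * B), hJJ, mul_one] at e
      exact e)
    have hc2 := hcomm A hAm (A' * (A * B)) (mul_mem hA'm (hJ ▸ mem j1)) (by rwa [pow_two]) hne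
    have hAJ : A * (A * B) = A * B * A := by
      refine mul_left_cancel (a := A') ?_
      rw [← mul_assoc, ← hAA', mul_assoc, hc2, mul_assoc]
    rw [hAJ] at hAJA
    exact hA2 (mul_left_cancel (a := A * B) (by rw [← mul_assoc, mul_one, hAJA]))
  · rcases alt_four_orders (e ⟨A, hAm⟩) with h1 | h1 <;> rw [← map_pow, map_eq_one_iff _ e.injective] at h1
    · exact hA2 (by rw [← pow_two]; exact congrArg Subtype.val h1)
    · exact hA3 (congrArg Subtype.val h1)
  rotate_left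
  · rcases alt_five_orders (e ⟨A, hAm⟩) with h1 | h1 | h1 <;> rw [← map_pow, map_eq_one_iff _ e.injective] at h1
    · exact hA2 (by rw [← pow_two]; exact congrArg Subtype.val h1)
    · exact hA3 (congrArg Subtype.val h1)
    · exact hA5 (congrArg Subtype.val h1)
  have hA4 : A * A * (A * A) = 1 := by
    rcases perm_four_orders (e ⟨A, hAm⟩) with h1 | h1 | h1 <;> rw [← map_pow, map_eq_one_iff _ e.injective] at h1
    · exact absurd (by rw [← pow_two]; exact congrArg Subtype.val h1) hA2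
    · exact absurd (congrArg Subtype.val h1) hA3
    · rw [← pow_two, ← pow_two, ← pow_mul]; exact congrArg Subtype.val h1
  have hh2 : h = 2 := by
    rw [hA, ← map_mul, ← map_mul] at hA4
    have hmem : ((a1 * a1 * (a1 * a1) : C) : P) = rotG a 4 := by
      simp only [Subgroup.coe_mul, ha1, ← rotG_add]; norm_num
    rcases hkerS _ hA4 (hmem ▸ rotG_mem a 4) with e1 | e1 <;> rw [hmem] at e1
    · rw [← rotG_zero a, Q.rotG_eq_iff] at e1
      have := Int.le_of_dvd (by norm_num) (dvd_neg.1 (by simpa using e1) : 4 * h ∣ 4)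
      omega
    · rw [htz, Q.rotG_eq_iff] at e1
      obtain ⟨q, hq⟩ := e1
      obtain ⟨u, hu⟩ := Q.even
      rcases lt_trichotomy q 0 with hq0 | hq0 | hq0
      · nlinarith
      · rw [hq0, mul_zero] at hq; omega
      · nlinarith
  subst hh2
  obtain ⟨i2, hi2⟩ : ∃ x : C, x = a1 * a1 := ⟨_, rfl⟩
  have hi2r : (i2 : P) = rotG a 2 := by rw [hi2, Subgroup.coe_mul, ha1, ← rotG_add]; norm_num
  have hihi : ih = i2 := Subtype.ext (by rw [hih, hi2r])
  have hI : φ ih = A * A := by rw [hihi, hi2, map_mul, hA]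
  have hBAB : B * A * B = A⁻¹ := eq_inv_of_mul_eq_one_right (by rw [← mul_assoc, ← mul_assoc, mul_assoc (A * B)]; exact hJJ)
  have hBm : B ∈ φ.range := hB ▸ mem b0
  have hGm : G ∈ φ.range := hG ▸ mem g
  obtain ⟨f1, f2, f3, f4⟩ := perm_four_facts (e ⟨A, hAm⟩)
    (by rw [← map_mul, ← map_mul]; exact (map_eq_one_iff _ e.injective).2 (Subtype.ext hA4))
    (by rw [← map_mul, Ne, map_eq_one_iff _ e.injective]; exact fun h1 => hA2 (congrArg Subtype.val h1))
    (e ⟨B, hBm⟩) (by rw [← map_mul]; exact (map_eq_one_iff _ e.injective).2 (Subtype.ext hBB))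
    (by rw [← map_mul, ← map_mul, ← map_inv]; exact congrArg e (Subtype.ext hBAB))
    (e ⟨G, hGm⟩) (by rw [← map_mul, ← map_mul, ← map_mul, ← map_inv, ← map_mul]; exact congrArg e (Subtype.ext (hGJ.trans hI)))
  -- the fourth involution
  obtain ⟨v0, hv0⟩ : ∃ x : C, x = g * b0 * g⁻¹ := ⟨_, rfl⟩
  obtain ⟨w0, hw0⟩ : ∃ x : C, x = b0 * i2 := ⟨_, rfl⟩
  have hV : φ v0 = G * B * G⁻¹ := by rw [hv0, map_mul, map_mul, map_inv, hG, hB]
  have hW : φ w0 = B * (A * A) := by rw [hw0, map_mul, hB, hi2, map_mul, hA]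
  have hv00 : v0 * v0 = 1 := by
    calc v0 * v0 = g * (b0 * b0) * g⁻¹ := by rw [hv0]; group
      _ = 1 := by rw [hb00, mul_one, mul_inv_cancel]
  have hii : i2 * i2 = ⟨t, htC⟩ := Subtype.ext (by
    rw [Subgroup.coe_mul, hi2r, ← rotG_add]; exact htz.symm)
  have hbib : b0 * i2 * b0 = i2⁻¹ := Subtype.ext (by
    rw [Subgroup.coe_mul, Subgroup.coe_mul, Subgroup.coe_inv, hb0, hi2r, ← rotG_neg, ← Q.refG_conj_quarter 0]
    congr 1
    exact (inv_eq_of_mul_eq_one_right (by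
      rw [← pow_two, ← Q.orderOf_refG_even (dvd_zero 2), pow_orderOf_eq_one])).symm)
  have htC' : ∀ x : C, (⟨t, htC⟩ : C) * x = x * ⟨t, htC⟩ := fun x => Subtype.ext ((hCm x).1 x.2)
  have hw00 : w0 * w0 = 1 := by
    calc w0 * w0 = (b0 * i2 * b0) * i2 := by rw [hw0]; group
      _ = 1 := by rw [hbib, inv_mul_cancel]
  have hwb : w0 * b0 * w0 = b0 * ⟨t, htC⟩ := by
    calc w0 * b0 * w0 = b0 * i2 * (b0 * b0) * i2 := by rw [hw0]; group
      _ = b0 * ⟨t, htC⟩ := by rw [hb00, mul_one, mul_assoc, hii]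
  have hib : i2 * b0 ≠ b0 * i2 := fun e => by
    have h1 : i2 = i2⁻¹ := by rw [← hbib, ← e, mul_assoc, hb00, mul_one]
    have h2 : i2 * i2 = 1 := by nth_rewrite 1 [h1]; rw [inv_mul_cancel]
    rw [hii] at h2
    exact ht1 (congrArg Subtype.val h2)
  have hbt : (b0 : P) ≠ t := fun e => Q.rotG_ne_refG (2 * 2) 0 (by rw [← htz, ← hb0, e])
  have hcube : ∀ u x : C, u * u = 1 → x * x = 1 → φ ((u * x) ^ 3) = 1 → (u * x) ^ 3 = 1 ∨ (u * x) ^ 3 = ⟨t, htC⟩ := by
    intro u x hu hx hy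
    obtain ⟨y, hyd⟩ : ∃ y, y = (u * x) ^ 3 := ⟨_, rfl⟩
    rw [← hyd] at hy ⊢
    have hinv : u * y * u = y⁻¹ := by
      have hu' : u⁻¹ = u := inv_eq_of_mul_eq_one_right hu
      have hx' : x⁻¹ = x := inv_eq_of_mul_eq_one_right hx
      calc u * y * u = u * (u * x) ^ 3 * u⁻¹ := by rw [hyd, hu']
        _ = (u * (u * x) * u⁻¹) ^ 3 := by rw [conj_pow]
        _ = (x * u) ^ 3 := by rw [← mul_assoc u, hu, one_mul, hu']
        _ = ((u * x)⁻¹) ^ 3 := by rw [_root_.mul_inv_rev, hu', hx']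
        _ = y⁻¹ := by rw [inv_pow, hyd]
    obtain ⟨z, hz, e⟩ := hker y hy
    have hzt : z * t = t * z := hzcomm z hz t
    have hcu : u * y = y * u := Subtype.ext (by
      rw [Subgroup.coe_mul, Subgroup.coe_mul]
      rcases e with e | e <;> rw [e]
      · exact (hzcomm z hz _).symm
      · rw [← mul_assoc, ← hzcomm z hz, mul_assoc, ← (hCm u).1 u.2, ← mul_assoc])
    rw [hcu, mul_assoc, hu, mul_one] at hinv
    have hyy : (y : P) * (y : P) = 1 := by
      rw [← Subgroup.coe_mul]; nth_rewrite 1 [hinv]; rw [inv_mul_cancel]; rfl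
    have hzz : z * z = 1 := by
      rcases e with e | e <;> rw [e] at hyy
      · exact hyy
      · calc z * z = z * z * (t * t) := by rw [htt, mul_one]
          _ = z * (z * t) * t := by group
          _ = z * (t * z) * t := by rw [hzt]
          _ = z * t * (z * t) := by group
          _ = 1 := hyy
    rw [scal_odd hP hz (k := 1) (by rw [pow_one, pow_two, hzz]), one_mul] at e
    exact e.imp (fun e => Subtype.ext e) (fun e => Subtype.ext e)
  have hφ3 : ∀ x : C, φ x * φ x * φ x = 1 → φ (x ^ 3) = 1 := fun x hx => by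
    rw [map_pow, pow_succ, pow_two, hx]
  have hf2 : φ (b0 * v0) * φ (b0 * v0) * φ (b0 * v0) = 1 := by
    rw [map_mul, ← hB, hV]
    simp only [← map_inv, ← map_mul, map_eq_one_iff _ e.injective] at f2
    exact congrArg Subtype.val f2
  have hf3 : φ (w0 * v0) * φ (w0 * v0) * φ (w0 * v0) = 1 := by
    rw [map_mul, hW, hV]
    simp only [← map_inv, ← map_mul, map_eq_one_iff _ e.injective] at f3
    exact congrArg Subtype.val f3
  have hvb : φ v0 ≠ B := fun e1 => f1 (by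
    rw [← map_inv, ← map_mul, ← map_mul]
    exact congrArg e (Subtype.ext (hV.symm.trans e1)))
  obtain ⟨v, hvv, hbv, hvφ⟩ : ∃ v : C, v * v = 1 ∧ (b0 * v) ^ 3 = 1 ∧ φ v = φ v0 := by
    rcases hcube b0 v0 hb00 hv00 (hφ3 _ hf2) with e1 | e1
    · exact ⟨v0, hv00, e1, rfl⟩
    · refine ⟨v0 * ⟨t, htC⟩, ?_, ?_, by rw [map_mul, hφt, mul_one]⟩
      · rw [mul_assoc, htC' (v0 * ⟨t, htC⟩), mul_assoc v0, show (⟨t, htC⟩ : C) * ⟨t, htC⟩ = 1 from Subtype.ext htt,
          mul_one, hv00]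
      · rw [← mul_assoc, (show Commute (b0 * v0) ⟨t, htC⟩ from (htC' _).symm).mul_pow, e1, ← pow_succ']
        exact Subtype.ext (by
          show t ^ (3 + 1) = (1 : P)
          rw [show 3 + 1 = 2 * 2 from rfl, pow_mul, pow_two t, htt, one_pow])
  obtain ⟨w, hww, hwv, hwb'⟩ : ∃ w : C, w * w = 1 ∧ (w * v) ^ 3 = 1 ∧ w * b0 * w = b0 * ⟨t, htC⟩ := by
    have hf3' : φ (w0 * v) * φ (w0 * v) * φ (w0 * v) = 1 := by rw [map_mul, hvφ, ← map_mul]; exact hf3
    rcases hcube w0 v hw00 hvv (hφ3 _ hf3') with e1 | e1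
    · exact ⟨w0, hw00, e1, hwb⟩
    · refine ⟨w0 * ⟨t, htC⟩, ?_, ?_, ?_⟩
      · rw [mul_assoc, htC' (w0 * ⟨t, htC⟩), mul_assoc w0, show (⟨t, htC⟩ : C) * ⟨t, htC⟩ = 1 from Subtype.ext htt,
          mul_one, hw00]
      · rw [mul_assoc, htC' v, ← mul_assoc, (show Commute (w0 * v) ⟨t, htC⟩ from (htC' _).symm).mul_pow, e1, ← pow_succ']
        exact Subtype.ext (by
          show t ^ (3 + 1) = (1 : P)
          rw [show 3 + 1 = 2 * 2 from rfl, pow_mul, pow_two t, htt, one_pow])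
      · calc w0 * ⟨t, htC⟩ * b0 * (w0 * ⟨t, htC⟩) = w0 * (⟨t, htC⟩ * b0) * w0 * ⟨t, htC⟩ := by group
          _ = w0 * b0 * (⟨t, htC⟩ * w0) * ⟨t, htC⟩ := by rw [htC' b0]; group
          _ = w0 * b0 * w0 * (⟨t, htC⟩ * ⟨t, htC⟩) := by rw [htC' w0]; group
          _ = b0 * ⟨t, htC⟩ := by
            rw [show (⟨t, htC⟩ : C) * ⟨t, htC⟩ = 1 from Subtype.ext htt, mul_one, hwb]
  -- the element exchanging the two involutions
  obtain ⟨k0, hk0b, hk0t⟩ : ∃ k0 : P, k0 * (b0 : P) * k0⁻¹ = t ∧ k0 * t * k0⁻¹ = b0 := by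
    obtain ⟨c0, hc0⟩ := isConj_iff.1 (Q.fusedTwo_iff.1 hfusedTwo)
    rw [← hb0, ← htz] at hc0
    obtain ⟨u, hu⟩ : ∃ u, u = c0 * t * c0⁻¹ := ⟨_, rfl⟩
    have hcb : t * (b0 : P) = b0 * t := (hCm _).1 b0.2
    have huC : u ∈ C := (hCm u).2 (by
      calc t * u = c0 * (b0 : P) * c0⁻¹ * (c0 * t * c0⁻¹) := by rw [hc0, hu]
        _ = c0 * ((b0 : P) * t) * c0⁻¹ := by group
        _ = c0 * (t * (b0 : P)) * c0⁻¹ := by rw [hcb]
        _ = c0 * t * c0⁻¹ * (c0 * (b0 : P) * c0⁻¹) := by group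
        _ = u * t := by rw [hc0, hu])
    have huu : u * u = 1 := by
      rw [hu, show c0 * t * c0⁻¹ * (c0 * t * c0⁻¹) = c0 * (t * t) * c0⁻¹ by group, htt, mul_one, mul_inv_cancel]
    have hu1 : u ≠ 1 := fun e1 => ht1 (by
      rw [hu, mul_inv_eq_one] at e1
      exact mul_eq_left.1 e1)
    have hut : u ≠ t := fun e1 => hbt (by
      have h1 : c0 * t * c0⁻¹ = c0 * (b0 : P) * c0⁻¹ := by rw [← hu, e1, hc0]
      exact (mul_left_cancel (mul_right_cancel h1)).symm)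
    have hp2' : IsPGroup 2 (Subgroup.zpowers (⟨u, huC⟩ : C)) :=
      IsPGroup.of_card (n := 1) (by
        rw [Nat.card_zpowers, pow_one]
        exact orderOf_eq_prime (Subtype.ext (by show u ^ 2 = 1; rw [pow_two, huu]))
          (fun e1 => hu1 (congrArg Subtype.val e1)))
    obtain ⟨T, hT⟩ := hp2'.exists_le_sylow
    obtain ⟨c1, hc1⟩ := MulAction.exists_smul_eq C T (S.subtype (fun x hx => hSC x hx))
    have hin : c1 * ⟨u, huC⟩ * c1⁻¹ ∈ (S.subtype (fun x hx => hSC x hx) : Subgroup C) := by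
      rw [← hc1, Sylow.coe_subgroup_smul]
      exact ⟨⟨u, huC⟩, hT (Subgroup.mem_zpowers _), rfl⟩
    rw [Sylow.coe_subtype, Subgroup.mem_subgroupOf] at hin
    simp only [Subgroup.coe_mul, Subgroup.coe_inv] at hin
    rcases Q.invol_casesG hin (invol_conj (orderOf_eq_prime (by rw [pow_two, huu]) hu1) (c1 : P)) with e1 | ⟨i, hi, e1⟩
    · exfalso
      rw [← htz, mul_inv_eq_iff_eq_mul, (hCm _).1 c1.2] at e1
      exact hut (mul_left_cancel e1)
    · obtain ⟨l, hl⟩ := Q.exists_shift (i := i) (j := 0) (by rwa [zero_sub, dvd_neg])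
      have e2 : rotG a l * refG a b i * (rotG a l)⁻¹ = (b0 : P) := by
        rw [hb0, Q.rotG_conj_refG, Q.refG_eq_iff]; exact hl
      have hct : ∀ x : P, t * x = x * t → x * t * x⁻¹ = t := fun x hx => by rw [← hx, mul_inv_cancel_right]
      refine ⟨rotG a l * c1 * c0, ?_, ?_⟩
      · calc rotG a l * (c1 : P) * c0 * (b0 : P) * (rotG a l * (c1 : P) * c0)⁻¹
            = rotG a l * ((c1 : P) * (c0 * (b0 : P) * c0⁻¹) * (c1 : P)⁻¹) * (rotG a l)⁻¹ := by group
          _ = t := by rw [hc0, hct _ ((hCm _).1 c1.2), hct _ (htc _ (rotG_mem a l))]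
      · calc rotG a l * (c1 : P) * c0 * t * (rotG a l * (c1 : P) * c0)⁻¹
            = rotG a l * ((c1 : P) * (c0 * t * c0⁻¹) * (c1 : P)⁻¹) * (rotG a l)⁻¹ := by group
          _ = (b0 : P) := by rw [← hu, e1, e2]
  obtain ⟨k, hkk, hkt⟩ : ∃ k : P, k * k = 1 ∧ k * t * k = b0 := by
    have hxt : t * (k0 * k0) = k0 * k0 * t := by
      symm
      rw [← mul_inv_eq_iff_eq_mul, show k0 * k0 * t * (k0 * k0)⁻¹ = k0 * (k0 * t * k0⁻¹) * k0⁻¹ by group, hk0t, hk0b]
    have hxb : k0 * k0 * (b0 : P) = b0 * (k0 * k0) := by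
      rw [← mul_inv_eq_iff_eq_mul, show k0 * k0 * (b0 : P) * (k0 * k0)⁻¹ = k0 * (k0 * (b0 : P) * k0⁻¹) * k0⁻¹ by group,
        hk0b, hk0t]
    obtain ⟨x, hx⟩ : ∃ x : C, (x : P) = k0 * k0 := ⟨⟨_, (hCm _).2 hxt⟩, rfl⟩
    have hxbC : x * b0 = b0 * x := Subtype.ext (by rw [Subgroup.coe_mul, Subgroup.coe_mul, hx, hxb])
    have hnot : ∀ c : C, φ x = φ c → c * b0 = b0 * c := by
      intro c hc
      obtain ⟨z, hz, e1⟩ := hker (c⁻¹ * x) (by rw [map_mul, map_inv, hc, inv_mul_cancel])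
      have hy : (c⁻¹ * x) * b0 = b0 * (c⁻¹ * x) := Subtype.ext (by
        show ((c⁻¹ * x : C) : P) * (b0 : P) = (b0 : P) * ((c⁻¹ * x : C) : P)
        rcases e1 with e1 | e1 <;> rw [e1]
        · exact hzcomm z hz _
        · rw [mul_assoc, (hCm _).1 b0.2, ← mul_assoc, hzcomm z hz, mul_assoc])
      calc c * b0 = x * ((c⁻¹ * x)⁻¹ * b0) := by group
        _ = x * (b0 * (c⁻¹ * x)⁻¹) := by rw [(show Commute (c⁻¹ * x) b0 from hy).inv_left.eq]
        _ = b0 * c := by rw [← mul_assoc, hxbC]; group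
    have hx4 := f4 (e ⟨φ x, mem x⟩) (by
      rw [← map_mul, ← map_mul]
      refine congrArg e (Subtype.ext ?_)
      show φ x * B = B * φ x
      rw [hB, ← map_mul, ← map_mul, hxbC])
    simp only [← map_mul, map_eq_one_iff _ e.injective, e.injective.eq_iff] at hx4
    have hd : ∃ d : C, (d = 1 ∨ d = b0) ∧ φ x = φ d := by
      rcases hx4 with h1 | h1 | h1 | h1 <;> replace h1 := congrArg Subtype.val h1
      · exact ⟨1, Or.inl rfl, by rw [map_one]; exact h1⟩
      · exact ⟨b0, Or.inr rfl, by rw [← hB]; exact h1⟩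
      · exact absurd (hnot i2 (by rw [hi2, map_mul, ← hA]; exact h1)) hib
      · exfalso
        have h2 := hnot w0 (by rw [hW]; exact h1)
        refine hib (mul_left_cancel (a := b0) ?_)
        rw [hw0] at h2
        rw [← mul_assoc, h2]
    obtain ⟨d, hd1, hd2⟩ := hd
    obtain ⟨z, hz, e1⟩ := hker (d⁻¹ * x) (by rw [map_mul, map_inv, hd2, inv_mul_cancel])
    simp only [Subgroup.coe_mul, Subgroup.coe_inv, inv_mul_eq_iff_eq_mul, hx] at e1
    have hfix : ∀ y : P, k0 * k0 = y * z → k0 * y * k0⁻¹ = y := fun y hy => by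
      calc k0 * y * k0⁻¹ = k0 * (k0 * k0 * z⁻¹) * k0⁻¹ := by rw [hy, mul_inv_cancel_right]
        _ = k0 * k0 * (k0 * (z⁻¹ * k0⁻¹)) := by group
        _ = k0 * k0 * (k0 * (k0⁻¹ * z⁻¹)) := by rw [hzcomm _ (inv_mem hz) k0⁻¹]
        _ = y := by rw [mul_inv_cancel_left, hy, mul_inv_cancel_right]
    have hcb : t * (b0 : P) = b0 * t := (hCm _).1 b0.2
    have hd3 : k0 * k0 = z ∨ k0 * k0 = (b0 : P) * t * z := by
      rcases hd1 with h0 | h0 <;> rcases e1 with e1 | e1 <;> rw [h0] at e1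
      · exact Or.inl (by rw [e1]; simp)
      · exfalso
        have h1 := hfix t (by rw [e1, hzcomm z hz t]; simp)
        exact hbt (hk0t.symm.trans h1)
      · exfalso
        have h1 := hfix (b0 : P) e1
        exact hbt (h1.symm.trans hk0b)
      · exact Or.inr (by rw [e1, hzcomm z hz t, mul_assoc])
    obtain ⟨k1, hk1⟩ : ∃ k1, k1 = k0 * z := ⟨_, rfl⟩
    have hz3 : z * z * z = 1 := by rw [← pow_two, ← pow_succ, Socle.scal_cube hP hz]
    have hk1sq : k1 * k1 = k0 * k0 * (z * z) := by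
      rw [hk1, mul_assoc, ← mul_assoc z k0, hzcomm z hz k0]; group
    have hconj : ∀ y : P, k1 * y * k1⁻¹ = k0 * y * k0⁻¹ := fun y => by
      calc k1 * y * k1⁻¹ = k0 * (z * y) * z⁻¹ * k0⁻¹ := by rw [hk1]; group
        _ = k0 * y * k0⁻¹ := by rw [hzcomm z hz y]; group
    rcases hd3 with h1 | h1
    · have hk11 : k1 * k1 = 1 := by rw [hk1sq, h1, ← mul_assoc, hz3]
      refine ⟨k1, hk11, ?_⟩
      nth_rewrite 2 [show k1 = k1⁻¹ from (inv_eq_of_mul_eq_one_right hk11).symm]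
      rw [hconj, hk0t]
    · have hk11 : k1 * k1 = (b0 : P) * t := by
        rw [hk1sq, h1, mul_assoc, show z * (z * z) = 1 by rw [← mul_assoc]; exact hz3, mul_one]
      have h3 : k1⁻¹ * t * k1 = b0 := by
        rw [show t = k1 * (b0 : P) * k1⁻¹ by rw [hconj, hk0b]]; group
      have hk22 : k1 * t * (k1 * t) = 1 := by
        calc k1 * t * (k1 * t) = k1 * k1 * (k1⁻¹ * t * k1) * t := by group
          _ = (b0 : P) * (t * b0) * t := by rw [hk11, h3]; group
          _ = ((b0 : P) * b0) * (t * t) := by rw [hcb]; group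
          _ = 1 := by rw [htt, mul_one, ← Subgroup.coe_mul, hb00]; rfl
      refine ⟨k1 * t, hk22, ?_⟩
      calc k1 * t * t * (k1 * t) = k1 * (k1 * t) := by rw [mul_assoc k1 t t, htt, mul_one]
        _ = (b0 : P) := by rw [← mul_assoc, hk11, mul_assoc, htt, mul_one]
  -- the four involutions
  have R : Gens t (w : P) k (v : P) := by
    refine ⟨htt, ?_, hkk, ?_, (hCm _).1 w.2, (hCm _).1 v.2, ?_, ?_, ?_, ?_⟩
    · rw [← Subgroup.coe_mul, hww]; rfl
    · rw [← Subgroup.coe_mul, hvv]; rfl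
    · rw [hkt]; exact (hCm _).1 b0.2
    · rw [hkt]; exact congrArg Subtype.val hwb'
    · rw [hkt, ← Subgroup.coe_mul, ← SubgroupClass.coe_pow, hbv]; rfl
    · rw [← Subgroup.coe_mul, ← SubgroupClass.coe_pow, hwv]; rfl
  have hvne : φ v ≠ B := hvφ ▸ hvb
  have hv1 : φ v ≠ 1 := fun e1 => by
    rw [hvφ, hV] at e1
    have hB1 : B = 1 := by
      calc B = G⁻¹ * (G * B * G⁻¹) * G := by group
        _ = 1 := by rw [e1, mul_one, inv_mul_cancel]
    exact f1 (by rw [← map_inv, ← map_mul, ← map_mul]; exact congrArg e (Subtype.ext (show G * B * G⁻¹ = B by rw [e1, hB1])))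
  have N : Nondeg t k (v : P) := by
    refine ⟨ht1, ?_, fun e1 => hv1 ?_, fun e1 => hv1 ?_, fun e1 => hvne ?_⟩
    · rw [hkt]; exact hbt
    · rw [show v = 1 from Subtype.ext e1, map_one]
    · rw [show v = ⟨t, htC⟩ from Subtype.ext e1, hφt]
    · rw [hB, show v = b0 from Subtype.ext (e1.trans hkt)]
  refine not_gens hp2 hP.le_sl hno t.2 (w : P).2 k.2 (v : P).2 (R.map P.subtype)
    ⟨fun e1 => N.t1 (Subtype.ext e1), fun e1 => N.bt (Subtype.ext e1), fun e1 => N.v1 (Subtype.ext e1),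
      fun e1 => N.vt (Subtype.ext e1), fun e1 => N.vb (Subtype.ext e1)⟩

end CfsgLib.Perm.Trans.ThreeRes
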