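import Cfsg.Agent.Lib.Perm.Trans.ThreeRes.NoTv.Burnside
import Cfsg.Agent.Lib.Perm.Trans.ThreeRes.NoTv.SemiDihedral

/-!
# Without transvections the Sylow two-subgroups are dihedral
-/

set_option autoImplicit false
set_option linter.all false

namespace CfsgLib.Perm.Trans.ThreeRes

open scoped Matrix
open Matrix Cfsg.Geo CfsgLib.Perm.Trans CfsgLib.Perm.Trans.ThreeDim

variable {F : Type*} [Field F] [Finite F] {P : Subgroup (GL (Fin 3) F)}

/-- **Part D.** A group without transvections has dihedral Sylow two-subgroups modulo scalars. -/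
theorem hasDihedralTwo_of_noTv (hP : Quasi P) (hno : NoTv P) : HasDihedralTwo P := by
  obtain ⟨p, hchar⟩ := CharP.exists F
  haveI := hchar
  haveI : Fact p.Prime := ⟨CharP.char_is_prime F p⟩
  haveI : Fact (Nat.Prime 2) := ⟨Nat.prime_two⟩
  have hp2 : p ≠ 2 := odd_char hP hno
  obtain ⟨Q, S, t, htS, ht, hc⟩ := sylow_frame hP hp2
  have hP' : Quasi (pconj Q P) := hP.pconj Q
  have hno' : NoTv (pconj Q P) := noTv_pconj hno
  rcases sylow_shape hP' hno' hp2 S htS ht hc with h | ⟨n, ⟨e⟩⟩ | ⟨hab, h4, hex, huniq⟩ | ⟨n, hn, ⟨e⟩⟩ | h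
  · exact (not_cyclic hP' S h).elim
  · exact (not_quaternion hP' S n e).elim
  · exact (not_abelian hP' S hab h4 hex huniq).elim
  · let T : Sylow 2 P := S.mapSurjective (f := (pconjEquiv Q P).symm.toMonoidHom) (pconjEquiv Q P).symm.surjective
    have f : ((S : Subgroup (pconj Q P))) ≃* (T : Subgroup P) :=
      (S : Subgroup (pconj Q P)).equivMapOfInjective _ (pconjEquiv Q P).symm.injective
    exact hasDihedralTwo_of_sylow hP T hn (f.symm.trans e)
  · exact (not_semidihedral hP' hno' hp2 S htS ht hc h).elim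

end CfsgLib.Perm.Trans.ThreeRes
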