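import Cfsg.Agent.Lib.Perm.Trans.ThreeRes.Defs
import Cfsg.Agent.Lib.Perm.Trans.ThreeRes.Pgl
import Mathlib.LinearAlgebra.CrossProduct

/-!
# Pairs of homologies in a group without transvections
-/

set_option autoImplicit false
set_option linter.all false

namespace CfsgLib.Perm.Trans.ThreeRes

open scoped Matrix
open Matrix Cfsg.Geo CfsgLib.Perm.Trans CfsgLib.Perm.Trans.ThreeDim CfsgLib.Perm.Asch

variable {F : Type*} [Field F]

local notation "M3" => Matrix (Fin 3) (Fin 3) F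
local notation "M2" => Matrix (Fin 2) (Fin 2) F

/-- the matrix of a homology -/
def hm (a α : Fin 3 → F) (ζ : F) : M3 := 1 + (ζ - 1) • vecMulVec a α

/-- a multiple of the homology lies in the group -/
def IsHom (P : Subgroup (GL (Fin 3) F)) (a α : Fin 3 → F) (ζ : F) : Prop :=
  α ⬝ᵥ a = 1 ∧ ∃ g ∈ P, ∃ s : F, (g : M3) = s • hm a α ζ

theorem hm_mulVec (a α : Fin 3 → F) (ζ : F) (v : Fin 3 → F) : hm a α ζ *ᵥ v = v + ((ζ - 1) * (α ⬝ᵥ v)) • a := by
  rw [hm, add_mulVec, one_mulVec, smul_mulVec, vecMulVec_mulVec, op_smul_eq_smul, smul_smul]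

theorem hm_one (a α : Fin 3 → F) : hm a α 1 = 1 := by rw [hm, sub_self, zero_smul, add_zero]

theorem hm_mul_hm {a α : Fin 3 → F} (h : α ⬝ᵥ a = 1) (ζ η : F) : hm a α ζ * hm a α η = hm a α (ζ * η) := by
  refine Matrix.ext_iff_mulVec.2 fun v => ?_
  rw [← mulVec_mulVec, hm_mulVec, hm_mulVec, hm_mulVec, dotProduct_add, dotProduct_smul, h, smul_eq_mul]
  module

theorem hm_pow {a α : Fin 3 → F} (h : α ⬝ᵥ a = 1) (ζ : F) (i : ℕ) : hm a α ζ ^ i = hm a α (ζ ^ i) := by
  induction i with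
  | zero => rw [pow_zero, pow_zero, hm_one]
  | succ i ih => rw [pow_succ, ih, hm_mul_hm h, pow_succ]

theorem IsHom.conj {P : Subgroup (GL (Fin 3) F)} {a α : Fin 3 → F} {ζ : F} (h : IsHom P a α ζ)
    {k : GL (Fin 3) F} (hk : k ∈ P) : IsHom P ((k : M3) *ᵥ a) (α ᵥ* ((k⁻¹ : GL (Fin 3) F) : M3)) ζ := by
  obtain ⟨g, hg, s, hs⟩ := h.2
  refine ⟨by rw [← dotProduct_mulVec, gl_inv_mulVec, h.1], k * g * k⁻¹, P.mul_mem (P.mul_mem hk hg) (P.inv_mem hk), s, ?_⟩
  rw [Units.val_mul, Units.val_mul, hs]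
  refine Matrix.ext_iff_mulVec.2 fun v => ?_
  simp only [Matrix.mul_smul, Matrix.smul_mul, smul_mulVec, ← mulVec_mulVec, hm_mulVec, mulVec_add, mulVec_smul,
    gl_mulVec_inv, ← dotProduct_mulVec]

/-- transport along a change of basis -/
def pconj (Q : GL (Fin 3) F) (P : Subgroup (GL (Fin 3) F)) : Subgroup (GL (Fin 3) F) :=
  P.map (MulAut.conj Q⁻¹).toMonoidHom

theorem mem_pconj {Q g : GL (Fin 3) F} {P : Subgroup (GL (Fin 3) F)} (hg : g ∈ P) : Q⁻¹ * g * Q ∈ pconj Q P :=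
  ⟨g, hg, by simp⟩

theorem noTv_pconj {Q : GL (Fin 3) F} {P : Subgroup (GL (Fin 3) F)} (h : NoTv P) : NoTv (pconj Q P) := by
  intro x ψ hx
  obtain ⟨h0, g, hg, e⟩ := hx
  have h1 : Has P ((Q : M3) *ᵥ x) (ψ ᵥ* ((Q⁻¹ : GL (Fin 3) F) : M3)) := by
    have h0' : (ψ ᵥ* ((Q⁻¹ : GL (Fin 3) F) : M3)) ⬝ᵥ ((Q : M3) *ᵥ x) = 0 := by
      rw [← dotProduct_mulVec, gl_inv_mulVec, h0]
    refine ⟨h0', ?_⟩
    suffices tv _ _ h0' = g by rwa [this]
    refine gl_ext_vec fun v => ?_
    rw [show g = Q * tv x ψ h0 * Q⁻¹ by rw [← e]; simp [mul_assoc]]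
    rw [gl_mul_mulVec, gl_mul_mulVec, tv_mulVec, tv_mulVec, mulVec_add, gl_mulVec_inv, mulVec_smul, ← dotProduct_mulVec]
  rcases h x ψ |> (fun _ => h _ _ h1) with e1 | e1
  · exact Or.inl (gl_mulVec_eq_zero.1 e1)
  · refine Or.inr ?_
    have := congrArg (fun w => w ᵥ* (Q : M3)) e1
    simpa [vecMul_vecMul] using this

/-- an element differing from one by a matrix of rank one is trivial -/
theorem eq_one_of_rank_one {P : Subgroup (GL (Fin 3) F)} (hP : P ≤ specialLinear (Fin 3) F) (hno : NoTv P)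
    {g : GL (Fin 3) F} (hg : g ∈ P) {u χ : Fin 3 → F} (e : (g : M3) = 1 + vecMulVec u χ) : g = 1 := by
  have h0 : χ ⬝ᵥ u = 0 := by
    have := det_one_of_mem hP hg
    rw [e, vecMulVec_eq Unit, det_one_add_replicateCol_mul_replicateRow] at this
    simpa using this
  have hh : Has P u χ := ⟨h0, by
    suffices tv u χ h0 = g by rwa [this]
    refine gl_ext_vec fun v => ?_
    rw [tv_mulVec, e, add_mulVec, one_mulVec, vecMulVec_mulVec, op_smul_eq_smul]⟩
  refine Units.ext ?_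
  rw [e]
  rcases hno u χ hh with rfl | rfl <;> simp

/-- block diagonal matrices -/
def blkSub (F : Type*) [Field F] : Subgroup (GL (Fin 3) F) :=
  subspaceStabilizer (Submodule.span F {(Pi.single 2 1 : Fin 3 → F)}) ⊓
    subspaceStabilizer (Submodule.span F {(Pi.single 0 1 : Fin 3 → F), Pi.single 1 1})

/-- the upper left block -/
def blk (A : M3) : M2 := !![A 0 0, A 0 1; A 1 0, A 1 1]

/-- block diagonal -/
def IsBlk (A : M3) : Prop := A 0 2 = 0 ∧ A 1 2 = 0 ∧ A 2 0 = 0 ∧ A 2 1 = 0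

theorem blk_mul {A B : M3} (hA : IsBlk A) (hB : IsBlk B) : blk (A * B) = blk A * blk B ∧ IsBlk (A * B) := by
  obtain ⟨a1, a2, a3, a4⟩ := hA
  obtain ⟨b1, b2, b3, b4⟩ := hB
  refine ⟨?_, ?_, ?_, ?_, ?_⟩
  · ext i j; fin_cases i <;> fin_cases j <;> simp [blk, Matrix.mul_apply, Fin.sum_univ_three, Fin.sum_univ_two, a1, a2]
  all_goals simp [Matrix.mul_apply, Fin.sum_univ_three, a1, a2, a3, a4, b1, b2, b3, b4]

/-- the monoid of block diagonal invertible matrices -/
def blkMon (F : Type*) [Field F] : Submonoid (GL (Fin 3) F) where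
  carrier := {g | IsBlk (g : Matrix (Fin 3) (Fin 3) F)}
  mul_mem' {a b} ha hb := by
    show IsBlk _
    rw [Units.val_mul]
    exact (blk_mul ha hb).2
  one_mem' := by simp [IsBlk]

/-- the block as a homomorphism on a finite group of block diagonal matrices -/
theorem isBlk_of_mem_closure [Finite F] {S : Set (GL (Fin 3) F)} (hS : ∀ g ∈ S, IsBlk (g : M3)) {g : GL (Fin 3) F}
    (hg : g ∈ Subgroup.closure S) : IsBlk (g : M3) := by
  have h1 : g ∈ Submonoid.closure S := by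
    rw [← Subgroup.closure_toSubmonoid_of_finite]; exact hg
  exact (Submonoid.closure_le.2 (show S ⊆ blkMon F from hS) h1 : _)

theorem cube_entry {M : M2} {c : F} (h : M ^ 3 = c • (1 : M2)) (h01 : M 0 1 ≠ 0) : M.trace * M.trace = M.det := by
  have e := congrFun (congrFun h 0) 1
  simp [pow_succ, Matrix.mul_apply, Fin.sum_univ_two] at e
  rw [Matrix.trace_fin_two, Matrix.det_fin_two]
  refine mul_left_cancel₀ h01 ?_
  linear_combination e

variable [Finite F] {p : ℕ} [hp : Fact p.Prime] [CharP F p] {P : Subgroup (GL (Fin 3) F)}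

/-- a block diagonal element of order the characteristic is trivial -/
theorem blk_p_trivial (hp2 : p ≠ 2) (hP : P ≤ specialLinear (Fin 3) F) (hno : NoTv P) {x : GL (Fin 3) F} (hx : x ∈ P)
    (hb : IsBlk (x : M3)) (hxp : x ^ p = 1) : x = 1 := by
  classical
  haveI : CharP M3 p := matrix_charP p
  obtain ⟨b1, b2, b3, b4⟩ := hb
  have hN : ((x : M3) - 1) ^ p = 0 := by
    rw [sub_pow_char_of_commute p (Commute.one_right _), one_pow, ← Units.val_pow_eq_pow_val, hxp, Units.val_one, sub_self]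
  obtain ⟨N, hNd⟩ : ∃ N, N = (x : M3) - 1 := ⟨_, rfl⟩
  rw [← hNd] at hN
  have n1 : N 0 2 = 0 := by simp [hNd, b1]
  have n2 : N 1 2 = 0 := by simp [hNd, b2]
  have n3 : N 2 0 = 0 := by simp [hNd, b3]
  have n4 : N 2 1 = 0 := by simp [hNd, b4]
  have hpw : ∀ k, blk (N ^ k) = blk N ^ k ∧ IsBlk (N ^ k) ∧ (N ^ k) 2 2 = N 2 2 ^ k := fun k => by
    induction k with
    | zero =>
      refine ⟨?_, ⟨by simp, by simp, by simp, by simp⟩, by simp⟩
      ext i j; fin_cases i <;> fin_cases j <;> simp [blk]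
    | succ k ih =>
      obtain ⟨e1, e2, e3⟩ := ih
      rw [pow_succ, pow_succ, pow_succ]
      obtain ⟨f1, f2⟩ := blk_mul e2 ⟨n1, n2, n3, n4⟩
      exact ⟨by rw [f1, e1], f2, by simp [Matrix.mul_apply, Fin.sum_univ_three, n1, n2, e3]⟩
  obtain ⟨q1, -, q3⟩ := hpw p
  rw [hN] at q1 q3
  have n22 : N 2 2 = 0 := (pow_eq_zero_iff hp.out.ne_zero).1 q3.symm
  have hnil : IsNilpotent (blk N) := ⟨p, q1.symm.trans (by ext i j; fin_cases i <;> fin_cases j <;> simp [blk])⟩
  have htr : N 0 0 + N 1 1 = 0 := by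
    have := (Matrix.isNilpotent_trace_of_isNilpotent hnil).eq_zero
    simpa [Matrix.trace_fin_two, blk] using this
  have hdet : N 0 0 * N 1 1 - N 0 1 * N 1 0 = 0 := by
    obtain ⟨k, hk⟩ := hnil
    have h1 := congrArg Matrix.det hk
    rw [Matrix.det_pow, Matrix.det_zero] at h1
    simpa [Matrix.det_fin_two, blk] using eq_zero_of_pow_eq_zero (h1.trans (by simp))
  have hx1 : (x : M3) = 1 + N := by rw [hNd]; abel
  by_cases h01 : N 0 1 = 0
  · have h00 : N 0 0 = 0 := by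
      have : N 0 0 * N 0 0 = 0 := by linear_combination (N 0 0) * htr - hdet + (-N 1 0) * h01
      exact mul_self_eq_zero.1 this
    refine eq_one_of_rank_one hP hno hx (u := ![0, 1, 0]) (χ := ![N 1 0, 0, 0]) (hx1.trans ?_)
    congr 1
    ext i j
    fin_cases i <;> fin_cases j <;>
      simp [vecMulVec_apply, h01, h00, n1, n2, n3, n4, n22]
    linear_combination htr - h00
  · refine eq_one_of_rank_one hP hno hx (u := ![N 0 1, N 1 1, 0]) (χ := ![N 0 0 / N 0 1, 1, 0]) (hx1.trans ?_)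
    congr 1
    ext i j
    fin_cases i <;> fin_cases j <;> simp [vecMulVec_apply, n1, n2, n3, n4, n22]
    · field_simp
    · field_simp
      linear_combination -hdet

/-- two homologies commute or are in general position with a strongly restricted product -/
theorem hom_pair (hp2 : p ≠ 2) (hP : P ≤ specialLinear (Fin 3) F) (hno : NoTv P) {a α b β : Fin 3 → F} {ζ : F}
    (ha : IsHom P a α ζ) (hb : IsHom P b β ζ) (hζ : ζ ^ 2 ≠ 1) :
    hm a α ζ * hm b β ζ = hm b β ζ * hm a α ζ ∨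
      (LinearIndependent F ![a, b] ∧ (α ⬝ᵥ b) ≠ 0 ∧ (β ⬝ᵥ a) ≠ 0 ∧ orderOf ζ < 6 ∧
        (ζ * ζ = -1 → 2 * ((α ⬝ᵥ b) * (β ⬝ᵥ a)) = 1)) := by
  classical
  obtain ⟨hαa, g, hg, s, hgs⟩ := ha
  obtain ⟨hβb, h, hh, t, hht⟩ := hb
  by_cases hcomm : hm a α ζ * hm b β ζ = hm b β ζ * hm a α ζ
  · exact Or.inl hcomm
  right
  obtain ⟨x, hx⟩ : ∃ x, x = α ⬝ᵥ b := ⟨_, rfl⟩
  obtain ⟨y, hy⟩ : ∃ y, y = β ⬝ᵥ a := ⟨_, rfl⟩
  rw [← hx, ← hy]
  have hζ1 : ζ - 1 ≠ 0 := fun e => hζ (by rw [sub_eq_zero.1 e, one_pow])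
  have hne : g * h ≠ h * g := fun e => hcomm (by
    have := congrArg (fun k : GL (Fin 3) F => (k : M3)) e
    simp only [Units.val_mul, hgs, hht, Matrix.smul_mul, Matrix.mul_smul, smul_smul, mul_comm t s] at this
    refine smul_right_injective M3 (fun e0 => ?_) this
    rcases mul_eq_zero.1 e0 with e1 | e1
    · exact g.ne_zero (by rw [hgs, e1, zero_smul])
    · exact h.ne_zero (by rw [hht, e1, zero_smul]))
  -- a commutator of rank one is trivial
  have hcase : ∀ u χ : Fin 3 → F,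
      (∀ v, hm a α ζ *ᵥ (hm b β ζ *ᵥ v) - hm b β ζ *ᵥ (hm a α ζ *ᵥ v) = (χ ⬝ᵥ v) • u) → False := by
    intro u χ hu
    refine hne ?_
    obtain ⟨k, hk⟩ : ∃ k, k = g * h * g⁻¹ * h⁻¹ := ⟨_, rfl⟩
    have hkP : k ∈ P := hk ▸ P.mul_mem (P.mul_mem (P.mul_mem hg hh) (P.inv_mem hg)) (P.inv_mem hh)
    have hk1 : k = 1 := by
      refine eq_one_of_rank_one hP hno hkP (u := u)
        (χ := ((s * t) • χ) ᵥ* ((g⁻¹ * h⁻¹ : GL (Fin 3) F) : M3)) (Matrix.ext_iff_mulVec.2 fun v => ?_)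
      obtain ⟨w, hw⟩ : ∃ w, w = ((g⁻¹ * h⁻¹ : GL (Fin 3) F) : M3) *ᵥ v := ⟨_, rfl⟩
      have hv : v = (h : M3) *ᵥ ((g : M3) *ᵥ w) := by
        rw [hw, gl_mul_mulVec, gl_mulVec_inv, gl_mulVec_inv]
      rw [add_mulVec, one_mulVec, vecMulVec_mulVec, op_smul_eq_smul, ← dotProduct_mulVec, ← hw, smul_dotProduct,
        smul_eq_mul, hk, show g * h * g⁻¹ * h⁻¹ = g * h * (g⁻¹ * h⁻¹) by group, gl_mul_mulVec, ← hw, gl_mul_mulVec]
      conv_rhs => rw [hv]
      simp only [hgs, hht, smul_mulVec, mulVec_smul, smul_smul]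
      rw [mul_comm t s, ← smul_smul (s * t), ← hu, smul_sub]
      abel
    rw [hk] at hk1
    rwa [mul_inv_eq_one, mul_inv_eq_iff_eq_mul] at hk1
  have hdiff : ∀ v, hm a α ζ *ᵥ (hm b β ζ *ᵥ v) - hm b β ζ *ᵥ (hm a α ζ *ᵥ v) =
      ((ζ - 1) * (ζ - 1)) • ((x * (β ⬝ᵥ v)) • a - (y * (α ⬝ᵥ v)) • b) := by
    intro v
    simp only [hm_mulVec, dotProduct_add, dotProduct_smul, smul_eq_mul, hx, hy]
    module
  have hx0 : x ≠ 0 := fun e => hcase b ((-((ζ - 1) * (ζ - 1)) * y) • α) fun v => by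
    rw [hdiff, e, zero_mul, zero_smul, zero_sub, smul_dotProduct, smul_eq_mul]; module
  have hy0 : y ≠ 0 := fun e => hcase a ((((ζ - 1) * (ζ - 1)) * x) • β) fun v => by
    rw [hdiff, e, zero_mul, zero_smul, sub_zero, smul_dotProduct, smul_eq_mul]; module
  have hli : LinearIndependent F ![a, b] := by
    refine (LinearIndependent.pair_iff' (fun e => hy0 (by rw [hy, e, dotProduct_zero]))).2 fun c hc => ?_
    refine hcase a (((ζ - 1) * (ζ - 1)) • (x • β - (y * c) • α)) fun v => ?_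
    rw [hdiff, ← hc]
    simp only [smul_dotProduct, sub_dotProduct, smul_eq_mul]
    module
  refine ⟨hli, hx0, hy0, ?_⟩
  by_cases hc1 : x * y = 1
  · -- the axes meet on the line of the centres
    exfalso
    obtain ⟨e, he⟩ : ∃ e, e = b - x • a := ⟨_, rfl⟩
    have hαe : α ⬝ᵥ e = 0 := by rw [he, dotProduct_sub, dotProduct_smul, hαa, ← hx, smul_eq_mul, mul_one, sub_self]
    have hβe : β ⬝ᵥ e = 0 := by rw [he, dotProduct_sub, dotProduct_smul, hβb, ← hy, smul_eq_mul, hc1, sub_self]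
    have hli2 : LinearIndependent F ![e, a] := by
      rw [LinearIndependent.pair_iff] at hli ⊢
      intro u v huv
      rw [he, smul_sub, smul_smul] at huv
      obtain ⟨h1, h2⟩ := hli (v - u * x) u (by rw [sub_smul, ← huv]; abel)
      exact ⟨h2, by rw [h2, zero_mul, sub_zero] at h1; exact h1⟩
    obtain ⟨w0, hw0⟩ : ∃ w0 : Fin 3 → F, w0 ∉ Submodule.span F (Set.range ![e, a]) := by
      by_contra hcon
      push Not at hcon
      have h3 := finrank_span_eq_card hli2
      rw [Submodule.eq_top_iff'.2 hcon, finrank_top, Module.finrank_fin_fun, Fintype.card_fin] at h3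
      norm_num at h3
    obtain ⟨w, hw⟩ : ∃ w, w = w0 - (α ⬝ᵥ w0) • a := ⟨_, rfl⟩
    have hαw : α ⬝ᵥ w = 0 := by rw [hw, dotProduct_sub, dotProduct_smul, hαa, smul_eq_mul, mul_one, sub_self]
    have hli3 : LinearIndependent F ![e, a, w] := by
      rw [Fintype.linearIndependent_iff]
      intro f hf
      simp only [Fin.sum_univ_three, Matrix.cons_val_zero, Matrix.cons_val_one, Matrix.cons_val] at hf
      have hf2 : f 2 = 0 := by
        by_contra hne2
        refine hw0 (Submodule.mem_span_range_iff_exists_fun F |>.2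
          ⟨![-(f 0 / f 2), -(f 1 / f 2) + α ⬝ᵥ w0], ?_⟩)
        simp only [Fin.sum_univ_two, Matrix.cons_val_zero, Matrix.cons_val_one, Matrix.cons_val]
        refine smul_right_injective (Fin 3 → F) hne2 ?_
        simp only [smul_add, smul_smul, mul_add, mul_neg, mul_div_cancel₀ _ hne2]
        rw [hw] at hf
        linear_combination (norm := module) -hf
      rw [hf2, zero_smul, add_zero] at hf
      obtain ⟨h1, h2⟩ := LinearIndependent.pair_iff.1 hli2 _ _ hf
      intro i; fin_cases i <;> assumption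
    obtain ⟨Q, hQ⟩ := (Matrix.linearIndependent_cols_iff_isUnit (A := Matrix.of fun i j => ![e, a, w] j i)).1 hli3
    have hQv : ∀ v : Fin 3 → F, (Q : M3) *ᵥ v = v 0 • e + v 1 • a + v 2 • w := fun v => by
      funext i; rw [hQ]; simp [Matrix.mulVec, dotProduct, Fin.sum_univ_three, mul_comm]
    obtain ⟨g', hg'⟩ : ∃ g', g' = Q⁻¹ * g * Q := ⟨_, rfl⟩
    obtain ⟨h', hh'⟩ : ∃ h', h' = Q⁻¹ * h * Q := ⟨_, rfl⟩
    obtain ⟨r, hr⟩ : ∃ r, r = β ⬝ᵥ w := ⟨_, rfl⟩
    obtain ⟨G, hG⟩ : ∃ G : M3, G = !![1, 0, 0; 0, ζ, 0; 0, 0, 1] := ⟨_, rfl⟩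
    obtain ⟨H, hH⟩ : ∃ H : M3, H = !![1, (ζ - 1) * y, (ζ - 1) * r; 0, ζ, (ζ - 1) * (r * x); 0, 0, 1] := ⟨_, rfl⟩
    have hQinj : ∀ A B : M3, (∀ v, (Q : M3) *ᵥ (A *ᵥ v) = (Q : M3) *ᵥ (B *ᵥ v)) → A = B := fun A B hAB =>
      Matrix.ext_iff_mulVec.2 fun v => by
        have := congrArg (fun z => ((Q⁻¹ : GL (Fin 3) F) : M3) *ᵥ z) (hAB v)
        simpa [gl_inv_mulVec] using this
    have eg : ((g' : GL (Fin 3) F) : M3) = s • G := by
      refine hQinj _ _ fun v => ?_
      rw [hg', gl_mul_mulVec, gl_mul_mulVec, gl_mulVec_inv, hQv v, hgs, smul_mulVec, smul_mulVec, mulVec_smul, hQv,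
        hG]
      simp only [hm_mulVec, dotProduct_add, dotProduct_smul, hαe, hαa, hαw, smul_eq_mul]
      simp [Matrix.mulVec, dotProduct, Fin.sum_univ_three]
      module
    have eh : ((h' : GL (Fin 3) F) : M3) = t • H := by
      refine hQinj _ _ fun v => ?_
      rw [hh', gl_mul_mulVec, gl_mul_mulVec, gl_mulVec_inv, hQv v, hht, smul_mulVec, smul_mulVec, mulVec_smul, hQv,
        hH]
      simp only [hm_mulVec, dotProduct_add, dotProduct_smul, hβe, ← hy, ← hr, smul_eq_mul]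
      rw [show b = e + x • a by rw [he]; abel]
      simp [Matrix.mulVec, dotProduct, Fin.sum_univ_three]
      match_scalars <;> first | ring1 | linear_combination (s * (ζ - 1) * v 1) * hc1 | linear_combination (t * (ζ - 1) * v 1) * hc1
    have hP' : pconj Q P ≤ specialLinear (Fin 3) F := by
      rintro _ ⟨k, hk, rfl⟩
      show Matrix.GeneralLinearGroup.det _ = 1
      have h1 : Matrix.GeneralLinearGroup.det k = 1 := hP hk
      simp [h1]
    have hno' := noTv_pconj (Q := Q) hno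
    have hg'P : g' ∈ pconj Q P := hg' ▸ mem_pconj hg
    have hh'P : h' ∈ pconj Q P := hh' ▸ mem_pconj hh
    obtain ⟨k, hk⟩ : ∃ k, k = g' * h' * g'⁻¹ * h'⁻¹ := ⟨_, rfl⟩
    have hkP : k ∈ pconj Q P := hk ▸ (pconj Q P).mul_mem ((pconj Q P).mul_mem ((pconj Q P).mul_mem hg'P hh'P)
      ((pconj Q P).inv_mem hg'P)) ((pconj Q P).inv_mem hh'P)
    have hs0 : s ≠ 0 := fun e0 => g.ne_zero (by rw [hgs, e0, zero_smul])
    have ht0 : t ≠ 0 := fun e0 => h.ne_zero (by rw [hht, e0, zero_smul])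
    have hζ0 : ζ ≠ 0 := fun e0 => g'.isUnit.ne_zero (by
      have hd := (Matrix.isUnit_iff_isUnit_det _).1 g'.isUnit
      rw [eg, Matrix.det_smul, hG, Matrix.det_fin_three] at hd
      simp [e0] at hd)
    obtain ⟨A, hA⟩ : ∃ A, A = (ζ - 1) * y * (1 - ζ) / (ζ * ζ) := ⟨_, rfl⟩
    obtain ⟨D, hD⟩ : ∃ D, D = (ζ - 1) * (r * x) * (ζ - 1) := ⟨_, rfl⟩
    obtain ⟨B, hB⟩ : ∃ B, B = (ζ - 1) * y * ((ζ - 1) * (r * x)) * (ζ - 1) / (ζ * ζ) := ⟨_, rfl⟩
    have ek : ((k : GL (Fin 3) F) : M3) = !![1, A, B; 0, 1, D; 0, 0, 1] := by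
      have e1 : k * (h' * g') = g' * h' := by rw [hk]; group
      have e2 := congrArg (fun z : GL (Fin 3) F => (z : M3)) e1
      simp only [Units.val_mul, eg, eh, Matrix.smul_mul, Matrix.mul_smul, smul_smul, mul_comm t s] at e2
      have e3 := smul_right_injective M3 (mul_ne_zero hs0 ht0) e2
      have hu : IsUnit (H * G) := by
        have : IsUnit ((t * s) • (H * G)) := by
          rw [show (t * s) • (H * G) = ((h' * g' : GL (Fin 3) F) : M3) by
            rw [Units.val_mul, eg, eh, Matrix.smul_mul, Matrix.mul_smul, smul_smul]]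
          exact Units.isUnit _
        rw [Matrix.isUnit_iff_isUnit_det, Matrix.det_smul] at this
        rw [Matrix.isUnit_iff_isUnit_det]
        exact isUnit_of_mul_isUnit_right this
      refine hu.mul_left_injective ?_
      show ((k : GL (Fin 3) F) : M3) * (H * G) = _ * (H * G)
      rw [e3, hG, hH, hA, hB, hD]
      ext i j
      fin_cases i <;> fin_cases j <;> simp [Matrix.mul_apply, Fin.sum_univ_three] <;>
        first | ring1 | (field_simp; done) | (field_simp; ring1)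
    have hA0 : A ≠ 0 := by
      rw [hA]
      exact div_ne_zero (mul_ne_zero (mul_ne_zero hζ1 hy0) (sub_ne_zero.2 fun e0 => hζ (by rw [← e0, one_pow])))
        (mul_ne_zero hζ0 hζ0)
    by_cases hD0 : D = 0
    · have := eq_one_of_rank_one hP' hno' hkP (u := ![1, 0, 0]) (χ := ![0, A, B]) (ek.trans (by
        ext i j; fin_cases i <;> fin_cases j <;> simp [vecMulVec_apply, hD0]))
      have := congrFun (congrFun (ek.symm.trans (congrArg Units.val this)) 0) 1
      simp [hA0] at this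
    obtain ⟨k2, hk2⟩ : ∃ k2, k2 = g' * k * g'⁻¹ := ⟨_, rfl⟩
    have hk2P : k2 ∈ pconj Q P := hk2 ▸ (pconj Q P).mul_mem ((pconj Q P).mul_mem hg'P hkP) ((pconj Q P).inv_mem hg'P)
    have ek2 : ((k2 : GL (Fin 3) F) : M3) = !![1, A / ζ, B; 0, 1, ζ * D; 0, 0, 1] := by
      have e1 : k2 * g' = g' * k := by rw [hk2]; group
      have e2 := congrArg (fun z : GL (Fin 3) F => (z : M3)) e1
      simp only [Units.val_mul, eg, Matrix.smul_mul, Matrix.mul_smul] at e2
      have e3 := smul_right_injective M3 hs0 e2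
      have hu : IsUnit G := by
        have := g'.isUnit
        rw [eg, Matrix.isUnit_iff_isUnit_det, Matrix.det_smul] at this
        rw [Matrix.isUnit_iff_isUnit_det]
        exact isUnit_of_mul_isUnit_right this
      refine hu.mul_left_injective ?_
      show ((k2 : GL (Fin 3) F) : M3) * G = _ * G
      rw [e3, ek, hG]
      ext i j
      fin_cases i <;> fin_cases j <;> simp [Matrix.mul_apply, Fin.sum_univ_three] <;>
        first | ring1 | (field_simp; done) | (field_simp; ring1)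
    obtain ⟨δ, hδ⟩ : ∃ δ, δ = A * (ζ * D) - A / ζ * D := ⟨_, rfl⟩
    obtain ⟨z, hz⟩ : ∃ z, z = k * k2 * (k2 * k)⁻¹ := ⟨_, rfl⟩
    have hzP : z ∈ pconj Q P := hz ▸ (pconj Q P).mul_mem ((pconj Q P).mul_mem hkP hk2P)
      ((pconj Q P).inv_mem ((pconj Q P).mul_mem hk2P hkP))
    have hz1 : (z : M3) = 1 + vecMulVec ![1, 0, 0] ![0, 0, δ] := by
      have e1 : z * (k2 * k) = k * k2 := by rw [hz]; group
      refine (k2 * k).isUnit.mul_left_injective ?_
      show (z : M3) * ((k2 * k : GL (Fin 3) F) : M3) = _ * ((k2 * k : GL (Fin 3) F) : M3)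
      rw [← Units.val_mul, e1, Units.val_mul, Units.val_mul, ek, ek2, hδ]
      ext i j
      fin_cases i <;> fin_cases j <;> simp [Matrix.mul_apply, Fin.sum_univ_three, vecMulVec_apply] <;> ring
    have := congrFun (congrFun (hz1.symm.trans (congrArg Units.val (eq_one_of_rank_one hP' hno' hzP hz1))) 0) 2
    simp [vecMulVec_apply, hδ] at this
    have h2 : A * D * (ζ ^ 2 - 1) = 0 := by
      field_simp at this
      linear_combination this
    simp [hA0, hD0, sub_eq_zero, hζ] at h2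
  · -- general position
    obtain ⟨e, he⟩ : ∃ e, e = crossProduct α β := ⟨_, rfl⟩
    have hαe : α ⬝ᵥ e = 0 := he ▸ dot_self_cross α β
    have hβe : β ⬝ᵥ e = 0 := he ▸ dot_cross_self α β
    have hαβ : LinearIndependent F ![α, β] := by
      rw [LinearIndependent.pair_iff]
      intro u v huv
      have h1 := congrArg (fun z => z ⬝ᵥ a) huv
      have h2 := congrArg (fun z => z ⬝ᵥ b) huv
      simp only [add_dotProduct, smul_dotProduct, hαa, hβb, ← hx, ← hy, smul_eq_mul, zero_dotProduct, mul_one] at h1 h2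
      have hv : v = 0 := by
        have : (1 - x * y) * v = 0 := by linear_combination h2 - x * h1
        exact (mul_eq_zero.1 this).resolve_left (sub_ne_zero.2 (Ne.symm hc1))
      exact ⟨by rw [hv, zero_mul, add_zero] at h1; exact h1, hv⟩
    have he0 : e ≠ 0 := by rw [he]; exact crossProduct_ne_zero_iff_linearIndependent.2 hαβ
    have hli3 : LinearIndependent F ![a, b, e] := by
      rw [Fintype.linearIndependent_iff]
      intro f hf
      simp only [Fin.sum_univ_three, Matrix.cons_val_zero, Matrix.cons_val_one, Matrix.cons_val] at hf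
      have h1 := congrArg (fun z => α ⬝ᵥ z) hf
      have h2 := congrArg (fun z => β ⬝ᵥ z) hf
      simp only [dotProduct_add, dotProduct_smul, hαa, hβb, hαe, hβe, ← hx, ← hy, smul_eq_mul, dotProduct_zero] at h1 h2
      have f1 : f 1 = 0 := by
        have : (1 - x * y) * f 1 = 0 := by linear_combination h2 - y * h1
        exact (mul_eq_zero.1 this).resolve_left (sub_ne_zero.2 (Ne.symm hc1))
      have f0 : f 0 = 0 := by rw [f1] at h1; simpa using h1
      rw [f0, f1, zero_smul, zero_smul, zero_add, zero_add] at hf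
      intro i; fin_cases i
      · exact f0
      · exact f1
      · exact (smul_eq_zero.1 hf).resolve_right he0
    obtain ⟨Q, hQ⟩ := (Matrix.linearIndependent_cols_iff_isUnit (A := Matrix.of fun i j => ![a, b, e] j i)).1 hli3
    have hQv : ∀ v : Fin 3 → F, (Q : M3) *ᵥ v = v 0 • a + v 1 • b + v 2 • e := fun v => by
      funext i; rw [hQ]; simp [Matrix.mulVec, dotProduct, Fin.sum_univ_three, mul_comm]
    obtain ⟨g', hg'⟩ : ∃ g', g' = Q⁻¹ * g * Q := ⟨_, rfl⟩
    obtain ⟨h', hh'⟩ : ∃ h', h' = Q⁻¹ * h * Q := ⟨_, rfl⟩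
    obtain ⟨G, hG⟩ : ∃ G : M3, G = !![ζ, (ζ - 1) * x, 0; 0, 1, 0; 0, 0, 1] := ⟨_, rfl⟩
    obtain ⟨H, hH⟩ : ∃ H : M3, H = !![1, 0, 0; (ζ - 1) * y, ζ, 0; 0, 0, 1] := ⟨_, rfl⟩
    have hQinj : ∀ A B : M3, (∀ v, (Q : M3) *ᵥ (A *ᵥ v) = (Q : M3) *ᵥ (B *ᵥ v)) → A = B := fun A B hAB =>
      Matrix.ext_iff_mulVec.2 fun v => by
        have := congrArg (fun z => ((Q⁻¹ : GL (Fin 3) F) : M3) *ᵥ z) (hAB v)
        simpa [gl_inv_mulVec] using this
    have eg : ((g' : GL (Fin 3) F) : M3) = s • G := by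
      refine hQinj _ _ fun v => ?_
      rw [hg', gl_mul_mulVec, gl_mul_mulVec, gl_mulVec_inv, hQv v, hgs, smul_mulVec, smul_mulVec, mulVec_smul, hQv,
        hG]
      simp only [hm_mulVec, dotProduct_add, dotProduct_smul, hαe, hαa, ← hx, smul_eq_mul]
      simp [Matrix.mulVec, dotProduct, Fin.sum_univ_three]
      module
    have eh : ((h' : GL (Fin 3) F) : M3) = t • H := by
      refine hQinj _ _ fun v => ?_
      rw [hh', gl_mul_mulVec, gl_mul_mulVec, gl_mulVec_inv, hQv v, hht, smul_mulVec, smul_mulVec, mulVec_smul, hQv,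
        hH]
      simp only [hm_mulVec, dotProduct_add, dotProduct_smul, hβe, hβb, ← hy, smul_eq_mul]
      simp [Matrix.mulVec, dotProduct, Fin.sum_univ_three]
      module
    have hs0 : s ≠ 0 := fun e0 => g.ne_zero (by rw [hgs, e0, zero_smul])
    have ht0 : t ≠ 0 := fun e0 => h.ne_zero (by rw [hht, e0, zero_smul])
    have hP' : pconj Q P ≤ specialLinear (Fin 3) F := by
      rintro _ ⟨k, hk, rfl⟩
      show Matrix.GeneralLinearGroup.det _ = 1
      have h1 : Matrix.GeneralLinearGroup.det k = 1 := hP hk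
      simp [h1]
    have hno' := noTv_pconj (Q := Q) hno
    obtain ⟨K, hK⟩ : ∃ K, K = Subgroup.closure ({g', h'} : Set (GL (Fin 3) F)) := ⟨_, rfl⟩
    have hgb : IsBlk (g' : M3) := by rw [eg, hG]; simp [IsBlk]
    have hhb : IsBlk (h' : M3) := by rw [eh, hH]; simp [IsBlk]
    have hgK : g' ∈ K := hK ▸ Subgroup.subset_closure (Set.mem_insert _ _)
    have hhK : h' ∈ K := hK ▸ Subgroup.subset_closure (Set.mem_insert_of_mem _ rfl)
    have hKb : ∀ k ∈ K, IsBlk (k : M3) := fun k hk => isBlk_of_mem_closure (by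
      rintro _ (rfl | rfl)
      · exact hgb
      · exact hhb) (hK ▸ hk)
    have hKP : K ≤ pconj Q P := by
      rw [hK, Subgroup.closure_le]
      rintro _ (rfl | rfl)
      · exact hg' ▸ mem_pconj hg
      · exact hh' ▸ mem_pconj hh
    have hcop : ¬ p ∣ Nat.card K := fun hd => by
      obtain ⟨k, hk⟩ := exists_prime_orderOf_dvd_card' p hd
      have hkp : (k : GL (Fin 3) F) ^ p = 1 := by
        rw [← SubgroupClass.coe_pow, ← hk, pow_orderOf_eq_one]; rfl
      have := blk_p_trivial hp2 hP' hno' (hKP k.2) (hKb _ k.2) hkp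
      rw [show k = 1 from Subtype.ext this, orderOf_one] at hk
      exact hp.out.ne_one hk.symm
    -- the projective image of the block
    have hone : blk (1 : M3) = 1 := by ext i j; fin_cases i <;> fin_cases j <;> simp [blk]
    let φ : K →* GL (Fin 2) F :=
      { toFun := fun k => ⟨blk ((k : GL (Fin 3) F) : M3), blk (((k⁻¹ : K) : GL (Fin 3) F) : M3),
          by rw [← (blk_mul (hKb _ k.2) (hKb _ (k⁻¹).2)).1, ← Units.val_mul, ← Subgroup.coe_mul, mul_inv_cancel]; exact hone,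
          by rw [← (blk_mul (hKb _ (k⁻¹).2) (hKb _ k.2)).1, ← Units.val_mul, ← Subgroup.coe_mul, inv_mul_cancel]; exact hone⟩
        map_one' := Units.ext hone
        map_mul' := fun k l => Units.ext (blk_mul (hKb _ k.2) (hKb _ l.2)).1 }
    have hφ : ∀ k : K, ((φ k : GL (Fin 2) F) : M2) = blk ((k : GL (Fin 3) F) : M3) := fun k => rfl
    obtain ⟨ψ, hψ⟩ : ∃ ψ : K →* Dickson.G2 F, ψ = ProjGenLinGroup.mk.comp φ := ⟨_, rfl⟩
    have hscal : ∀ k l : K, ψ k = ψ l ↔ ∃ c : F, c ≠ 0 ∧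
        c • blk ((k : GL (Fin 3) F) : M3) = blk ((l : GL (Fin 3) F) : M3) := by
      intro k l
      rw [hψ, MonoidHom.comp_apply, MonoidHom.comp_apply, ProjGenLinGroup.mk_eq_mk_iff]
      constructor
      · rintro ⟨c, hc⟩
        refine ⟨c, c.ne_zero, ?_⟩
        rw [← hφ, ← hφ, ← hc, Units.val_mul]
        ext i j
        simp [Matrix.scalar, mul_comm]
      · rintro ⟨c, hc0, hc⟩
        refine ⟨Units.mk0 c hc0, Units.ext ?_⟩
        rw [Units.val_mul, hφ, hφ, ← hc]
        ext i j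
        simp [Matrix.scalar, mul_comm]
    have hpow : ∀ i : ℕ, ∀ (A : M3), (hA : A = !![ζ, (ζ - 1) * x, 0; 0, 1, 0; 0, 0, 1]) →
        A ^ i = !![ζ ^ i, (ζ ^ i - 1) * x, 0; 0, 1, 0; 0, 0, 1] := by
      intro i A hA
      induction i with
      | zero => ext a b; fin_cases a <;> fin_cases b <;> simp
      | succ i ih =>
        rw [pow_succ, ih, hA]
        ext a b; fin_cases a <;> fin_cases b <;> simp [Matrix.mul_apply, Fin.sum_univ_three, pow_succ] <;> ring
    have hpowH : ∀ i : ℕ, ∀ (A : M3), (hA : A = !![1, 0, 0; (ζ - 1) * y, ζ, 0; 0, 0, 1]) →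
        A ^ i = !![1, 0, 0; (ζ ^ i - 1) * y, ζ ^ i, 0; 0, 0, 1] := by
      intro i A hA
      induction i with
      | zero => ext a b; fin_cases a <;> fin_cases b <;> simp
      | succ i ih =>
        rw [pow_succ, ih, hA]
        ext a b; fin_cases a <;> fin_cases b <;> simp [Matrix.mul_apply, Fin.sum_univ_three, pow_succ] <;> ring
    have hog : orderOf (ψ ⟨g', hgK⟩) = orderOf ζ := by
      refine orderOf_eq_orderOf_iff.2 fun i => ?_
      rw [← map_pow, ← map_one ψ, hscal, SubgroupClass.coe_pow, Units.val_pow_eq_pow_val, eg, smul_pow,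
        hpow i G hG, OneMemClass.coe_one, Units.val_one, hone]
      constructor
      · rintro ⟨c, -, hc⟩
        have h00 := congrFun (congrFun hc 0) 0
        have h11 := congrFun (congrFun hc 1) 1
        simp [blk] at h00 h11
        linear_combination h00 - (ζ ^ i) * h11
      · intro hi
        refine ⟨(s ^ i)⁻¹, inv_ne_zero (pow_ne_zero _ hs0), ?_⟩
        ext a b; fin_cases a <;> fin_cases b <;> simp [blk, hi, hs0]
    have hoh : orderOf (ψ ⟨h', hhK⟩) = orderOf ζ := by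
      refine orderOf_eq_orderOf_iff.2 fun i => ?_
      rw [← map_pow, ← map_one ψ, hscal, SubgroupClass.coe_pow, Units.val_pow_eq_pow_val, eh, smul_pow,
        hpowH i H hH, OneMemClass.coe_one, Units.val_one, hone]
      constructor
      · rintro ⟨c, -, hc⟩
        have h00 := congrFun (congrFun hc 0) 0
        have h11 := congrFun (congrFun hc 1) 1
        simp [blk] at h00 h11
        linear_combination h11 - (ζ ^ i) * h00
      · intro hi
        refine ⟨(t ^ i)⁻¹, inv_ne_zero (pow_ne_zero _ ht0), ?_⟩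
        ext a b; fin_cases a <;> fin_cases b <;> simp [blk, hi, ht0]
    have hnc : ψ ⟨g', hgK⟩ * ψ ⟨h', hhK⟩ ≠ ψ ⟨h', hhK⟩ * ψ ⟨g', hgK⟩ := by
      rw [← map_mul, ← map_mul, Ne, hscal]
      rintro ⟨c, -, hc⟩
      simp only [Subgroup.coe_mul, Units.val_mul, eg, eh, hG, hH] at hc
      have h00 := congrFun (congrFun hc 0) 0
      have h01 := congrFun (congrFun hc 0) 1
      have h10 := congrFun (congrFun hc 1) 0
      have h11 := congrFun (congrFun hc 1) 1
      simp [blk, Matrix.mul_apply, Fin.sum_univ_three] at h00 h01 h10 h11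
      have hst : s * t ≠ 0 := mul_ne_zero hs0 ht0
      have c1 : c * ζ = 1 := by
        refine mul_left_cancel₀ (mul_ne_zero hst (mul_ne_zero hζ1 hx0)) ?_
        linear_combination h01
      have c2 : c = ζ := by
        refine mul_left_cancel₀ (mul_ne_zero hst (mul_ne_zero hζ1 hy0)) ?_
        linear_combination h10
      exact hζ (by rw [c2] at c1; rw [pow_two]; exact c1)
    have hcopR : ¬ p ∣ Nat.card ψ.range := fun hd => hcop (hd.trans (Subgroup.card_range_dvd ψ))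
    refine ⟨?_, fun hi => ?_⟩
    · by_contra h6
      push Not at h6
      exact hnc (comm_of_six_le p hcopR ⟨_, rfl⟩ ⟨_, rfl⟩ (by rw [hog]; exact h6) (by rw [hoh]; exact h6))
    · have h4 : orderOf ζ = 4 := by
        haveI : Fact (Nat.Prime 2) := ⟨Nat.prime_two⟩
        refine orderOf_eq_prime_pow (p := 2) (n := 1) ?_ ?_
        · rw [pow_one]; exact hζ
        · rw [show (2 : ℕ) ^ (1 + 1) = 2 * 2 from rfl, pow_mul, pow_two ζ, hi, neg_one_sq]
      obtain ⟨k1, k2⟩ := four_products p hcopR ⟨_, rfl⟩ ⟨_, rfl⟩ (hog.trans h4) (hoh.trans h4) hnc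
      rw [← map_inv, ← map_mul, ← map_pow, ← map_one ψ, hscal] at k2
      rw [← map_mul, ← map_pow, ← map_one ψ, hscal] at k1
      obtain ⟨c1, hc1', e1⟩ := k1
      obtain ⟨c2, hc2', e2⟩ := k2
      rw [OneMemClass.coe_one, Units.val_one, hone] at e1 e2
      have cube : ∀ k : K, blk (((k ^ 3 : K) : GL (Fin 3) F) : M3) = blk ((k : GL (Fin 3) F) : M3) ^ 3 := fun k => by
        rw [← hφ, ← hφ, map_pow, Units.val_pow_eq_pow_val]
      rw [cube] at e1 e2
      have hζ0 : ζ ≠ 0 := fun e0 => by rw [e0, mul_zero] at hi; simp at hi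
      have b1 : blk (((⟨g', hgK⟩ * ⟨h', hhK⟩ : K) : GL (Fin 3) F) : M3) =
          (s * t) • !![ζ + (ζ - 1) * x * ((ζ - 1) * y), (ζ - 1) * x * ζ; (ζ - 1) * y, ζ] := by
        rw [Subgroup.coe_mul, Units.val_mul, eg, eh, hG, hH]
        ext a b; fin_cases a <;> fin_cases b <;> simp [blk, Matrix.mul_apply, Fin.sum_univ_three] <;> ring
      have hinv : (((⟨h', hhK⟩⁻¹ : K) : GL (Fin 3) F) : M3) = t⁻¹ • !![1, 0, 0; (-ζ - 1) * y, -ζ, 0; 0, 0, 1] := by
        rw [Subgroup.coe_inv]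
        refine Units.inv_eq_of_mul_eq_one_right ?_
        show (h' : M3) * _ = 1
        rw [eh, hH, Matrix.smul_mul, Matrix.mul_smul, smul_smul, mul_inv_cancel₀ ht0, one_smul]
        ext a b; fin_cases a <;> fin_cases b <;> simp [Matrix.mul_apply, Fin.sum_univ_three]
        · linear_combination (-y) * hi
        · linear_combination (-1 : F) * hi
      have b2 : blk (((⟨g', hgK⟩ * ⟨h', hhK⟩⁻¹ : K) : GL (Fin 3) F) : M3) =
          (s * t⁻¹) • !![ζ + (ζ - 1) * x * ((-ζ - 1) * y), (ζ - 1) * x * (-ζ); (-ζ - 1) * y, -ζ] := by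
        rw [Subgroup.coe_mul, Units.val_mul, eg, hinv, hG]
        ext a b; fin_cases a <;> fin_cases b <;> simp [blk, Matrix.mul_apply, Fin.sum_univ_three] <;> ring
      rw [b1, smul_pow] at e1
      rw [b2, smul_pow] at e2
      have hu1 : c1 * (s * t) ^ 3 ≠ 0 := mul_ne_zero hc1' (pow_ne_zero _ (mul_ne_zero hs0 ht0))
      have hu2 : c2 * (s * t⁻¹) ^ 3 ≠ 0 := mul_ne_zero hc2' (pow_ne_zero _ (mul_ne_zero hs0 (inv_ne_zero ht0)))
      have hT1 := cube_entry (c := (c1 * (s * t) ^ 3)⁻¹)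
        (M := !![ζ + (ζ - 1) * x * ((ζ - 1) * y), (ζ - 1) * x * ζ; (ζ - 1) * y, ζ])
        (by rw [← e1, smul_smul c1, smul_smul, inv_mul_cancel₀ hu1, one_smul])
        (by simp [hζ1, hx0, hζ0])
      have hT2 := cube_entry (c := (c2 * (s * t⁻¹) ^ 3)⁻¹)
        (M := !![ζ + (ζ - 1) * x * ((-ζ - 1) * y), (ζ - 1) * x * (-ζ); (-ζ - 1) * y, -ζ])
        (by rw [← e2, smul_smul c2, smul_smul, inv_mul_cancel₀ hu2, one_smul])
        (by simp [hζ1, hx0, hζ0])
      rw [Matrix.trace_fin_two_of, Matrix.det_fin_two_of] at hT1 hT2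
      have h20 : (2 : F) ≠ 0 := Ring.two_ne_zero (fun e0 => hp2 ((CharP.eq F (ringChar.charP F) ‹CharP F p›).symm.trans e0))
      have a1 : ζ + (ζ - 1) * x * ((ζ - 1) * y) + ζ = 2 * ζ * (1 - x * y) := by linear_combination (x * y) * hi
      have a2 : ζ + (ζ - 1) * x * ((-ζ - 1) * y) + -ζ = 2 * (x * y) := by linear_combination (-(x * y)) * hi
      rw [a1] at hT1
      rw [a2] at hT2
      have q1 : 4 * (1 - x * y) * (1 - x * y) = 1 := by
        refine mul_left_cancel₀ (mul_ne_zero hζ0 hζ0) ?_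
        linear_combination hT1
      have q2 : 4 * (x * y) * (x * y) = 1 := by linear_combination hT2 + (-1 : F) * hi
      refine mul_left_cancel₀ (mul_ne_zero h20 h20) ?_
      linear_combination q2 - q1

end CfsgLib.Perm.Trans.ThreeRes
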