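import Cfsg.Agent.Lib.Perm.Trans.ThreeRes.NoTv.Pair
import Cfsg.Agent.Lib.Coprime.UniqueOrderP
import Cfsg.Agent.Lib.Perm.Dickson.Recog
import Cfsg.Prelude.Def_CaseTheorems

/-!
# Two-groups of block diagonal matrices with few scalars
-/

set_option autoImplicit false
set_option linter.all false

namespace CfsgLib.Perm.Trans.ThreeRes

open scoped Matrix
open Matrix Cfsg.Geo CfsgLib.Perm.Dickson

variable {F : Type*} [Field F]

local notation "M2" => Matrix (Fin 2) (Fin 2) F

/-- the centraliser of a non-scalar matrix of degree two is linear -/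
theorem commute_nonscalar {J A : M2} (hJ : ∀ c : F, J ≠ c • 1) (h : A * J = J * A) :
    ∃ u v : F, A = u • 1 + v • J := by
  have e00 := congrFun (congrFun h 0) 0
  have e01 := congrFun (congrFun h 0) 1
  have e10 := congrFun (congrFun h 1) 0
  simp [Matrix.mul_apply, Fin.sum_univ_two] at e00 e01 e10
  have key : ∀ u v : F, A 0 0 = u + v * J 0 0 → A 0 1 = v * J 0 1 → A 1 0 = v * J 1 0 → A 1 1 = u + v * J 1 1 →
      A = u • 1 + v • J := by
    intro u v q1 q2 q3 q4
    ext i j; fin_cases i <;> fin_cases j <;> simp [q1, q2, q3, q4]
  by_cases h01 : J 0 1 = 0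
  · by_cases h10 : J 1 0 = 0
    · have hd : J 0 0 - J 1 1 ≠ 0 := fun e => hJ (J 0 0) (by
        ext i j; fin_cases i <;> fin_cases j <;> simp [h01, h10, (sub_eq_zero.1 e).symm])
      refine ⟨A 0 0 - (A 0 0 - A 1 1) / (J 0 0 - J 1 1) * J 0 0, (A 0 0 - A 1 1) / (J 0 0 - J 1 1),
        key _ _ (by ring) ?_ ?_ ?_⟩
      · rw [h01, mul_zero]
        refine (mul_eq_zero.1 (?_ : A 0 1 * (J 0 0 - J 1 1) = 0)).resolve_right hd
        linear_combination -e01 + (A 0 0 - A 1 1) * h01
      · rw [h10, mul_zero]
        refine (mul_eq_zero.1 (?_ : A 1 0 * (J 0 0 - J 1 1) = 0)).resolve_right hd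
        linear_combination e10 + (A 0 0 - A 1 1) * h10
      · field_simp
        ring
    · refine ⟨A 0 0 - A 1 0 / J 1 0 * J 0 0, A 1 0 / J 1 0, key _ _ (by ring) ?_ (by field_simp) ?_⟩
      · field_simp; linear_combination e00
      · field_simp; linear_combination e10
  · refine ⟨A 0 0 - A 0 1 / J 0 1 * J 0 0, A 0 1 / J 0 1, key _ _ (by ring) (by field_simp) ?_ ?_⟩
    · field_simp; linear_combination -e00
    · field_simp; linear_combination -e01

/-- the possible shapes -/
def TwoShape (S : Type*) [Group S] : Prop :=
  IsCyclic S ∨ (∃ n, Nonempty (S ≃* QuaternionGroup (2 ^ (n + 1)))) ∨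
  ((∀ a b : S, a * b = b * a) ∧ Nat.card {z : S // z * z = 1} ≤ 4 ∧ (∃ z : S, (z * z) * (z * z) = 1 ∧ z * z ≠ 1) ∧
    ∀ z z' : S, (z * z) * (z * z) = 1 → z * z ≠ 1 → (z' * z') * (z' * z') = 1 → z' * z' ≠ 1 → z * z = z' * z') ∨
  (∃ n, 2 ≤ n ∧ Nonempty (S ≃* DihedralGroup n)) ∨ Cfsg.IsQuasiDihedral S

theorem twoShape_of_maps [Finite F] {p : ℕ} [Fact p.Prime] [CharP F p] (hp2 : p ≠ 2) {S : Type*} [Group S] [Finite S]
    (h2 : IsPGroup 2 S) (bl : S →* M2) (hinj : Function.Injective bl) {t : S} (ht1 : t ≠ 1) (ht : bl t = -1)
    (hscal : ∀ z : S, ∀ c : F, bl z = c • 1 → z = 1 ∨ z = t) : TwoShape S := by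
  classical
  haveI : Fact (Nat.Prime 2) := ⟨Nat.prime_two⟩
  have h20 : (2 : F) ≠ 0 := Ring.two_ne_zero (fun e0 => hp2 ((CharP.eq F (ringChar.charP F) ‹CharP F p›).symm.trans e0))
  have htt : t * t = 1 := hinj (by rw [map_mul, ht, map_one, neg_mul_neg, one_mul])
  have htz : ∀ z, t * z = z * t := fun z => hinj (by rw [map_mul, map_mul, ht, neg_one_mul, mul_neg_one])
  -- unique involution
  by_cases hu : ∀ j : S, j * j = 1 → j = 1 ∨ j = t
  · rcases CfsgLib.Coprime.cyclic_or_quaternion_of_unique_two h2 (fun x y hx hy hx1 => by
        rw [pow_two] at hx hy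
        rcases hu x hx with rfl | rfl
        · exact absurd rfl hx1
        rcases hu y hy with rfl | rfl
        · exact one_mem _
        · exact Subgroup.mem_zpowers _) with h | ⟨n, ⟨e⟩⟩
    · exact Or.inl h
    · cases n with
      | zero =>
        haveI : IsCyclic (QuaternionGroup (2 ^ 0)) := QuaternionGroup.quaternionGroup_one_isCyclic
        exact Or.inl (e.isCyclic.2 inferInstance)
      | succ n => exact Or.inr (Or.inl ⟨n, ⟨e⟩⟩)
  push Not at hu
  obtain ⟨j, hjj, hj1, hjt⟩ := hu
  have hJ : ∀ c : F, bl j ≠ c • 1 := fun c e => (hscal j c e).elim hj1 hjt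
  have hJJ : bl j * bl j = 1 := by rw [← map_mul, hjj, map_one]
  have hcentj : (∀ z, z * j = j * z) → ∀ a b : S, a * b = b * a := fun hz a b => by
    refine hinj ?_
    obtain ⟨u, v, e⟩ := commute_nonscalar hJ (by rw [← map_mul, hz a, map_mul] : bl a * bl j = bl j * bl a)
    obtain ⟨u', v', e'⟩ := commute_nonscalar hJ (by rw [← map_mul, hz b, map_mul] : bl b * bl j = bl j * bl b)
    rw [map_mul, map_mul, e, e']
    simp only [add_mul, mul_add, Matrix.smul_mul, Matrix.mul_smul, one_mul, mul_one, smul_smul]
    module
  by_cases hab : ∀ a b : S, a * b = b * a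
  · -- abelian
    have hfour : ∀ z : S, z * z = 1 → z = 1 ∨ z = t ∨ z = j ∨ z = t * j := by
      intro z hz
      obtain ⟨u, v, e⟩ := commute_nonscalar hJ (by rw [← map_mul, hab z j, map_mul] : bl z * bl j = bl j * bl z)
      have hzz : (u * u + v * v - 1) • (1 : M2) + (2 * u * v) • bl j = 0 := by
        have h1 : bl z * bl z = 1 := by rw [← map_mul, hz, map_one]
        rw [e] at h1
        simp only [add_mul, mul_add, Matrix.smul_mul, Matrix.mul_smul, one_mul, mul_one, smul_smul, hJJ] at h1
        linear_combination (norm := module) h1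
      have huv : 2 * u * v = 0 := by
        by_contra hne
        refine hJ (-((u * u + v * v - 1) / (2 * u * v))) (smul_right_injective M2 hne ?_)
        show (2 * u * v) • bl j = (2 * u * v) • _
        rw [smul_smul, mul_neg, mul_div_cancel₀ _ hne]
        linear_combination (norm := module) hzz
      rw [huv, zero_smul, add_zero] at hzz
      have hone : u * u + v * v = 1 := by
        have := congrFun (congrFun hzz 0) 0
        simpa [sub_eq_zero] using this
      rcases mul_eq_zero.1 huv with h | rfl
      · obtain rfl : u = 0 := (mul_eq_zero.1 h).resolve_left h20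
        rcases mul_self_eq_one_iff.1 (show v * v = 1 by linear_combination hone) with rfl | rfl
        · right; right; left; exact hinj (by rw [e]; module)
        · right; right; right; exact hinj (by rw [e, map_mul, ht, neg_one_mul]; module)
      · exact (hscal z u (by rw [e]; module)).imp_right Or.inl
    by_cases h4 : ∀ z : S, z * z = 1
    · right; right; right; left
      have hz2 : orderOf t = 2 := orderOf_eq_prime (by rw [pow_two, htt]) ht1
      have hcard : Nat.card S = 4 := by
        have hb : Function.Bijective (![1, t, j, t * j] : Fin 4 → S) := by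
          refine ⟨fun a b e => ?_, fun z => ?_⟩
          · have e1 : t * j ≠ 1 := fun e => hjt (by
              have := congrArg (fun w => t * w) e; simpa [← mul_assoc, htt] using this)
            fin_cases a <;> fin_cases b <;> simp_all [eq_comm]
          · rcases hfour z (h4 z) with e | e | e | e
            · exact ⟨0, e.symm⟩
            · exact ⟨1, e.symm⟩
            · exact ⟨2, e.symm⟩
            · exact ⟨3, e.symm⟩
        rw [← Nat.card_congr (Equiv.ofBijective _ hb), Nat.card_fin]
      obtain ⟨e⟩ := mulEquiv_dihedral (C := Subgroup.zpowers t) inferInstance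
        (by rw [Nat.card_zpowers, hz2, hcard]) (fun g _ => h4 g)
      rw [Nat.card_zpowers, hz2] at e
      exact ⟨2, le_rfl, ⟨e⟩⟩
    · push Not at h4
      obtain ⟨z, hz⟩ := h4
      right; right; left
      have hnt : ∀ z : S, z * z ≠ t := by
        intro z hzt
        obtain ⟨u, v, e⟩ := commute_nonscalar hJ (by rw [← map_mul, hab z j, map_mul] : bl z * bl j = bl j * bl z)
        have hzz : (u * u + v * v + 1) • (1 : M2) + (2 * u * v) • bl j = 0 := by
          have h1 : bl z * bl z = -1 := by rw [← map_mul, hzt, ht]
          rw [e] at h1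
          simp only [add_mul, mul_add, Matrix.smul_mul, Matrix.mul_smul, one_mul, mul_one, smul_smul, hJJ] at h1
          linear_combination (norm := module) h1
        have huv : 2 * u * v = 0 := by
          by_contra hne
          refine hJ (-((u * u + v * v + 1) / (2 * u * v))) (smul_right_injective M2 hne ?_)
          show (2 * u * v) • bl j = (2 * u * v) • _
          rw [smul_smul, mul_neg, mul_div_cancel₀ _ hne]
          linear_combination (norm := module) hzz
        have hsq : z * z = 1 := by
          rcases mul_eq_zero.1 huv with h | rfl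
          · obtain rfl : u = 0 := (mul_eq_zero.1 h).resolve_left h20
            have hzj : bl (z * j) = v • 1 := by
              rw [map_mul, e, zero_smul, zero_add, Matrix.smul_mul, hJJ]
            rcases hscal _ v hzj with h' | h'
            · rw [eq_inv_of_mul_eq_one_left h', inv_eq_of_mul_eq_one_right hjj, hjj]
            · have hz' : z = t * j := by rw [← h', mul_assoc, hjj, mul_one]
              rw [hz', mul_assoc, ← mul_assoc j, ← htz j, mul_assoc, hjj, mul_one, htt]
          · rcases hscal z u (by rw [e, zero_smul, add_zero]) with rfl | rfl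
            · exact mul_one 1
            · exact htt
        exact ht1 (hzt.symm.trans hsq)
      refine ⟨hab, ?_, ?_, ?_⟩
      rotate_right
      · intro a b ha ha1 hb hb1
        have key : ∀ w, (w * w) * (w * w) = 1 → w * w ≠ 1 → w * w = j ∨ w * w = t * j := fun w hw hw1 => by
          rcases hfour _ hw with e | e | e
          · exact absurd e hw1
          · exact absurd e (hnt w)
          · exact e
        have hne : ∀ a b : S, a * a = j → b * b ≠ t * j := fun a b ha hb => hnt (a * b) (by
          rw [mul_assoc, ← mul_assoc b, hab b a, mul_assoc, ← mul_assoc, ha, hb, ← mul_assoc, ← htz j, mul_assoc, hjj, mul_one])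
        rcases key a ha ha1 with e | e <;> rcases key b hb hb1 with e' | e'
        · rw [e, e']
        · exact absurd e' (hne a b e)
        · exact absurd e (hne b a e')
        · rw [e, e']
      · have hsub : {z : S | z * z = 1} ⊆ ({1, t, j, t * j} : Set S) := fun w hw => by
          rcases hfour w hw with e | e | e | e <;> simp [e]
        rw [show Nat.card {z : S // z * z = 1} = Set.ncard {z : S | z * z = 1} from Nat.card_coe_set_eq _]
        refine (Set.ncard_le_ncard hsub).trans ?_
        refine (Set.ncard_insert_le _ _).trans (Nat.succ_le_succ ?_)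
        refine (Set.ncard_insert_le _ _).trans (Nat.succ_le_succ ?_)
        refine (Set.ncard_insert_le _ _).trans (Nat.succ_le_succ ?_)
        simp
      · obtain ⟨k, hk⟩ := h2 z
        induction k generalizing z with
        | zero => exact absurd (by rw [pow_zero, pow_one] at hk; rw [hk, mul_one]) hz
        | succ k ih =>
          by_cases h : (z * z) * (z * z) = 1
          · exact ⟨z, h, hz⟩
          · exact ih (z * z) h (by rw [← pow_two, ← pow_mul, ← pow_succ']; exact hk)
  -- non-abelian: the projective image
  let φ : S →* G2 F := ProjGenLinGroup.mk.comp bl.toHomUnits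
  have hker : ∀ z, φ z = 1 → z = 1 ∨ z = t := by
    intro z hz
    rw [← map_one φ] at hz
    obtain ⟨c, hc⟩ := ProjGenLinGroup.mk_eq_mk_iff.1 hz.symm
    refine hscal z c ?_
    have := congrArg (fun g : GL (Fin 2) F => (g : M2)) hc
    simp only [MonoidHom.coe_toHomUnits, map_one, Units.val_mul, mul_one, Units.val_one] at this
    rw [← this]
    ext i j; simp [Matrix.scalar, Matrix.one_apply]
  have hφt : φ t = 1 := by
    rw [← map_one φ]
    refine (ProjGenLinGroup.mk_eq_mk_iff.2 ⟨-1, Units.ext ?_⟩).symm
    show _ = bl t
    rw [ht]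
    ext i j; fin_cases i <;> fin_cases j <;> simp [Matrix.scalar]
  haveI := finite_G2 (F := F)
  have hHp : IsPGroup 2 φ.range := h2.of_surjective φ.rangeRestrict φ.rangeRestrict_surjective
  have hfib : ∀ z w, φ z = φ w → z = w ∨ z = w * t := by
    intro z w e
    rcases hker (w⁻¹ * z) (by rw [map_mul, map_inv, e, inv_mul_cancel]) with h | h
    · exact Or.inl (inv_mul_eq_one.1 h).symm
    · exact Or.inr (by rw [← h, mul_inv_cancel_left])
  have hcomm : (∀ a b : S, φ a * φ b = φ b * φ a) → ∀ k : S, (∀ z, ∃ i : ℤ, φ z = φ k ^ i) →
      ∀ a b : S, a * b = b * a := by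
    intro _ k hk a b
    obtain ⟨i, hi⟩ := hk a
    obtain ⟨l, hl⟩ := hk b
    rw [← map_zpow] at hi hl
    rcases hfib _ _ hi with ea | ea <;> rcases hfib _ _ hl with eb | eb <;> rw [ea, eb]
    · rw [← _root_.zpow_add, add_comm, _root_.zpow_add]
    · rw [← mul_assoc, ← _root_.zpow_add, add_comm i, _root_.zpow_add, mul_assoc, mul_assoc, htz]
    · rw [mul_assoc, htz, ← mul_assoc, ← mul_assoc, ← _root_.zpow_add, add_comm, _root_.zpow_add]
    · rw [show k ^ i * t * (k ^ l * t) = k ^ i * k ^ l * (t * t) by rw [mul_assoc, ← mul_assoc t, htz (k ^ l)]; group,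
        show k ^ l * t * (k ^ i * t) = k ^ l * k ^ i * (t * t) by rw [mul_assoc, ← mul_assoc t, htz (k ^ i)]; group,
        ← _root_.zpow_add, add_comm i, _root_.zpow_add]
  have hcyc : IsCyclic φ.range → False := fun hc => by
    obtain ⟨⟨_, k, rfl⟩, hg⟩ := hc
    refine hab (hcomm (fun a b => ?_) k fun z => ?_)
    · obtain ⟨i, hi⟩ := hg ⟨φ a, a, rfl⟩
      obtain ⟨l, hl⟩ := hg ⟨φ b, b, rfl⟩
      have hi' : φ k ^ i = φ a := congrArg Subtype.val hi
      have hl' : φ k ^ l = φ b := congrArg Subtype.val hl
      rw [← hi', ← hl', ← _root_.zpow_add, add_comm, _root_.zpow_add]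
    · obtain ⟨i, hi⟩ := hg ⟨φ z, z, rfl⟩
      exact ⟨i, (congrArg Subtype.val hi).symm⟩
  have hpow : ∀ m : ℕ, Nat.card φ.range = m → ∃ k, m = 2 ^ k := fun m hm => hm ▸ IsPGroup.iff_card.1 hHp
  haveI := charP_Kc (F := F) p
  cases classify_finite p φ.range with
  | borel x hx =>
    exfalso
    refine hcyc ?_
    haveI : Finite (φ.range.map (mapG (iF F))) := Finite.of_equiv _ (φ.range.equivMapOfInjective _ (mapG_injective _)).toEquiv
    have hcc := isCyclic_of_fix (φ.range.map (mapG (iF F))) (x := mapP (iF F) x)
      (by rintro _ ⟨k, hk, rfl⟩; rw [map_smul_pt, hx k hk]) (by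
        rintro _ ⟨k, hk, rfl⟩ hk'
        have hp1 := pow_char_of_single p (by rw [map_smul_pt, hx k hk]) hk'
        rw [← map_pow, map_eq_one_iff _ (mapG_injective _)] at hp1
        obtain ⟨l, hl⟩ := hHp ⟨k, hk⟩
        have hl' : k ^ 2 ^ l = 1 := congrArg Subtype.val hl
        have hco : Nat.Coprime p (2 ^ l) :=
          Nat.Coprime.pow_right _ ((Nat.coprime_primes (Fact.out : p.Prime) Nat.prime_two).2 hp2)
        have := pow_gcd_eq_one.2 ⟨hp1, hl'⟩
        rw [hco.gcd_eq_one, pow_one] at this
        rw [this, map_one])
    exact (φ.range.equivMapOfInjective _ (mapG_injective _)).isCyclic.2 hcc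
  | cyclic a b hg h _ =>
    exfalso
    refine hcyc ?_
    haveI := isCyclic_pairFix (F := F) hg.1
    exact isCyclic_of_injective (Subgroup.inclusion h) (Subgroup.inclusion_injective h)
  | a4 hN _ _ _ => obtain ⟨k, hk⟩ := hpow _ hN; exact absurd (hk ▸ (by norm_num : 3 ∣ 12)) (fun h => absurd (Nat.prime_three.dvd_of_dvd_pow h) (by norm_num))
  | s4 hN _ _ _ => obtain ⟨k, hk⟩ := hpow _ hN; exact absurd (hk ▸ (by norm_num : 3 ∣ 24)) (fun h => absurd (Nat.prime_three.dvd_of_dvd_pow h) (by norm_num))
  | a5 hN _ _ _ => obtain ⟨k, hk⟩ := hpow _ hN; exact absurd (hk ▸ (by norm_num : 3 ∣ 60)) (fun h => absurd (Nat.prime_three.dvd_of_dvd_pow h) (by norm_num))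
  | subfield σ F1 h3 h =>
    exfalso
    have hmem : mapG F1.subtype (tr (1 : F1)) ∈ conjG σ φ.range := by
      rcases h with h | ⟨-, h⟩ <;> rw [h]
      · exact ⟨_, rfl⟩
      · exact ⟨_, tr_mem_psl _, rfl⟩
    obtain ⟨k, hk⟩ := IsPGroup.iff_card.1 hHp
    rw [mapG_tr, map_one] at hmem
    have hp1 : orderOf (⟨_, hmem⟩ : conjG σ φ.range) = p := by
      refine orderOf_eq_prime (Subtype.ext ?_) (fun e => ?_)
      · show tr (1 : F) ^ p = 1
        rw [tr_pow, CharP.cast_eq_zero F p, zero_mul, tr_zero]
      · have e' : tr (1 : F) = tr 0 := by rw [tr_zero]; exact congrArg Subtype.val e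
        exact one_ne_zero (tr_injective e')
    have := hp1 ▸ orderOf_dvd_natCard (⟨_, hmem⟩ : conjG σ φ.range)
    rw [card_conjG, hk] at this
    exact hp2 ((Nat.prime_dvd_prime_iff_eq Fact.out Nat.prime_two).1 ((Fact.out : p.Prime).dvd_of_dvd_pow this))
  | dihedral a b hg hle hn hC =>
    obtain ⟨X, hX⟩ : ∃ X, X = (pairFix a b).comap φ := ⟨_, rfl⟩
    have hmX : ∀ z, z ∈ X ↔ φ z ∈ pairFix a b := fun z => by rw [hX]; rfl
    have htX : t ∈ X := (hmX t).2 (by rw [hφt]; exact one_mem _)
    have hswap : ∀ z, z ∉ X → φ z * φ z = 1 := fun z hz => sq_of_swap hg.1 (hle ⟨z, rfl⟩) fun h => hz ((hmX z).2 h)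
    obtain ⟨y, hy⟩ : ∃ y, y ∉ X := by
      by_contra hcon
      push Not at hcon
      exact hn (by rintro _ ⟨z, rfl⟩; exact (hmX z).1 (hcon z))
    have hidx : 2 * Nat.card X = Nat.card S := by
      have : X.index = 2 := Subgroup.index_eq_two_iff.2 ⟨y, fun z => by
        by_cases hz : z ∈ X
        · exact Or.inr ⟨hz, fun h => hy ((Subgroup.mul_mem_cancel_left _ hz).1 h)⟩
        · refine Or.inl ⟨(hmX _).2 ?_, hz⟩
          rw [map_mul]
          exact mul_mem_of_swap (hle ⟨z, rfl⟩) (fun h => hz ((hmX z).2 h)) (hle ⟨y, rfl⟩) (fun h => hy ((hmX y).2 h))⟩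
      rw [← X.card_mul_index, this, mul_comm]
    -- a generator of the projective torus
    haveI : IsCyclic (φ.range ⊓ pairFix a b : Subgroup (G2 F)) := by
      haveI := isCyclic_pairFix (F := F) hg.1
      exact isCyclic_of_injective (Subgroup.inclusion (inf_le_right : φ.range ⊓ pairFix a b ≤ pairFix a b))
        (Subgroup.inclusion_injective _)
    obtain ⟨⟨_, ⟨x, rfl⟩, hxT⟩, hgen⟩ := IsCyclic.exists_generator (α := (φ.range ⊓ pairFix a b : Subgroup (G2 F)))
    have hxX : x ∈ X := (hmX x).2 hxT
    have hXel : ∀ z ∈ X, ∃ i : ℤ, z = x ^ i ∨ z = x ^ i * t := fun z hz => by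
      obtain ⟨i, hi⟩ := hgen ⟨φ z, ⟨z, rfl⟩, (hmX z).1 hz⟩
      refine ⟨i, hfib z (x ^ i) ?_⟩
      rw [map_zpow]; exact (congrArg Subtype.val hi).symm
    have hXab : ∀ z ∈ X, ∀ w ∈ X, z * w = w * z := by
      intro z hz w hw
      obtain ⟨i, hi⟩ := hXel z hz
      obtain ⟨k, hk⟩ := hXel w hw
      have c1 : Commute x t := (htz x).symm
      rcases hi with rfl | rfl <;> rcases hk with rfl | rfl
      · exact (Commute.refl x).zpow_zpow i k
      · exact ((Commute.refl x).zpow_zpow i k).mul_right (c1.zpow_left i)
      · exact (((Commute.refl x).zpow_zpow i k).symm.mul_right (c1.zpow_left k)).symm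
      · exact ((((Commute.refl x).zpow_zpow i k).mul_right (c1.zpow_left i)).mul_left
          ((c1.symm.zpow_right k).mul_right (Commute.refl t)))
    have hinvx : ∀ w, w ∉ X → ∀ z ∈ X, w * z * w⁻¹ = z⁻¹ ∨ w * z * w⁻¹ = z⁻¹ * t := by
      intro w hw z hz
      refine hfib _ _ ?_
      have hwx : w * z ∉ X := fun h => hw ((Subgroup.mul_mem_cancel_right _ hz).1 h)
      have h1 := hswap _ hwx
      have h2 := hswap _ hw
      rw [map_mul, map_mul, map_inv, map_inv]
      rw [map_mul] at h1
      rw [eq_inv_iff_mul_eq_one, inv_eq_of_mul_eq_one_right h2]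
      rw [mul_assoc (φ w * φ z) (φ w)]
      exact h1
    have hsplit : ∀ w w₀, w ∉ X → w₀ ∉ X → ∃ z ∈ X, w = w₀ * z := fun w w₀ hw hw₀ => by
      refine ⟨w₀⁻¹ * w, ?_, by rw [mul_inv_cancel_left]⟩
      have hX2 : X.index = 2 := by
        have h3 := X.card_mul_index
        rw [← hidx, mul_comm 2] at h3
        exact Nat.eq_of_mul_eq_mul_left Nat.card_pos h3
      rw [Subgroup.mul_mem_iff_of_index_two hX2, inv_mem_iff]
      exact iff_of_false hw₀ hw
    by_cases hXu : ∀ z ∈ X, z * z = 1 → z = 1 ∨ z = t
    · -- cyclic torus
      have hXc : IsCyclic X := by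
        rcases CfsgLib.Coprime.cyclic_or_quaternion_of_unique_two (h2.to_subgroup X) (fun u v hu' hv' hu1 => by
          rw [pow_two] at hu' hv'
          rcases hXu u u.2 (congrArg Subtype.val hu') with e | e
          · exact absurd (Subtype.ext e) hu1
          rcases hXu v v.2 (congrArg Subtype.val hv') with e' | e'
          · rw [show v = 1 from Subtype.ext e']; exact one_mem _
          · rw [show v = u from Subtype.ext (e'.trans e.symm)]; exact Subgroup.mem_zpowers _) with h | ⟨n, ⟨e⟩⟩
        · exact h
        · cases n with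
          | zero =>
            haveI : IsCyclic (QuaternionGroup (2 ^ 0)) := QuaternionGroup.quaternionGroup_one_isCyclic
            exact e.isCyclic.2 inferInstance
          | succ n =>
            exfalso
            have hne : QuaternionGroup.xa 0 * QuaternionGroup.a 1 ≠ (QuaternionGroup.a 1 * QuaternionGroup.xa 0 : QuaternionGroup (2 ^ (n + 1))) := by
              simp only [QuaternionGroup.xa_mul_a, QuaternionGroup.a_mul_xa, ne_eq, QuaternionGroup.xa.injEq]
              intro h
              have h2 : ((2 : ℕ) : ZMod (2 * 2 ^ (n + 1))) = 0 := by push_cast; linear_combination h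
              rw [ZMod.natCast_eq_zero_iff] at h2
              have := Nat.le_of_dvd (by norm_num) h2
              have : 0 < 2 ^ n := Nat.two_pow_pos n
              rw [pow_succ] at *
              omega
            refine hne (e.symm.injective ?_)
            rw [map_mul, map_mul]
            exact Subtype.ext (hXab _ (e.symm _).2 _ (e.symm _).2)
      obtain ⟨⟨g, hgX⟩, hgg⟩ := hXc.exists_generator
      have hjX : j ∉ X := fun h => (hXu j h hjj).elim hj1 hjt
      have hgel : ∀ z ∈ X, ∃ i : ℤ, g ^ i = z := fun z hz => by
        obtain ⟨i, hi⟩ := hgg ⟨z, hz⟩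
        exact ⟨i, congrArg Subtype.val hi⟩
      have hN : orderOf g = Nat.card X := by
        rw [← Subgroup.orderOf_mk g hgX]; exact orderOf_eq_card_of_forall_mem_zpowers hgg
      obtain ⟨n, hn'⟩ := IsPGroup.iff_card.1 (h2.to_subgroup X)
      have hcardS : Nat.card S = 2 ^ (n + 1) := by rw [← hidx, hn', pow_succ, mul_comm]
      have hjinv : j⁻¹ = j := inv_eq_of_mul_eq_one_right hjj
      rcases hinvx j hjX g hgX with hr | hr
      · right; right; right; left
        obtain ⟨e⟩ := mulEquiv_dihedral (C := X) hXc hidx fun w hw => by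
          obtain ⟨z, hz, rfl⟩ := hsplit w j hw hjX
          obtain ⟨i, rfl⟩ := hgel z hz
          have hc : j * g ^ i * j⁻¹ = (g ^ i)⁻¹ := by rw [← conj_zpow, hr, _root_.inv_zpow]
          rw [hjinv] at hc
          rw [show j * g ^ i * (j * g ^ i) = j * g ^ i * j * g ^ i by group, hc, inv_mul_cancel]
        refine ⟨Nat.card X, ?_, ⟨e⟩⟩
        haveI : Nontrivial X := ⟨⟨⟨t, htX⟩, 1, fun e => ht1 (congrArg Subtype.val e)⟩⟩
        exact Finite.one_lt_card
      · right; right; right; right
        have hn3 : 3 ≤ n := by
          by_contra hlt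
          have h4 : (g * g) * (g * g) = 1 := by
            have h5 : orderOf g ∣ 2 ^ 2 := by rw [hN, hn']; exact pow_dvd_pow 2 (by omega)
            have := orderOf_dvd_iff_pow_eq_one.1 h5
            rw [← this]; norm_num [pow_succ, mul_assoc]
          have hfix : j * g * j⁻¹ = g := by
            rw [hr]
            rcases hXu (g * g) (mul_mem hgX hgX) h4 with h | h
            · exfalso
              have hg1 : g = 1 ∨ g = t := hXu g hgX h
              refine hab (fun a b => ?_)
              have hall : ∀ z : S, z ∈ X → z = 1 ∨ z = t := fun z hz => by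
                obtain ⟨i, rfl⟩ := hgel z hz
                rcases hg1 with rfl | rfl
                · rw [_root_.one_zpow]; exact Or.inl rfl
                · exact hXu _ (zpow_mem htX i) (by
                    rw [← _root_.zpow_add, ← two_mul, _root_.zpow_mul, _root_.zpow_two, htt, _root_.one_zpow])
              refine hcentj (fun z => ?_) a b
              by_cases hz : z ∈ X
              · rcases hall z hz with rfl | rfl
                · simp
                · exact htz j
              · obtain ⟨w, hw, rfl⟩ := hsplit z j hz hjX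
                rcases hall w hw with rfl | rfl
                · simp
                · rw [mul_assoc, htz]
            · rw [← h, inv_mul_cancel_left]
          refine hab (fun a b => ?_)
          refine hcentj (fun z => ?_) a b
          have hjg : Commute j g := by
            show j * g = g * j
            nth_rewrite 2 [← hfix]
            group
          by_cases hz : z ∈ X
          · obtain ⟨i, rfl⟩ := hgel z hz
            exact (hjg.zpow_right i).symm
          · obtain ⟨w, hw, rfl⟩ := hsplit z j hz hjX
            obtain ⟨i, rfl⟩ := hgel w hw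
            rw [mul_assoc, (hjg.zpow_right i).eq]
        have htg : t = g ^ 2 ^ (n - 1) := by
          have hne : g ^ 2 ^ (n - 1) ≠ 1 := fun e => by
            have := Nat.le_of_dvd (Nat.two_pow_pos _) (orderOf_dvd_of_pow_eq_one e)
            rw [hN, hn'] at this
            exact absurd this (not_le.2 (Nat.pow_lt_pow_right (by norm_num) (by omega)))
          have hsq : g ^ 2 ^ (n - 1) * g ^ 2 ^ (n - 1) = 1 := by
            rw [← pow_add, ← two_mul, ← pow_succ', show n - 1 + 1 = n by omega, ← hn', ← hN, pow_orderOf_eq_one]
          exact ((hXu _ (pow_mem hgX _) hsq).resolve_left hne).symm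
        refine ⟨n, hn3, hcardS, g, j, by rw [hN, hn'], orderOf_eq_prime (by rw [pow_two, hjj]) hj1, ?_⟩
        rw [hr, htg]
        have h1 : 1 ≤ 2 ^ (n - 1) := Nat.one_le_two_pow
        rw [inv_mul_eq_iff_eq_mul, ← pow_succ', Nat.sub_add_cancel h1]
    · -- an involution in the torus
      push Not at hXu
      obtain ⟨i, hiX, hii, hi1, hit⟩ := hXu
      have hI : ∀ c : F, bl i ≠ c • 1 := fun c e => (hscal i c e).elim hi1 hit
      have hII : bl i * bl i = 1 := by rw [← map_mul, hii, map_one]
      have hiinv : i⁻¹ = i := inv_eq_of_mul_eq_one_right hii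
      have hcenti : ¬ ∀ z, z * i = i * z := fun hz => hab fun a b => by
        refine hinj ?_
        obtain ⟨u, v, e⟩ := commute_nonscalar hI (by rw [← map_mul, hz a, map_mul] : bl a * bl i = bl i * bl a)
        obtain ⟨u', v', e'⟩ := commute_nonscalar hI (by rw [← map_mul, hz b, map_mul] : bl b * bl i = bl i * bl b)
        rw [map_mul, map_mul, e, e']
        simp only [add_mul, mul_add, Matrix.smul_mul, Matrix.mul_smul, one_mul, mul_one, smul_smul]
        module
      have hyi : y * i * y⁻¹ = i * t := by
        rcases hinvx y hy i hiX with h | h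
        · exfalso
          rw [hiinv] at h
          refine hcenti fun z => ?_
          by_cases hz : z ∈ X
          · exact hXab z hz i hiX
          · obtain ⟨w, hw, rfl⟩ := hsplit z y hz hy
            rw [mul_assoc, hXab w hw i hiX, ← mul_assoc, ← mul_assoc]
            conv_rhs => rw [← h]
            group
        · rw [hiinv] at h; exact h
      have hXexp : ∀ z ∈ X, z * z = 1 := by
        intro z hz
        by_contra hz2
        obtain ⟨k, hk⟩ := h2 z
        induction k generalizing z with
        | zero => exact hz2 (by rw [pow_zero, pow_one] at hk; rw [hk, mul_one])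
        | succ k ih =>
          by_cases h4 : (z * z) * (z * z) = 1
          · obtain ⟨u, v, e⟩ := commute_nonscalar hI (by rw [← map_mul, hXab z hz i hiX, map_mul] : bl z * bl i = bl i * bl z)
            have hzz : bl (z * z) = (u * u + v * v) • 1 + (2 * u * v) • bl i := by
              rw [map_mul, e]
              simp only [add_mul, mul_add, Matrix.smul_mul, Matrix.mul_smul, one_mul, mul_one, smul_smul, hII]
              module
            have hw : z * z = t := by
              obtain ⟨u', v', e'⟩ := commute_nonscalar hI
                (by rw [← map_mul, hXab _ (mul_mem hz hz) i hiX, map_mul] : bl (z * z) * bl i = bl i * bl (z * z))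
              have hinv2 : (z * z)⁻¹ = z * z := inv_eq_of_mul_eq_one_right h4
              -- the square is fixed by the outer element
              have hfix : y * (z * z) * y⁻¹ = z * z := by
                have e1 : y * (z * z) * y⁻¹ = (y * z * y⁻¹) * (y * z * y⁻¹) := by group
                rcases hinvx y hy z hz with h | h <;> rw [e1, h]
                · rw [← _root_.mul_inv_rev, hinv2]
                · rw [mul_assoc, ← mul_assoc t, htz z⁻¹, mul_assoc, htt, mul_one, ← _root_.mul_inv_rev, hinv2]
              have h1 : bl y * bl (z * z) = bl (z * z) * bl y := by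
                rw [← map_mul, ← map_mul]
                conv_rhs => rw [← hfix]
                group
              have h3 : bl y * bl i = -(bl i * bl y) := by
                rw [← map_mul, show y * i = i * t * y by rw [← hyi]; group, map_mul, map_mul, ht, mul_neg_one, neg_mul]
              rw [e'] at h1
              simp only [add_mul, mul_add, Matrix.smul_mul, Matrix.mul_smul, one_mul, mul_one, h3] at h1
              have hv' : v' = 0 := by
                by_contra hne
                have h5 : bl i * bl y = 0 := by
                  refine smul_right_injective M2 (mul_ne_zero h20 hne) ?_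
                  show (2 * v') • _ = (2 * v') • (0 : M2)
                  rw [smul_zero]
                  linear_combination (norm := module) (-1 : F) • h1
                have := congrArg (fun A => bl i * A) h5
                simp only [← mul_assoc, hII, one_mul, mul_zero] at this
                have h6 : bl y * bl y⁻¹ = 1 := by rw [← map_mul, mul_inv_cancel, map_one]
                rw [this, zero_mul] at h6
                exact zero_ne_one h6
              exact (hscal _ u' (by rw [e', hv', zero_smul, add_zero])).resolve_left hz2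
            rw [hw, ht] at hzz
            have huv : 2 * u * v = 0 := by
              by_contra hne
              refine hI (-((u * u + v * v + 1) / (2 * u * v))) (smul_right_injective M2 hne ?_)
              show (2 * u * v) • bl i = (2 * u * v) • _
              rw [smul_smul, mul_neg, mul_div_cancel₀ _ hne]
              linear_combination (norm := module) -hzz
            rcases mul_eq_zero.1 huv with h | rfl
            · obtain rfl : u = 0 := (mul_eq_zero.1 h).resolve_left h20
              have hzi : bl (z * i) = v • 1 := by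
                rw [map_mul, e, zero_smul, zero_add, Matrix.smul_mul, hII]
              have hzi' : ∀ w, z * i = w → z = w * i := fun w hw => by rw [← hw, mul_assoc, hii, mul_one]
              rcases hscal _ v hzi with h' | h'
              · refine hz2 ?_; rw [hzi' _ h', one_mul, hii]
              · refine hz2 ?_; rw [hzi' _ h', mul_assoc, ← mul_assoc i, ← htz i, mul_assoc, hii, mul_one, htt]
            · rcases hscal z u (by rw [e, zero_smul, add_zero]) with rfl | rfl
              · exact hz2 (mul_one 1)
              · exact hz2 htt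
          · exact ih (z * z) (mul_mem hz hz) h4 (by rw [← pow_two, ← pow_mul, ← pow_succ']; exact hk)
      have hX4 : ∀ z ∈ X, z = 1 ∨ z = t ∨ z = i ∨ z = t * i := by
        intro z hz
        obtain ⟨u, v, e⟩ := commute_nonscalar hI (by rw [← map_mul, hXab z hz i hiX, map_mul] : bl z * bl i = bl i * bl z)
        have h1 : bl z * bl z = 1 := by rw [← map_mul, hXexp z hz, map_one]
        rw [e] at h1
        simp only [add_mul, mul_add, Matrix.smul_mul, Matrix.mul_smul, one_mul, mul_one, smul_smul, hII] at h1
        have hzz : (u * u + v * v - 1) • (1 : M2) + (2 * u * v) • bl i = 0 := by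
          linear_combination (norm := module) h1
        have huv : 2 * u * v = 0 := by
          by_contra hne
          refine hI (-((u * u + v * v - 1) / (2 * u * v))) (smul_right_injective M2 hne ?_)
          show (2 * u * v) • bl i = (2 * u * v) • _
          rw [smul_smul, mul_neg, mul_div_cancel₀ _ hne]
          linear_combination (norm := module) hzz
        rw [huv, zero_smul, add_zero] at hzz
        have hone : u * u + v * v = 1 := by
          have := congrFun (congrFun hzz 0) 0
          simpa [sub_eq_zero] using this
        rcases mul_eq_zero.1 huv with h | rfl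
        · obtain rfl : u = 0 := (mul_eq_zero.1 h).resolve_left h20
          rcases mul_self_eq_one_iff.1 (show v * v = 1 by linear_combination hone) with rfl | rfl
          · right; right; left; exact hinj (by rw [e]; module)
          · right; right; right; exact hinj (by rw [e, map_mul, ht, neg_one_mul]; module)
        · exact (hscal z u (by rw [e]; module)).imp_right Or.inl
      -- an element of order four squaring to t
      have hiy : ∀ w, y * (i * w) = i * t * (y * w) := fun w => by rw [← hyi]; group
      obtain ⟨r, hrr, hrX⟩ : ∃ r, r * r = t ∧ r ∉ X := by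
        rcases hfib (y * y) 1 (by rw [map_mul, map_one]; exact hswap y hy) with h | h
        · refine ⟨y * i, ?_, fun e => hy ((Subgroup.mul_mem_cancel_right _ hiX).1 e)⟩
          rw [mul_assoc, ← mul_assoc i, mul_assoc i y i, show y * (i * (y * i)) = i * t * (y * (y * i)) from hiy _,
            ← mul_assoc y y, h, one_mul, mul_assoc, htz, ← mul_assoc, hii, one_mul]
        · exact ⟨y, by rw [h, one_mul], hy⟩
      have hri : r * i = t * (i * r) := by
        obtain ⟨w, hw, rfl⟩ := hsplit r y hrX hy
        rw [mul_assoc, hXab w hw i hiX, hiy, ← mul_assoc t, htz i]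
      right; right; right; left
      have hor : orderOf r = 4 := by
        refine orderOf_eq_prime_pow (p := 2) (n := 1) ?_ ?_
        · rw [pow_one, pow_two, hrr]; exact ht1
        · rw [show (2 : ℕ) ^ (1 + 1) = 2 * 2 from rfl, pow_mul, pow_two r, hrr, pow_two, htt]
      have hcard : Nat.card S = 8 := by
        have hb : Function.Bijective (![⟨1, one_mem _⟩, ⟨t, htX⟩, ⟨i, hiX⟩, ⟨t * i, mul_mem htX hiX⟩] : Fin 4 → X) := by
          refine ⟨fun a b e => ?_, fun z => ?_⟩
          · have e1 : t * i ≠ 1 := fun e => hit (by
              have := congrArg (fun w => t * w) e; simpa [← mul_assoc, htt] using this)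
            have e2 : t * i ≠ t := fun h => hi1 (mul_left_cancel (h.trans (mul_one t).symm))
            have e3 : t * i ≠ i := fun h => ht1 (mul_right_cancel (h.trans (one_mul i).symm))
            fin_cases a <;> fin_cases b <;> try rfl
            all_goals
              exfalso
              have e' : _ = (_ : S) := congrArg Subtype.val e
              first | exact ht1 e' | exact ht1 e'.symm | exact hi1 e' | exact hi1 e'.symm | exact hit e' | exact hit e'.symm | exact e1 e' | exact e1 e'.symm | exact e2 e' | exact e2 e'.symm | exact e3 e' | exact e3 e'.symm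
          · rcases hX4 z z.2 with e | e | e | e
            · exact ⟨0, Subtype.ext e.symm⟩
            · exact ⟨1, Subtype.ext e.symm⟩
            · exact ⟨2, Subtype.ext e.symm⟩
            · exact ⟨3, Subtype.ext e.symm⟩
        rw [← hidx, ← Nat.card_congr (Equiv.ofBijective _ hb), Nat.card_fin]
      obtain ⟨e⟩ := mulEquiv_dihedral (C := Subgroup.zpowers r) inferInstance
        (by rw [Nat.card_zpowers, hor, hcard]) fun w hw => by
          by_cases hwX : w ∈ X
          · exact hXexp w hwX
          · obtain ⟨z, hz, rfl⟩ := hsplit w r hwX hrX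
            rcases hX4 z hz with e | e | e | e <;> rw [e] at hw ⊢
            · exact absurd (by rw [mul_one]; exact Subgroup.mem_zpowers r) hw
            · exact absurd (mul_mem (Subgroup.mem_zpowers r) (hrr ▸ mul_mem (Subgroup.mem_zpowers r) (Subgroup.mem_zpowers r))) hw
            · calc r * i * (r * i) = t * (i * r) * (r * i) := by rw [hri]
                _ = t * i * (r * r) * i := by group
                _ = t * (i * t) * i := by rw [hrr]; group
                _ = t * (t * i) * i := by rw [htz i]
                _ = 1 := by rw [← mul_assoc t t, htt, one_mul, hii]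
            · calc r * (t * i) * (r * (t * i)) = t * (r * i) * (t * (r * i)) := by
                    rw [← mul_assoc r t, ← htz r, mul_assoc t r i]
                _ = (r * i) * (r * i) := by
                    rw [htz (r * i), mul_assoc, htz (r * i * t), mul_assoc (r * i) t t, htt, mul_one]
                _ = t * (i * r) * (r * i) := by rw [hri]
                _ = t * i * (r * r) * i := by group
                _ = t * (i * t) * i := by rw [hrr]; group
                _ = t * (t * i) * i := by rw [htz i]
                _ = 1 := by rw [← mul_assoc t t, htt, one_mul, hii]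
      rw [Nat.card_zpowers, hor] at e
      exact ⟨4, by norm_num, ⟨e⟩⟩

end CfsgLib.Perm.Trans.ThreeRes
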