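import Cfsg.Agent.Lib.Perm.Trans.ThreeRes.NoTv.Four
import Cfsg.Agent.Lib.Perm.Trans.ThreeRes.NoTv.Frame
import Cfsg.Agent.Lib.Perm.Trans.ThreeRes.NoTv.Shape
import Cfsg.Agent.Lib.Perm.Trans.ThreeRes.Socle.Basic
import Cfsg.Agent.Lib.FT.NoMinSimple

/-!
# A central involution of a Sylow two-subgroup in a frame
-/

set_option autoImplicit false
set_option linter.all false

namespace CfsgLib.Perm.Trans.ThreeRes

open scoped Matrix commutatorElement
open Matrix Cfsg.Geo CfsgLib.Perm.Trans CfsgLib.Perm.Trans.ThreeDim CfsgLib.Perm.Asch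

variable {F : Type*} [Field F] {P : Subgroup (GL (Fin 3) F)}

local notation "M3" => Matrix (Fin 3) (Fin 3) F
local notation "M2" => Matrix (Fin 2) (Fin 2) F

/-- the conjugation onto the transported group -/
noncomputable def pconjEquiv (Q : GL (Fin 3) F) (P : Subgroup (GL (Fin 3) F)) : P ≃* pconj Q P :=
  P.equivMapOfInjective _ (MulAut.conj Q⁻¹).injective

theorem val_pconjEquiv (Q : GL (Fin 3) F) (g : P) :
    ((pconjEquiv Q P g : GL (Fin 3) F) : M3) =
      ((Q⁻¹ : GL (Fin 3) F) : M3) * ((g : GL (Fin 3) F) : M3) * (Q : M3) := by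
  show ((Q⁻¹ * (g : GL (Fin 3) F) * (Q⁻¹)⁻¹ : GL (Fin 3) F) : M3) = _
  rw [Units.val_mul, Units.val_mul, inv_inv]

theorem conj_scalar_iff (Q : GL (Fin 3) F) (A : M3) (c : F) :
    ((Q⁻¹ : GL (Fin 3) F) : M3) * A * (Q : M3) = c • 1 ↔ A = c • 1 := by
  constructor
  · intro h
    have := congrArg (fun B => (Q : M3) * B * ((Q⁻¹ : GL (Fin 3) F) : M3)) h
    simpa [mul_assoc] using this
  · rintro rfl
    simp

theorem Quasi.pconj (hP : Quasi P) (Q : GL (Fin 3) F) : Quasi (ThreeRes.pconj Q P) := by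
  haveI : (Socle.scal P).Normal := Socle.scal_normal
  haveI : (Socle.scal (ThreeRes.pconj Q P)).Normal := Socle.scal_normal
  have hmap : (Socle.scal P).map (pconjEquiv Q P).toMonoidHom = Socle.scal (ThreeRes.pconj Q P) := by
    ext y
    obtain ⟨g, rfl⟩ := (pconjEquiv Q P).surjective y
    rw [show (pconjEquiv Q P g) = (pconjEquiv Q P).toMonoidHom g from rfl,
      Subgroup.mem_map_iff_mem (f := (pconjEquiv Q P).toMonoidHom) (pconjEquiv Q P).injective]
    simp only [Subgroup.mem_subgroupOf, mem_scalars_iff, MulEquiv.coe_toMonoidHom, val_pconjEquiv, conj_scalar_iff]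
  let e : (P ⧸ Socle.scal P) ≃* (ThreeRes.pconj Q P ⧸ Socle.scal (ThreeRes.pconj Q P)) :=
    QuotientGroup.congr _ _ (pconjEquiv Q P) hmap
  refine ⟨?_, ?_, ?_, ?_, ?_⟩
  · rintro _ ⟨g, hg, rfl⟩
    show Matrix.GeneralLinearGroup.det _ = 1
    have hd : Matrix.GeneralLinearGroup.det g = 1 := hP.le_sl hg
    simp [MulAut.conj_apply, map_mul, hd]
  · rw [ThreeRes.pconj, ← Subgroup.map_commutator, hP.perfect]
  · haveI := hP.simple
    haveI : Nontrivial (ThreeRes.pconj Q P ⧸ Socle.scal (ThreeRes.pconj Q P)) := e.symm.toEquiv.nontrivial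
    exact IsSimpleGroup.isSimpleGroup_of_surjective e.toMonoidHom e.surjective
  · intro h
    refine hP.nonabelian ⟨⟨fun a b => e.injective ?_⟩⟩
    rw [map_mul, map_mul]
    exact h.is_comm.comm _ _
  · obtain ⟨h1, h2⟩ := hP.absIrred
    obtain ⟨cj, hcj⟩ : ∃ cj : GL (Fin 3) F → M3 → M3,
        ∀ B A, cj B A = ((B⁻¹ : GL (Fin 3) F) : M3) * A * (B : M3) := ⟨_, fun B A => rfl⟩
    have hmem : ∀ g ∈ P, cj Q (g : M3) ∈ matrixSet (ThreeRes.pconj Q P) := fun g hg =>
      ⟨Q⁻¹ * g * Q, mem_pconj hg, by simp [hcj]⟩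
    refine ⟨fun W hW => ?_, fun M hM => ?_⟩
    · rcases h1 (W.map (Matrix.toLin' (Q : M3))) (by
        rintro _ ⟨g, hg, rfl⟩ _ ⟨_, ⟨w, hw, rfl⟩, rfl⟩
        refine ⟨cj Q (g : M3) *ᵥ w, hW _ (hmem g hg) ⟨w, hw, by simp [Matrix.toLin'_apply]⟩, ?_⟩
        simp [Matrix.toLin'_apply, hcj, mulVec_mulVec, mul_assoc]) with h | h
      · left
        refine (Submodule.eq_bot_iff _).2 fun w hw => ?_
        have h3 := (Submodule.eq_bot_iff _).1 h _ ⟨w, hw, rfl⟩
        rw [Matrix.toLin'_apply] at h3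
        exact gl_mulVec_eq_zero.1 h3
      · right
        refine Submodule.eq_top_iff'.2 fun v => ?_
        obtain ⟨w, hw, e⟩ : Matrix.toLin' (Q : M3) v ∈ W.map (Matrix.toLin' (Q : M3)) := by
          rw [h]; exact Submodule.mem_top
        rw [Matrix.toLin'_apply, Matrix.toLin'_apply] at e
        have := congrArg (fun z => ((Q⁻¹ : GL (Fin 3) F) : M3) *ᵥ z) e
        simp only [gl_inv_mulVec] at this
        rwa [← this]
    · obtain ⟨c, hc⟩ := h2 (cj Q⁻¹ M) (by
        rintro _ ⟨g, hg, rfl⟩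
        have := congrArg (fun Z => cj Q⁻¹ Z) (hM _ (hmem g hg))
        simpa [hcj, mul_assoc] using this)
      refine ⟨c, ?_⟩
      rw [hcj] at hc
      exact (conj_scalar_iff _ _ _).1 hc

theorem Quasi.commutator_top (hP : Quasi P) : commutator P = ⊤ := by
  refine (Subgroup.map_injective P.subtype_injective) ?_
  rw [Subgroup.map_subtype_commutator, hP.perfect, ← MonoidHom.range_eq_map, Subgroup.range_subtype]

/-- normal subgroups are central or everything -/
theorem Quasi.normal_cases (hP : Quasi P) (N : Subgroup P) [N.Normal] : N ≤ Socle.scal P ∨ N = ⊤ := by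
  haveI := hP.simple
  rcases IsSimpleGroup.eq_bot_or_eq_top_of_normal (N.map (QuotientGroup.mk' (Socle.scal P)))
      (Subgroup.Normal.map inferInstance _ (QuotientGroup.mk'_surjective _)) with h | h
  · left
    rwa [Subgroup.map_eq_bot_iff, QuotientGroup.ker_mk'] at h
  · right
    have hsup : ∀ g : P, ∃ n ∈ N, ∃ z ∈ Socle.scal P, g = n * z := by
      intro g
      obtain ⟨n, hn, e⟩ : ((g : P) : P ⧸ Socle.scal P) ∈ N.map (QuotientGroup.mk' (Socle.scal P)) := by
        rw [h]; exact Subgroup.mem_top _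
      exact ⟨n, hn, n⁻¹ * g, QuotientGroup.eq.1 e, by rw [mul_inv_cancel_left]⟩
    refine eq_top_iff.2 ?_
    rw [← hP.commutator_top, commutator_def, Subgroup.commutator_le]
    intro a _ b _
    obtain ⟨n, hn, z, hz, rfl⟩ := hsup a
    obtain ⟨n', hn', z', hz', rfl⟩ := hsup b
    have hc := fun y => Socle.scal_comm hP hz y
    have hc' := fun y => Socle.scal_comm hP hz' y
    have e : ⁅n * z, n' * z'⁆ = ⁅n, n'⁆ := by
      simp only [commutatorElement_def, _root_.mul_inv_rev]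
      calc n * z * (n' * z') * (z⁻¹ * n⁻¹) * (z'⁻¹ * n'⁻¹)
          = n * (z * (n' * z')) * z⁻¹ * n⁻¹ * z'⁻¹ * n'⁻¹ := by group
        _ = n * n' * (z' * n⁻¹) * z'⁻¹ * n'⁻¹ := by rw [← hc (n' * z')]; group
        _ = n * n' * n⁻¹ * n'⁻¹ := by rw [← hc' n⁻¹]; group
    rw [e, commutatorElement_def]
    exact mul_mem (mul_mem (mul_mem hn hn') (inv_mem hn)) (inv_mem hn')

variable [Finite F]

theorem Quasi.two_dvd_card (hP : Quasi P) : 2 ∣ Nat.card P := by
  by_contra h
  have hodd : Odd (Nat.card P) := Nat.not_even_iff_odd.1 (fun e => h (even_iff_two_dvd.1 e))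
  haveI : Group.IsSolvable P := CfsgLib.FT.isSolvable_of_odd P hodd
  haveI : Group.IsSolvable (P ⧸ Socle.scal P) :=
    Group.isSolvable_of_surjective (f := QuotientGroup.mk' (Socle.scal P)) (QuotientGroup.mk'_surjective _)
  haveI := hP.simple
  exact hP.nonabelian ⟨⟨IsSimpleGroup.comm_iff_isSolvable.2 inferInstance⟩⟩

theorem scal_odd (hP : Quasi P) {z : P} (hz : z ∈ Socle.scal P) {k : ℕ} (h : z ^ 2 ^ k = 1) : z = 1 := by
  rw [← orderOf_eq_one_iff]
  exact Nat.eq_one_of_dvd_coprimes (Nat.Coprime.pow_right k (by norm_num : Nat.Coprime 3 2))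
    (orderOf_dvd_of_pow_eq_one (Socle.scal_cube hP hz)) (orderOf_dvd_of_pow_eq_one h)

/-- the image of a Sylow two-subgroup modulo scalars -/
theorem sylow_quot (hP : Quasi P) [Fact (Nat.Prime 2)] (S : Sylow 2 P) :
    ∃ T : Sylow 2 (P ⧸ Socle.scal P), Nonempty ((S : Subgroup P) ≃* (T : Subgroup (P ⧸ Socle.scal P))) := by
  refine ⟨S.mapSurjective (QuotientGroup.mk'_surjective _), ?_⟩
  rw [Sylow.coe_mapSurjective]
  refine ⟨MulEquiv.ofBijective ((QuotientGroup.mk' (Socle.scal P)).subgroupMap (S : Subgroup P)) ⟨?_, ?_⟩⟩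
  · rw [injective_iff_map_eq_one]
    intro g hg
    have hz : (g : P) ∈ Socle.scal P := (QuotientGroup.eq_one_iff (N := Socle.scal P) _).1 (congrArg Subtype.val hg)
    obtain ⟨k, hk⟩ := S.2 g
    exact Subtype.ext (scal_odd hP hz (congrArg Subtype.val hk))
  · exact (QuotientGroup.mk' (Socle.scal P)).subgroupMap_surjective _

theorem hasDihedralTwo_of_sylow (hP : Quasi P) (S : Sylow 2 P) {n : ℕ} (hn : 2 ≤ n)
    (e : (S : Subgroup P) ≃* DihedralGroup n) : HasDihedralTwo P := by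
  haveI : Fact (Nat.Prime 2) := ⟨Nat.prime_two⟩
  obtain ⟨T, ⟨f⟩⟩ := sylow_quot hP S
  exact ⟨T, n, hn, ⟨f.symm.trans e⟩⟩

variable {p : ℕ} [hp : Fact p.Prime] [CharP F p]

theorem odd_char (hP : Quasi P) (hno : NoTv P) : p ≠ 2 := by
  rintro rfl
  haveI : Fact (Nat.Prime 2) := ⟨Nat.prime_two⟩
  obtain ⟨x, hx⟩ := exists_prime_orderOf_dvd_card' 2 hP.two_dvd_card
  have hx2 : (x : GL (Fin 3) F) ^ 2 = 1 := by
    rw [← SubgroupClass.coe_pow, ← hx, pow_orderOf_eq_one]; rfl
  have hx1 : (x : GL (Fin 3) F) ≠ 1 := fun e => by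
    rw [show x = 1 from Subtype.ext e, orderOf_one] at hx
    norm_num at hx
  refine (regular_data hno x.2 hx1 hx2).2 ?_
  haveI : CharP M3 2 := matrix_charP 2
  rw [sub_pow_char_of_commute 2 (Commute.one_right _), one_pow, ← Units.val_pow_eq_pow_val, hx2, Units.val_one, sub_self]

/-- a Sylow two-subgroup with central involution `mT` after a change of basis -/
theorem sylow_frame (hP : Quasi P) (hp2 : p ≠ 2) :
    ∃ (Q : GL (Fin 3) F) (S : Sylow 2 (pconj Q P)) (t : pconj Q P), t ∈ S ∧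
      ((t : GL (Fin 3) F) : M3) = mT F ∧ ∀ x ∈ S, t * x = x * t := by
  classical
  haveI : Fact (Nat.Prime 2) := ⟨Nat.prime_two⟩
  have h20 : (2 : F) ≠ 0 := Ring.two_ne_zero (fun e0 => hp2 ((CharP.eq F (ringChar.charP F) ‹CharP F p›).symm.trans e0))
  obtain ⟨S⟩ : Nonempty (Sylow 2 P) := inferInstance
  haveI : Nontrivial (S : Subgroup P) := by
    rw [Subgroup.nontrivial_iff_ne_bot]
    intro h
    have := S.card_eq_multiplicity
    rw [h, Subgroup.card_bot] at this
    have h1 := (Nat.Prime.factorization_pos_of_dvd Nat.prime_two Nat.card_pos.ne' hP.two_dvd_card)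
    have h2 := Nat.lt_pow_self (by norm_num : 1 < 2) (n := (Nat.card P).factorization 2)
    omega
  haveI := IsPGroup.center_nontrivial S.2
  have h2c : 2 ∣ Nat.card (Subgroup.center (S : Subgroup P)) := by
    obtain ⟨k, hk⟩ := IsPGroup.iff_card.1 (S.2.to_subgroup (Subgroup.center (S : Subgroup P)))
    cases k with
    | zero =>
      have := Finite.one_lt_card (α := Subgroup.center (S : Subgroup P))
      rw [hk] at this; simp at this
    | succ k => rw [hk, pow_succ]; exact dvd_mul_left 2 _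
  obtain ⟨z, hz⟩ := exists_prime_orderOf_dvd_card' 2 h2c
  obtain ⟨t0, ht0⟩ : ∃ t0 : P, t0 = ((z : (S : Subgroup P)) : P) := ⟨_, rfl⟩
  have hzz : z * z = 1 := by
    have h2 := pow_orderOf_eq_one z
    rw [hz] at h2
    rw [← pow_two, h2]
  have htt : t0 * t0 = 1 := by rw [ht0, ← Subgroup.coe_mul, ← Subgroup.coe_mul, hzz]; rfl
  have ht1 : t0 ≠ 1 := fun e => by
    rw [show z = 1 from Subtype.ext (Subtype.ext (ht0.symm.trans e)), orderOf_one] at hz
    norm_num at hz
  obtain ⟨Q, hQ⟩ := exists_frame_one h20 (t := ((t0 : GL (Fin 3) F) : M3))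
    (by rw [← Units.val_mul, ← Subgroup.coe_mul, htt]; simp)
    (det_one_of_mem hP.le_sl t0.2) (fun e => ht1 (Subtype.ext (Units.ext e)))
  obtain ⟨eQ, heQ⟩ : ∃ e : P ≃* pconj Q P, e = pconjEquiv Q P := ⟨_, rfl⟩
  refine ⟨Q, S.mapSurjective (f := eQ.toMonoidHom) eQ.surjective, eQ t0, ?_, ?_, ?_⟩
  · show eQ t0 ∈ Subgroup.map _ _
    exact ⟨t0, by rw [ht0]; exact SetLike.coe_mem _, rfl⟩
  · rw [heQ, val_pconjEquiv, hQ]
  · rintro _ ⟨x, hx, rfl⟩
    show eQ t0 * eQ x = eQ x * eQ t0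
    rw [← map_mul, ← map_mul, ht0]
    exact congrArg eQ (congrArg Subtype.val (Subgroup.mem_center_iff.1 z.2 ⟨x, hx⟩).symm)

/-- commuting with `mT` means block diagonal -/
theorem isBlk_of_comm (h20 : (2 : F) ≠ 0) {A : M3} (h : mT F * A = A * mT F) : IsBlk A := by
  have two : ∀ x : F, x = -x → x = 0 := fun x h =>
    (mul_eq_zero.1 (by linear_combination h : 2 * x = 0)).resolve_left h20
  have e := fun i j => congrFun (congrFun h i) j
  have a02 := e 0 2; have a12 := e 1 2; have a20 := e 2 0; have a21 := e 2 1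
  simp [mT, Matrix.mul_apply, Fin.sum_univ_three] at a02 a12 a20 a21
  exact ⟨two _ (by linear_combination -a02), two _ (by linear_combination -a12), two _ (by linear_combination a20),
    two _ (by linear_combination a21)⟩

/-- a block diagonal element with scalar block -/
theorem scal_blk (hP : Quasi P) (hno : NoTv P) (hp2 : p ≠ 2) {t : P} (ht : ((t : GL (Fin 3) F) : M3) = mT F)
    {g : P} (hb : IsBlk ((g : GL (Fin 3) F) : M3)) {κ : F} (hκ : blk ((g : GL (Fin 3) F) : M3) = κ • 1) :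
    ∃ z ∈ Socle.scal P, g = z ∨ g = z * t := by
  classical
  haveI := Fintype.ofFinite F
  have h20 : (2 : F) ≠ 0 := Ring.two_ne_zero (fun e0 => hp2 ((CharP.eq F (ringChar.charP F) ‹CharP F p›).symm.trans e0))
  obtain ⟨A, hA⟩ : ∃ A, A = ((g : GL (Fin 3) F) : M3) := ⟨_, rfl⟩
  rw [← hA] at hb hκ
  obtain ⟨b1, b2, b3, b4⟩ := hb
  have q00 := congrFun (congrFun hκ 0) 0
  have q01 := congrFun (congrFun hκ 0) 1
  have q10 := congrFun (congrFun hκ 1) 0
  have q11 := congrFun (congrFun hκ 1) 1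
  simp [blk] at q00 q01 q10 q11
  obtain ⟨μ, hμ⟩ : ∃ μ, μ = A 2 2 := ⟨_, rfl⟩
  have hAs : A = Matrix.diagonal ![κ, κ, μ] := by
    ext i j; fin_cases i <;> fin_cases j <;> simp [q00, q01, q10, q11, b1, b2, b3, b4, hμ]
  have hd := det_one_of_mem hP.le_sl g.2
  rw [← hA, hAs, Matrix.det_diagonal, Fin.prod_univ_three] at hd
  simp at hd
  have hκ0 : κ ≠ 0 := fun e => by rw [e] at hd; simp at hd
  obtain ⟨ρ, hρ⟩ : ∃ ρ, ρ = μ / κ := ⟨_, rfl⟩
  let e3 : Fin 3 → F := Pi.single 2 1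
  have he3 : e3 ⬝ᵥ e3 = 1 := by simp [e3, dotProduct, Fin.sum_univ_three]
  have h1 : IsHom P e3 e3 ρ := ⟨he3, g, g.2, κ, by
    rw [← hA, hAs, hρ]
    ext i j
    fin_cases i <;> fin_cases j <;> simp [hm, e3, vecMulVec_apply, mul_add, mul_div_cancel₀ _ hκ0]⟩
  have h2 : IsHom P e3 e3 (-ρ) := ⟨he3, (g * t : P), (g * t).2, -κ, by
    rw [Subgroup.coe_mul, Units.val_mul, ← hA, hAs, ht, mT_eq, Matrix.diagonal_mul_diagonal, hρ]
    ext i j
    fin_cases i <;> fin_cases j <;> simp [hm, e3, vecMulVec_apply, mul_add, mul_sub, mul_div_cancel₀ _ hκ0]⟩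
  have hρ0 : ρ ≠ 0 := by
    rw [hρ]; refine div_ne_zero (fun e => ?_) hκ0
    rw [e, mul_zero] at hd; exact zero_ne_one hd
  have hρ1 : ρ = 1 ∨ ρ = -1 := by
    by_contra hcon
    push Not at hcon
    have n1 : ρ * ρ ≠ -1 := fun e => no_homology hp2 hP hno h1 (Or.inr e)
    have o1 : orderOf ρ < 6 := not_le.1 fun e => no_homology hp2 hP hno h1 (Or.inl e)
    have o2 : orderOf (-ρ) < 6 := not_le.1 fun e => no_homology hp2 hP hno h2 (Or.inl e)
    haveI : Finite Fˣ := inferInstance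
    have hfin : 0 < orderOf ρ := by
      rw [← Units.val_mk0 hρ0, orderOf_units]; exact orderOf_pos _
    have hp' := pow_orderOf_eq_one ρ
    have hneg : orderOf (-1 : F) = 2 := orderOf_eq_prime (by ring) (fun e => h20 (by linear_combination -e))
    have hodd : ∀ n, orderOf ρ = n → Nat.Coprime 2 n → 2 * n < 6 := fun n hn hc => by
      rw [← neg_one_mul ρ, Commute.orderOf_mul_eq_mul_orderOf_of_coprime (Commute.all _ _) (by rw [hneg, hn]; exact hc),
        hneg, hn] at o2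
      exact o2
    interval_cases h : orderOf ρ
    · exact hcon.1 (by simpa using hp')
    · rcases mul_self_eq_one_iff.1 (show ρ * ρ = 1 by rw [← hp']; ring) with e | e
      · exact hcon.1 e
      · exact hcon.2 e
    · exact absurd (hodd 3 rfl (by norm_num)) (by norm_num)
    · rcases mul_self_eq_one_iff.1 (show ρ * ρ * (ρ * ρ) = 1 by rw [← hp']; ring) with e | e
      · rcases mul_self_eq_one_iff.1 e with e' | e'
        · exact hcon.1 e'
        · exact hcon.2 e'
      · exact n1 e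
    · exact absurd (hodd 5 rfl (by norm_num)) (by norm_num)
  have htt : t * t = 1 := by
    refine Subtype.ext (Units.ext ?_)
    rw [Subgroup.coe_mul, Units.val_mul, ht, mT_eq, Matrix.diagonal_mul_diagonal]
    show _ = (1 : M3)
    rw [← Matrix.diagonal_one]; congr 1; funext i; fin_cases i <;> simp
  rcases hρ1 with e | e
  · have hμκ : μ = κ := by rw [hρ, div_eq_one_iff_eq hκ0] at e; exact e
    refine ⟨g, Subgroup.mem_subgroupOf.2 ((mem_scalars_iff _).2 ⟨Units.mk0 κ hκ0, ?_⟩), Or.inl rfl⟩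
    rw [← hA, hAs, hμκ, Matrix.smul_one_eq_diagonal, Units.val_mk0]
    congr 1; funext i; fin_cases i <;> simp
  · have hμκ : μ = -κ := by rw [hρ, div_eq_iff hκ0] at e; rw [e]; ring
    refine ⟨g * t, Subgroup.mem_subgroupOf.2 ((mem_scalars_iff _).2 ⟨Units.mk0 (-κ) (neg_ne_zero.2 hκ0), ?_⟩),
      Or.inr (by rw [mul_assoc, htt, mul_one])⟩
    rw [Subgroup.coe_mul, Units.val_mul, ← hA, hAs, hμκ, ht, mT_eq, Matrix.diagonal_mul_diagonal,
      Matrix.smul_one_eq_diagonal, Units.val_mk0]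
    congr 1; funext i; fin_cases i <;> simp

/-- the block as a homomorphism -/
theorem exists_bl (h20 : (2 : F) ≠ 0) {t : P} (ht : ((t : GL (Fin 3) F) : M3) = mT F) {C : Subgroup P}
    (hC : ∀ g ∈ C, t * g = g * t) :
    (∀ g ∈ C, IsBlk ((g : GL (Fin 3) F) : M3)) ∧ ∃ bl : C →* M2, ∀ g, bl g = blk (((g : P) : GL (Fin 3) F) : M3) := by
  have hb : ∀ g ∈ C, IsBlk ((g : GL (Fin 3) F) : M3) := fun g hg => isBlk_of_comm h20 (by
    rw [← ht, ← Units.val_mul, ← Units.val_mul, ← Subgroup.coe_mul, ← Subgroup.coe_mul, hC g hg])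
  refine ⟨hb, ⟨{ toFun := fun g => blk (((g : P) : GL (Fin 3) F) : M3), map_one' := ?_, map_mul' := fun a b => ?_ },
    fun g => rfl⟩⟩
  · ext i j; fin_cases i <;> fin_cases j <;> simp [blk]
  · simp only [Subgroup.coe_mul, Units.val_mul]
    exact (blk_mul (hb a a.2) (hb b b.2)).1

/-- the shape of the Sylow two-subgroup -/
theorem sylow_shape (hP : Quasi P) (hno : NoTv P) (hp2 : p ≠ 2) (S : Sylow 2 P) {t : P} (htS : t ∈ S)
    (ht : ((t : GL (Fin 3) F) : M3) = mT F) (hc : ∀ x ∈ S, t * x = x * t) : TwoShape (S : Subgroup P) := by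
  have h20 : (2 : F) ≠ 0 := Ring.two_ne_zero (fun e0 => hp2 ((CharP.eq F (ringChar.charP F) ‹CharP F p›).symm.trans e0))
  obtain ⟨hb, bl, hbl⟩ := exists_bl h20 ht (C := (S : Subgroup P)) hc
  have hblt : bl ⟨t, htS⟩ = -1 := by
    rw [hbl]; ext i j; fin_cases i <;> fin_cases j <;> simp [blk, ht, mT]
  have hscal : ∀ z : (S : Subgroup P), ∀ c : F, bl z = c • 1 → z = 1 ∨ z = ⟨t, htS⟩ := by
    intro z c hz
    obtain ⟨w, hw, e⟩ := scal_blk hP hno hp2 ht (hb z z.2) (by rw [← hbl, hz])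
    have hwS : w ∈ (S : Subgroup P) := by
      rcases e with e | e
      · exact e ▸ z.2
      · exact (Subgroup.mul_mem_cancel_right _ htS).1 (e ▸ z.2)
    obtain ⟨k, hk⟩ := S.2 ⟨w, hwS⟩
    have hw1 : w = 1 := scal_odd hP hw (congrArg Subtype.val hk)
    rw [hw1, one_mul] at e
    exact e.imp Subtype.ext Subtype.ext
  have ht1 : (⟨t, htS⟩ : (S : Subgroup P)) ≠ 1 := fun e => h20 (by
    rw [e, map_one] at hblt
    have := congrFun (congrFun hblt 0) 0
    simp at this
    linear_combination this)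
  refine twoShape_of_maps hp2 S.2 bl ?_ ht1 hblt hscal
  rw [injective_iff_map_eq_one]
  intro z hz
  rcases hscal z 1 (by rw [hz, one_smul]) with e | e
  · exact e
  · exact absurd (by rw [← hblt, ← e, hz] : (-1 : M2) = 1) fun h => h20 (by
      have := congrFun (congrFun h 0) 0
      simp at this
      linear_combination -this)

end CfsgLib.Perm.Trans.ThreeRes
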